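import Cfsg.Agent.Lib.J4Cons78.Model
import Cfsg.Agent.Lib.J4Cons78.ComData

/-! Derivations of M24 on the 2^11: the finite checks. -/

set_option autoImplicit false
set_option exponentiation.threshold 13000
set_option maxRecDepth 20000
set_option Elab.async false

namespace Cfsg.Agent.Lib.J4Cons78

open Cfsg.Agent.Lib.M24Pres (R7)

/-- The bit string after a word, when x becomes x times the element of `a`. -/
def stA (a : ℕ) : List ℕ → ℕ → ℕ
  | [], v => v
  | c :: l, v => stA a l (match c with
    | 0 => Nat.xor (lin mx v) a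
    | 1 => lin my v
    | _ => lin my (lin my v))

/-- The norm of y. -/
def normY (b : ℕ) : ℕ := Nat.xor (Nat.xor (lin my (lin my b)) (lin my b)) b

/-- A correction for y. -/
def solY (b : ℕ) : ℕ := lin my b

theorem solY_eq (b : ℕ) (h : normY b = 0) : Nat.xor (solY b) (lin my (solY b)) = b := by
  have h' : lin my (lin my b) ^^^ lin my b ^^^ b = 0 := h
  show lin my b ^^^ lin my (lin my b) = b
  rw [Nat.xor_comm]
  exact Nat.xor_eq_zero_iff.1 h'

/-- Values for x from corrections fixed by y. -/
def cobX : List (ℕ × ℕ) := [(0, 0), (3, 1), (63, 14), (60, 15), (383, 114), (380, 115), (320, 124), (323, 125), (683, 162), (680, 163), (660, 172), (663, 173), (980, 208), (983, 209), (1003, 222), (1000, 223), (340, 260), (343, 261), (363, 266), (360, 267), (43, 374), (40, 375), (20, 376), (23, 377), (1023, 422), (1020, 423), (960, 424), (963, 425), (640, 468), (643, 469), (703, 474), (700, 475)]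

theorem cobX_ok : (cobX.all fun p => Nat.beq (lin my p.2) p.2 && Nat.blt p.2 2048 &&
    Nat.beq p.1 (Nat.xor p.2 (lin mx p.2))) = true := by decide +kernel

theorem cocycle_ok : ((List.range 2048).all fun a =>
    !Nat.beq (lin mx a) a || !(R7.all fun r => Nat.beq (stA a r 0) 0) ||
      cobX.any fun p => Nat.beq p.1 a || Nat.beq p.1 (Nat.xor a twist)) = true := by decide +kernel

/-- Coordinates of the fixed bit strings of the word of order 11. -/
def w11Coord : List ℕ := [0, 0, 0, 0, 0, 0, 0, 0, 0, 0, 1]

/-- The complementary map. -/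
def w11Left : List ℕ := [27, 0, 430, 665, 524, 71, 769, 138, 165, 490, 896]

theorem w11_ok : ((List.range 11).all fun r =>
    Nat.beq (Nat.xor (lin [e11] (lin w11Coord (2 ^ r))) (lin w11Left (Nat.xor (actW w11 (2 ^ r)) (2 ^ r)))) (2 ^ r)) =
      true ∧
    (w11.all fun c => Nat.blt c 3) = true ∧ Nat.beq (actW w11 e11) e11 = true ∧ Nat.blt e11 2048 = true ∧
    Nat.beq e11 0 = false ∧ Nat.blt twist 2048 = true ∧ (w11Coord.all fun c => Nat.blt c 2) = true := by
  decide +kernel

end Cfsg.Agent.Lib.J4Cons78
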