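import Cfsg.Agent.Lib.J4Cons78.AutNormal
import Cfsg.Agent.Lib.J4Cons78.Cocycle

/-! An automorphism of J4 may be taken to fix y and the 2^11 and to send x to x or to the twisted x. -/

set_option autoImplicit false
set_option exponentiation.threshold 13000
set_option maxRecDepth 20000

namespace Cfsg.Agent.Lib.J4Cons78

open Cfsg.Agent.Lib.M24Pres (R7)

theorem w11_fixed {v : ℕ} (hv : v < 2 ^ 11) (h : actW w11 v = v) : v = 0 ∨ v = e11 := by
  obtain ⟨hu, -, -, -, -, -, hco⟩ := w11_ok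
  have key : ∀ v < 2 ^ 11, lin [e11] (lin w11Coord v) ^^^ lin w11Left (actW w11 v ^^^ v) = v := by
    refine bits_induction ?_ (fun i hi => Nat.eq_of_beq_eq_true (List.all_eq_true.1 hu i (List.mem_range.2 hi)))
      fun u w hu' hw' => ?_
    · have h0 : actW w11 0 = 0 := by simpa using actW_xor w11 0 0
      simp [lin_zero, h0]
    · rw [lin_xor, lin_xor, actW_xor, show actW w11 u ^^^ actW w11 w ^^^ (u ^^^ w) =
        (actW w11 u ^^^ u) ^^^ (actW w11 w ^^^ w) by simp [Nat.xor_assoc, Nat.xor_left_comm], lin_xor]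
      calc lin [e11] (lin w11Coord u) ^^^ lin [e11] (lin w11Coord w) ^^^
            (lin w11Left (actW w11 u ^^^ u) ^^^ lin w11Left (actW w11 w ^^^ w))
          = (lin [e11] (lin w11Coord u) ^^^ lin w11Left (actW w11 u ^^^ u)) ^^^
            (lin [e11] (lin w11Coord w) ^^^ lin w11Left (actW w11 w ^^^ w)) := by
            simp [Nat.xor_assoc, Nat.xor_left_comm]
        _ = u ^^^ w := by rw [hu', hw']
  have h1 := key v hv
  rw [h, Nat.xor_self, lin_zero, Nat.xor_zero] at h1
  have hlt : lin w11Coord v < 2 := lin_lt w11Coord v 1 fun r hr => Nat.blt_eq.mp (List.all_eq_true.1 hco r hr)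
  rcases (by omega : lin w11Coord v = 0 ∨ lin w11Coord v = 1) with h2 | h2 <;> rw [h2] at h1
  · exact Or.inl (by rw [← h1, lin_zero])
  · exact Or.inr (by rw [← h1]; rfl)

variable (hs : IsSimpleGroup G)
include hs

/-- Evaluation of a word at x times an element of the 2^11. -/
theorem eval_stA {X' : G} {a : ℕ} (ha : a < 2 ^ 11) (hX : X' = gX * emb a) : ∀ (l : List ℕ),
    (∀ c ∈ l, c < 3) → ∀ v < 2 ^ 11,
      emb v * (l.map (Cfsg.Agent.Lib.M24Pres.lval X' gY)).prod = gval l * emb (stA a l v) ∧ stA a l v < 2 ^ 11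
  | [], _, v, hv => ⟨by simp [gval, stA], hv⟩
  | c :: l, h, v, hv => by
    have hl : ∀ d ∈ l, d < 3 := fun d hd => h d (List.mem_cons_of_mem c hd)
    have key : ∀ (w : ℕ) (L : G), w < 2 ^ 11 → L = Cfsg.Agent.Lib.M24Pres.lval X' gY c →
        emb v * L = glett c * emb w →
        emb v * ((c :: l).map (Cfsg.Agent.Lib.M24Pres.lval X' gY)).prod = gval (c :: l) * emb (stA a l w) ∧
          stA a l w < 2 ^ 11 := by
      intro w L hw hL e
      obtain ⟨e2, h2⟩ := eval_stA ha hX l hl w hw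
      refine ⟨?_, h2⟩
      rw [List.map_cons, List.prod_cons, ← hL, ← mul_assoc, e, mul_assoc, e2, gval_cons, mul_assoc]
    match c, h c List.mem_cons_self with
    | 0, _ =>
      refine key _ X' (Nat.xor_lt_two_pow (lin_mx_lt v) ha) rfl ?_
      show emb v * X' = gX * emb (lin mx v ^^^ a)
      rw [hX, emb_xor hs, ← emb_conj_x hs v hv]; group
    | 1, _ =>
      refine key _ gY (lin_my_lt v) rfl ?_
      show emb v * gY = gY * emb (lin my v)
      rw [← emb_conj_y hs v hv]; group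
    | 2, _ =>
      refine key _ gY⁻¹ (lin_my_lt _) rfl ?_
      have h2 := emb_conj_word hs [2] (by simp) v hv
      simp only [gval, List.map_cons, List.map_nil, List.prod_cons, List.prod_nil, mul_one, glett, actW] at h2
      show emb v * gY⁻¹ = gY⁻¹ * emb (lin my (lin my v))
      rw [← h2]; group

theorem gval_w11_conj {α : MulAut G} (hA : ∀ a ∈ subA hs, α a ∈ subA hs)
    (hM : ∀ m ∈ subM, m⁻¹ * α m ∈ subA hs) {w : List ℕ} (hw : ∀ c ∈ w, c < 3) {v z : ℕ} (hv : v < 2 ^ 11)
    (hz : z < 2 ^ 11) (e : α (emb v) = emb z) : α (emb (actW w v)) = emb (actW w z) := by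
  have hm : gval w ∈ subM := by
    rw [gval_eq_wval w hw]; exact Cfsg.Agent.Lib.M24Pres.wval_mem gX gY w
  obtain ⟨p, hp, hp'⟩ := hM _ hm
  have hα : α (gval w) = gval w * emb p := by rw [hp']; group
  rw [← emb_conj_word hs w hw v hv, map_mul, map_mul, map_inv, e, hα, ← emb_conj_word hs w hw z hz]
  rw [mul_inv_rev, emb_inv hs]
  have hc := (emb_comm hs p (actW w z)).eq
  rw [← emb_conj_word hs w hw z hz] at hc
  calc emb p * (gval w)⁻¹ * emb z * (gval w * emb p)
      = emb p * ((gval w)⁻¹ * emb z * gval w) * emb p := by group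
    _ = (gval w)⁻¹ * emb z * gval w * (emb p * emb p) := by rw [hc]; group
    _ = (gval w)⁻¹ * emb z * gval w := by rw [emb_self hs, mul_one]

theorem fix_subA {α : MulAut G} (hA : ∀ a ∈ subA hs, α a ∈ subA hs)
    (hM : ∀ m ∈ subM, m⁻¹ * α m ∈ subA hs) : ∀ v < 2 ^ 11, α (emb v) = emb v := by
  obtain ⟨-, hw, hfix, helt, he0, -, -⟩ := w11_ok
  simp only [List.all_eq_true, Nat.blt_eq] at hw
  have he : e11 < 2 ^ 11 := Nat.blt_eq.mp helt
  have hne : e11 ≠ 0 := fun h => by rw [h] at he0; simp at he0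
  obtain ⟨z, hz, hz'⟩ := hA _ (emb_mem hs e11)
  have h1 := gval_w11_conj hs hA hM hw he hz hz'.symm
  rw [Nat.eq_of_beq_eq_true hfix, ← hz'] at h1
  have hzfix : actW w11 z = z := (emb_inj hs hz (actW_lt _ _ hz) h1).symm
  have hee : α (emb e11) = emb e11 := by
    rcases w11_fixed hz hzfix with h | h
    · exfalso
      rw [h, emb_zero] at hz'
      exact hne (emb_eq_one hs he ((MulEquiv.map_eq_one_iff α).1 hz'.symm))
    · rw [← hz', h]
  intro v hv
  refine (irred (P := fun w => w < 2 ^ 11 ∧ α (emb w) = emb w) ⟨by norm_num, by rw [emb_zero, map_one]⟩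
    (fun u w hu hw => ⟨Nat.xor_lt_two_pow hu.1 hw.1, by rw [emb_xor hs, map_mul, hu.2, hw.2]⟩)
    (fun w hw' hPw => ⟨lin_my_lt _, ?_⟩) he hne ⟨he, hee⟩ v hv).2
  have := gval_w11_conj hs hA hM (w := [0, 1]) (by simp) hw' hw' hPw.2
  exact this

variable (hc : Nat.card G = ordG)
include hc

/-- The normalised automorphism. -/
theorem exists_norm (φ : MulAut G) : ∃ g : G, (∀ v < 2 ^ 11, (MulAut.conj g * φ) (emb v) = emb v) ∧
    (MulAut.conj g * φ) gY = gY ∧
    ((MulAut.conj g * φ) gX = gX ∨ (MulAut.conj g * φ) gX = gX * emb twist) := by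
  obtain ⟨g, hA, hM⟩ := exists_mod_A hs hc φ
  set α : MulAut G := MulAut.conj g * φ with hα
  have hfix := fix_subA hs hA hM
  obtain ⟨b, hb, hb'⟩ := hM gY (Subgroup.subset_closure (by simp))
  have hαy : α gY = gY * emb b := by rw [hb']; group
  -- the relation on y
  have hnorm : normY b = 0 := by
    refine emb_eq_one hs (Nat.xor_lt_two_pow (Nat.xor_lt_two_pow (lin_my_lt _) (lin_my_lt _)) hb) ?_
    have h3 : α gY * α gY * α gY = 1 := by rw [← map_mul, ← map_mul, gY_cube hs, map_one]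
    show emb (lin my (lin my b) ^^^ lin my b ^^^ b) = 1
    rw [emb_xor hs, emb_xor hs, ← h3, hαy, ← emb_conj_y hs _ (lin_my_lt b), ← emb_conj_y hs b hb]
    have h := gY_cube hs
    calc gY⁻¹ * (gY⁻¹ * emb b * gY) * gY * (gY⁻¹ * emb b * gY) * emb b
        = (gY * gY * gY)⁻¹ * (gY * emb b * (gY * emb b) * (gY * emb b)) := by group
      _ = gY * emb b * (gY * emb b) * (gY * emb b) := by rw [h, inv_one, one_mul]
  set c := solY b
  have hcs : c ^^^ lin my c = b := solY_eq b hnorm
  have hclt : c < 2 ^ 11 := lin_my_lt b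
  have move : ∀ (e : ℕ) (β : MulAut G), e < 2 ^ 11 → (∀ v < 2 ^ 11, β (emb v) = emb v) →
      ∀ v < 2 ^ 11, (MulAut.conj (emb e) * β) (emb v) = emb v := fun e β _ hβ v hv => by
    rw [MulAut.mul_apply, hβ v hv, MulAut.conj_apply, (emb_comm hs e v).eq, mul_inv_cancel_right]
  set α₁ : MulAut G := MulAut.conj (emb c) * α with hα₁
  have hfix1 : ∀ v < 2 ^ 11, α₁ (emb v) = emb v := move c α hclt hfix
  have hy1 : α₁ gY = gY := by
    rw [hα₁, MulAut.mul_apply, hαy, MulAut.conj_apply, emb_inv hs]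
    have : emb c * gY = gY * emb (lin my c) := by rw [← emb_conj_y hs c hclt]; group
    rw [← mul_assoc, this, mul_assoc, mul_assoc, ← mul_assoc (emb (lin my c)), ← emb_xor hs, ← emb_xor hs, ← hcs,
      show lin my c ^^^ (c ^^^ lin my c) ^^^ c = 0 by
        rw [Nat.xor_comm c, ← Nat.xor_assoc, Nat.xor_self, Nat.zero_xor, Nat.xor_self], emb_zero, mul_one]
  -- the value at x
  obtain ⟨a, ha, hx1⟩ : ∃ a < 2 ^ 11, α₁ gX = gX * emb a := by
    obtain ⟨p, hp, hp'⟩ := hM gX (Subgroup.subset_closure (by simp))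
    refine ⟨lin mx c ^^^ p ^^^ c, Nat.xor_lt_two_pow (Nat.xor_lt_two_pow (lin_mx_lt c) hp) hclt, ?_⟩
    rw [hα₁, MulAut.mul_apply, MulAut.conj_apply, emb_inv hs, show α gX = gX * emb p by rw [hp']; group,
      emb_xor hs, emb_xor hs, ← emb_conj_x hs c hclt]
    group
  have hxa : lin mx a = a := by
    have h2 : α₁ gX * α₁ gX = 1 := by rw [← map_mul, gX_sq, map_one]
    refine Nat.xor_eq_zero_iff.1 (emb_eq_one hs (Nat.xor_lt_two_pow (lin_mx_lt a) ha) ?_)
    rw [emb_xor hs, ← h2, hx1, ← emb_conj_x hs a ha, ← mul_eq_one_iff_eq_inv.1 gX_sq]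
    simp only [mul_assoc]
  have hrel : (R7.all fun r => Nat.beq (stA a r 0) 0) = true := by
    refine List.all_eq_true.2 fun r hr => ?_
    have hlt : ∀ d ∈ r, d < 3 := by
      have h := List.all_eq_true.1 R7_codes r hr
      simp only [Bool.and_eq_true, List.all_eq_true, Nat.blt_eq] at h
      exact h.2
    obtain ⟨e, hst⟩ := eval_stA hs ha hx1 r hlt 0 (by norm_num)
    have h1 : (r.map (Cfsg.Agent.Lib.M24Pres.lval (α₁ gX) gY)).prod = 1 := by
      have := Cfsg.Agent.Lib.M24Pres.wval_map α₁.toMonoidHom gX gY r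
      rw [rels7 hs r hr, map_one] at this
      conv_lhs => rw [← hy1]
      exact this.symm
    rw [emb_zero, one_mul, h1, gval_eq_wval r hlt, rels7 hs r hr, one_mul] at e
    rw [emb_eq_one hs hst e.symm]; exact Nat.beq_refl 0
  have hcheck := List.all_eq_true.1 cocycle_ok a (List.mem_range.2 ha)
  rw [hxa, show Nat.beq a a = true from Nat.beq_refl a, hrel] at hcheck
  simp only [Bool.not_true, Bool.false_or] at hcheck
  obtain ⟨⟨d, e⟩, hde, hcase⟩ := List.any_eq_true.1 hcheck
  have hdeOk := List.all_eq_true.1 cobX_ok _ hde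
  simp only [Bool.and_eq_true, Nat.blt_eq] at hdeOk
  obtain ⟨⟨hey, helt⟩, hd⟩ := hdeOk
  have hey := Nat.eq_of_beq_eq_true hey
  have hd : d = e ^^^ lin mx e := Nat.eq_of_beq_eq_true hd
  refine ⟨emb e * (emb c * g), ?_, ?_, ?_⟩
  all_goals rw [show MulAut.conj (emb e * (emb c * g)) * φ = MulAut.conj (emb e) * α₁ by
    rw [hα₁, hα, map_mul, map_mul, mul_assoc, mul_assoc]]
  · exact move e α₁ helt hfix1
  · rw [MulAut.mul_apply, hy1, MulAut.conj_apply, emb_inv hs]
    have : emb e * gY = gY * emb e := by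
      conv_rhs => rw [show emb e = emb (lin my e) by rw [hey], ← emb_conj_y hs e helt]
      group
    rw [this, mul_assoc, emb_self hs, mul_one]
  · have hval : (MulAut.conj (emb e) * α₁) gX = gX * emb (lin mx e ^^^ a ^^^ e) := by
      rw [MulAut.mul_apply, hx1, MulAut.conj_apply, emb_inv hs, emb_xor hs, emb_xor hs, ← emb_conj_x hs e helt]
      group
    simp only [Bool.or_eq_true] at hcase
    rcases hcase with h | h
    · left
      rw [hval, ← Nat.eq_of_beq_eq_true h, hd, Nat.xor_comm e, ← Nat.xor_assoc, Nat.xor_self, Nat.zero_xor,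
        Nat.xor_self, emb_zero, mul_one]
    · right
      have h' : d = a ^^^ twist := Nat.eq_of_beq_eq_true h
      rw [hval, show lin mx e ^^^ a ^^^ e = twist from ?_]
      rw [Nat.xor_comm (lin mx e), Nat.xor_assoc, Nat.xor_comm (lin mx e), ← hd, h', ← Nat.xor_assoc, Nat.xor_self,
        Nat.zero_xor]

end Cfsg.Agent.Lib.J4Cons78
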