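import Mathlib

/-! Products of commuting involutions indexed by the bits of a natural number, and linear maps on bit strings. -/

set_option autoImplicit false

namespace Cfsg.Agent.Lib.J4Cons78

/-- Elements which commute pairwise and square to one, indexed below `n`. -/
structure Elem {G : Type*} [Group G] (b : ℕ → G) (n : ℕ) : Prop where
  comm : ∀ i j, i < n → j < n → Commute (b i) (b j)
  sq : ∀ i, i < n → b i * b i = 1

variable {G : Type*} [Group G]

/-- The product of the `b i` over the set bits `i < n` of `a`. -/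
def prodBits (b : ℕ → G) (a : ℕ) : ℕ → G
  | 0 => 1
  | n + 1 => prodBits b a n * (if a.testBit n then b n else 1)

theorem commute_prodBits {b : ℕ → G} (z : G) (a : ℕ) :
    ∀ n, (∀ i, i < n → Commute z (b i)) → Commute z (prodBits b a n)
  | 0, _ => Commute.one_right z
  | n + 1, h => (commute_prodBits z a n fun i hi => h i (by omega)).mul_right (by
      split
      exacts [h n (by omega), Commute.one_right z])

theorem prodBits_xor {b : ℕ → G} (a c : ℕ) : ∀ n, Elem b n →
    prodBits b (a ^^^ c) n = prodBits b a n * prodBits b c n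
  | 0, _ => (one_mul (1 : G)).symm
  | n + 1, h => by
    have ih := prodBits_xor a c n ⟨fun i j hi hj => h.comm i j (by omega) (by omega),
      fun i hi => h.sq i (by omega)⟩
    have hc : Commute (b n) (prodBits b c n) :=
      commute_prodBits _ _ _ fun i hi => h.comm n i (by omega) (by omega)
    have h2 := h.sq n (by omega)
    simp only [prodBits, Nat.testBit_xor, ih]
    rcases Bool.eq_false_or_eq_true (a.testBit n) with ha | ha <;>
      rcases Bool.eq_false_or_eq_true (c.testBit n) with hb | hb <;> simp [ha, hb, mul_assoc]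
    · rw [← mul_assoc (b n), hc.eq, mul_assoc, h2, mul_one]
    · rw [hc.eq]

theorem prodBits_zero (b : ℕ → G) : ∀ n, prodBits b 0 n = 1
  | 0 => rfl
  | n + 1 => by simp [prodBits, prodBits_zero b n]

theorem prodBits_unit (b : ℕ → G) : ∀ {n i : ℕ}, i < n → prodBits b (2 ^ i) n = b i := by
  have hz : ∀ n i : ℕ, n ≤ i → prodBits b (2 ^ i) n = 1 := by
    intro n
    induction n with
    | zero => intro i _; rfl
    | succ n ih =>
      intro i hi
      simp [prodBits, ih i (by omega), show i ≠ n by omega]
  intro n
  induction n with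
  | zero => intro i hi; omega
  | succ n ih =>
    intro i hi
    rcases Nat.lt_or_ge i n with h | h
    · simp [prodBits, ih h, show i ≠ n by omega]
    · obtain rfl : i = n := by omega
      simp [prodBits, hz i i le_rfl]

theorem prodBits_map {H : Type*} [Group H] (f : G →* H) (b : ℕ → G) (a : ℕ) :
    ∀ n, f (prodBits b a n) = prodBits (fun i => f (b i)) a n
  | 0 => map_one f
  | n + 1 => by
    rw [prodBits, map_mul, prodBits_map f b a n, prodBits]
    split <;> simp

theorem prodBits_congr (b b' : ℕ → G) (a : ℕ) :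
    ∀ n, (∀ i, i < n → b i = b' i) → prodBits b a n = prodBits b' a n
  | 0, _ => rfl
  | n + 1, h => by rw [prodBits, prodBits, prodBits_congr b b' a n fun i hi => h i (by omega), h n (by omega)]

theorem prodBits_mem (b : ℕ → G) (S : Subgroup G) (a : ℕ) :
    ∀ n, (∀ i, i < n → b i ∈ S) → prodBits b a n ∈ S
  | 0, _ => S.one_mem
  | n + 1, h => S.mul_mem (prodBits_mem b S a n fun i hi => h i (by omega)) (by
      split
      exacts [h n (by omega), S.one_mem])

/-- The image of the bit string `v` under the linear map with rows `m`. -/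
def lin : List ℕ → ℕ → ℕ
  | [], _ => 0
  | r :: m, v => Nat.xor (bif Nat.testBit v 0 then r else 0) (lin m (v / 2))

theorem lin_xor : ∀ (m : List ℕ) (u v : ℕ), lin m (u ^^^ v) = lin m u ^^^ lin m v
  | [], _, _ => by simp [lin]
  | r :: m, u, v => by
    have ih := lin_xor m (u / 2) (v / 2)
    rw [← Nat.xor_div_two] at ih
    simp only [lin, ih, Nat.testBit_xor]
    show (bif u.testBit 0 ^^ v.testBit 0 then r else 0) ^^^ (lin m (u / 2) ^^^ lin m (v / 2)) =
      ((bif u.testBit 0 then r else 0) ^^^ lin m (u / 2)) ^^^ ((bif v.testBit 0 then r else 0) ^^^ lin m (v / 2))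
    rcases Bool.eq_false_or_eq_true (u.testBit 0) with h | h <;>
      rcases Bool.eq_false_or_eq_true (v.testBit 0) with h' | h' <;>
      simp [h, h', Nat.xor_assoc, Nat.xor_left_comm]

theorem lin_zero : ∀ m : List ℕ, lin m 0 = 0
  | [] => rfl
  | r :: m => by simp [lin, lin_zero m]

theorem lin_unit : ∀ (m : List ℕ) (i : ℕ), i < m.length → lin m (2 ^ i) = m.getD i 0
  | [], i, h => by simp at h
  | r :: m, 0, _ => by simp [lin, lin_zero m]
  | r :: m, i + 1, h => by
    have : 2 ^ (i + 1) / 2 = 2 ^ i := by rw [pow_succ]; omega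
    simp [lin, this, lin_unit m i (by simpa using h)]

/-- Induction over bit strings of a given length. -/
theorem bits_induction {n : ℕ} {P : ℕ → Prop} (h0 : P 0) (hu : ∀ i < n, P (2 ^ i))
    (hx : ∀ u v, P u → P v → P (u ^^^ v)) : ∀ v < 2 ^ n, P v := by
  induction n with
  | zero => intro v hv; obtain rfl : v = 0 := by simpa using hv
            exact h0
  | succ n ih =>
    intro v hv
    have ih' := ih fun i hi => hu i (by omega)
    rcases Nat.lt_or_ge v (2 ^ n) with h | h
    · exact ih' v h
    · have e : v = 2 ^ n ^^^ (v ^^^ 2 ^ n) := by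
        rw [Nat.xor_comm v, ← Nat.xor_assoc, Nat.xor_self, Nat.zero_xor]
      have hb : v.testBit n = true :=
        Nat.testBit_of_two_pow_le_and_two_pow_add_one_gt h hv
      rw [e]
      refine hx _ _ (hu n (by omega)) (ih' _ (Nat.lt_pow_two_of_testBit _ fun i hi => ?_))
      rcases Nat.lt_or_ge n i with h' | h'
      · simp [show n ≠ i by omega,
          Nat.testBit_lt_two_pow (lt_of_lt_of_le hv (Nat.pow_le_pow_right (by norm_num) h'))]
      · obtain rfl : i = n := by omega
        simp [hb]

theorem lin_lt : ∀ (m : List ℕ) (v N : ℕ), (∀ r ∈ m, r < 2 ^ N) → lin m v < 2 ^ N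
  | [], _, N, _ => Nat.two_pow_pos N
  | r :: m, v, N, h => Nat.xor_lt_two_pow (by
      cases Nat.testBit v 0
      exacts [Nat.two_pow_pos N, h r List.mem_cons_self])
      (lin_lt m (v / 2) N fun q hq => h q (List.mem_cons_of_mem r hq))

/-- Conjugation of products of bits, from the images of the single bits. -/
theorem conj_prodBits {b : ℕ → G} {n : ℕ} (hb : Elem b n) (g : G) (m : List ℕ) (hm : n = m.length)
    (hg : ∀ i, i < n → g⁻¹ * b i * g = prodBits b (m.getD i 0) n) :
    ∀ v < 2 ^ n, g⁻¹ * prodBits b v n * g = prodBits b (lin m v) n := by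
  refine bits_induction (by simp [prodBits_zero, lin_zero]) (fun i hi => ?_) fun u v hu hv => ?_
  · rw [prodBits_unit b hi, lin_unit m i (hm ▸ hi)]; exact hg i hi
  · rw [lin_xor, prodBits_xor _ _ _ hb, prodBits_xor _ _ _ hb, ← hu, ← hv]; group

end Cfsg.Agent.Lib.J4Cons78
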