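import Cfsg.Agent.Lib.J4Rep.Code
import Cfsg.Agent.Lib.J4Cons78.Bits
import Cfsg.Agent.Lib.J4Cons78.ComData

/-! Soundness of a certificate for the centraliser algebra of two matrices of size 112. -/

set_option autoImplicit false
set_option exponentiation.threshold 13000
set_option maxRecDepth 20000

namespace Cfsg.Agent.Lib.J4Cons78

open Cfsg.Agent.Lib.J4Rep

/-- A row times a matrix. -/
def rowMul (v g : ℕ) : ℕ := lane (mul lanesMask v g) 0

/-- The generator of a letter. -/
def ComCert.gen (C : ComCert) (s : ℕ) : ℕ := bif Nat.beq s 0 then C.gX else C.gW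

/-- The sum of the words. -/
def sumWords (C : ComCert) : List (List ℕ) → Bool → ℕ
  | [], f => bif f then one else 0
  | w :: ws, f => Nat.xor (evalWord lanesMask one (w.map C.gen)) (sumWords C ws f)

/-- Pack rows. -/
def packRows : List ℕ → ℕ
  | [] => 0
  | r :: l => Nat.xor r (Nat.shiftLeft (packRows l) 112)

/-- The offset of a block of unknowns. -/
def ComCert.off (C : ComCert) (q : ℕ) : ℕ := ((C.elems.take q).map fun e => e.ker.length).sum

/-- The check on the tree. -/
def treeOk (C : ComCert) : Bool :=
  (List.range 112).all fun i =>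
    let p := (C.tree.getD i (0, 0)).1
    let s := (C.tree.getD i (0, 0)).2
    bif Nat.beq s 2 then
      Nat.blt p C.elems.length && Nat.beq (lane C.rowsB i) (C.seeds.getD p 0) &&
        (List.range C.elems.length).all fun q =>
          (List.range (C.elems.getD q ⟨[], false, 0, 0, 0, []⟩).ker.length).all fun k =>
            Nat.beq (lane (C.rows.getD (C.off q + k) 0) i)
              (bif Nat.beq p q then (C.elems.getD q ⟨[], false, 0, 0, 0, []⟩).ker.getD k 0 else 0)
    else
      Nat.blt p i && Nat.beq (lane C.rowsB i) (rowMul (lane C.rowsB p) (C.gen s)) &&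
        C.rows.all fun R => Nat.beq (lane R i) (rowMul (lane R p) (C.gen s))

/-- The check on an algebra element. -/
def elemOk (C : ComCert) (seed : ℕ) (e : ComElem) : Bool :=
  Nat.beq (sumWords C e.words e.plusOne) e.code &&
    Nat.beq (Nat.xor (mul lanesMask e.code e.pinv) one) (mul lanesMask e.coef (packRows e.ker)) &&
    Nat.beq (rowMul seed e.code) 0 && Nat.blt seed (2 ^ 112) &&
    (List.range 112).all fun k => Nat.beq (lane (packRows e.ker) k) (e.ker.getD k 0)

/-- All checks. -/
def certOk (C : ComCert) : Bool :=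
  treeOk C &&
    ((List.range C.elems.length).all fun q => elemOk C (C.seeds.getD q 0) (C.elems.getD q ⟨[], false, 0, 0, 0, []⟩)) &&
    Nat.beq (mul lanesMask C.invB C.rowsB) one && Nat.beq C.rows.length (C.off C.elems.length) &&
    Nat.beq C.mats.length C.rows.length && Nat.beq C.difX.length C.rows.length &&
    Nat.beq C.difW.length C.rows.length &&
    (List.range C.rows.length).all fun k =>
      Nat.beq (C.mats.getD k 0) (mul lanesMask C.invB (C.rows.getD k 0)) &&
      Nat.beq (C.difX.getD k 0)
        (Nat.xor (mul lanesMask (C.mats.getD k 0) C.gX) (mul lanesMask C.gX (C.mats.getD k 0))) &&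
      Nat.beq (C.difW.getD k 0)
        (Nat.xor (mul lanesMask (C.mats.getD k 0) C.gW) (mul lanesMask C.gW (C.mats.getD k 0))) &&
      Nat.blt (C.difX.getD k 0) (2 ^ (112 * 112)) && Nat.blt (C.difW.getD k 0) (2 ^ (112 * 112))

/-- The vector of a code. -/
def vec (v : ℕ) : Fin 112 → ZMod 2 := fun j => bit (v.testBit j.1)

theorem lane_xor (a b i : ℕ) : lane (a ^^^ b) i = lane a i ^^^ lane b i := by
  apply Nat.eq_of_testBit_eq
  intro j
  simp only [testBit_lane, Nat.testBit_xor]
  cases decide (j < 112) <;> simp

theorem lane_zero (i : ℕ) : lane 0 i = 0 := by simp [lane_eq]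

theorem vec_xor (a b : ℕ) : vec (a ^^^ b) = vec a + vec b := by
  funext j; simp [vec, Nat.testBit_xor, bit_xor]

theorem vec_zero : vec 0 = 0 := by funext j; simp [vec, bit]

theorem val_xor (a b : ℕ) : val (a ^^^ b) = val a + val b := by
  ext i j
  show bit ((lane (a ^^^ b) i.1).testBit j.1) = _
  rw [lane_xor, Nat.testBit_xor, bit_xor]; rfl

theorem val_zero : val 0 = 0 := by
  ext i j; simp [val, lane_zero, bit]

theorem val_row (a : ℕ) (i : Fin 112) : val a i = vec (lane a i.1) := rfl

theorem vec_rowMul {v : ℕ} (hv : v < 2 ^ 112) (g : ℕ) : Matrix.vecMul (vec v) (val g) = vec (rowMul v g) := by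
  have h : vec (rowMul v g) = (val v * val g) ⟨0, by norm_num⟩ := by rw [← val_mul]; rfl
  have h0 : val v ⟨0, by norm_num⟩ = vec v := by
    rw [val_row, lane_eq, Nat.mul_zero, pow_zero, Nat.div_one, Nat.mod_eq_of_lt hv]
  rw [h]
  funext j
  rw [Matrix.mul_apply, ← h0]
  rfl

theorem lane_lin : ∀ (l : List ℕ) (m i : ℕ), lane (lin l m) i = lin (l.map fun R => lane R i) m
  | [], m, i => by simp [lin, lane_zero]
  | r :: l, m, i => by
    show lane ((bif m.testBit 0 then r else 0) ^^^ lin l (m / 2)) i =
      (bif m.testBit 0 then lane r i else 0) ^^^ lin (l.map fun R => lane R i) (m / 2)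
    rw [lane_xor, lane_lin l (m / 2) i]
    cases m.testBit 0 <;> simp [lane_zero]

theorem val_lin_mul : ∀ (L M : List ℕ) (inv m : ℕ), L.length = M.length →
    (∀ k < L.length, val (M.getD k 0) = val inv * val (L.getD k 0)) →
    val (lin M m) = val inv * val (lin L m)
  | [], [], inv, m, _, _ => by simp [lin, val_zero]
  | [], _ :: _, _, _, h, _ => by simp at h
  | _ :: _, [], _, _, h, _ => by simp at h
  | r :: L, q :: M, inv, m, h, hk => by
    show val ((bif m.testBit 0 then q else 0) ^^^ lin M (m / 2)) =
      val inv * val ((bif m.testBit 0 then r else 0) ^^^ lin L (m / 2))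
    rw [val_xor, val_xor, mul_add, val_lin_mul L M inv (m / 2) (by simpa using h) fun k hk' => by
      simpa using hk (k + 1) (by simp; omega)]
    have h0 : val q = val inv * val r := by
      have h := hk 0 (Nat.succ_pos _)
      simp only [List.getD_cons_zero] at h
      exact h
    cases m.testBit 0
    · simp only [cond_false, val_zero, mul_zero]
    · simp only [cond_true, h0]

theorem val_lin_dif : ∀ (M D : List ℕ) (g m : ℕ), M.length = D.length →
    (∀ k < M.length, val (D.getD k 0) = val (M.getD k 0) * val g + val g * val (M.getD k 0)) →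
    val (lin D m) = val (lin M m) * val g + val g * val (lin M m)
  | [], [], g, m, _, _ => by simp [lin, val_zero]
  | [], _ :: _, _, _, h, _ => by simp at h
  | _ :: _, [], _, _, h, _ => by simp at h
  | r :: L, q :: D, g, m, h, hk => by
    show val ((bif m.testBit 0 then q else 0) ^^^ lin D (m / 2)) =
      val ((bif m.testBit 0 then r else 0) ^^^ lin L (m / 2)) * val g +
        val g * val ((bif m.testBit 0 then r else 0) ^^^ lin L (m / 2))
    rw [val_xor, val_xor, val_lin_dif L D g (m / 2) (by simpa using h) fun k hk' => by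
      simpa using hk (k + 1) (by simp; omega)]
    cases m.testBit 0
    · simp [val_zero]
    · have h0 : val q = val r * val g + val g * val r := by simpa using hk 0 (by simp)
      simp only [cond_true, h0, add_mul, mul_add]
      abel

theorem vec_linear {v : ℕ} (g : ℕ) (M : Mat112) (hM : Commute M (val g)) (hv : v < 2 ^ 112) :
    Matrix.vecMul (vec (rowMul v g)) M = Matrix.vecMul (Matrix.vecMul (vec v) M) (val g) := by
  rw [← vec_rowMul hv, Matrix.vecMul_vecMul, Matrix.vecMul_vecMul, hM.eq]

theorem exists_lin_ker {e : ComElem}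
    (he : ((List.range 112).all fun k => Nat.beq (lane (packRows e.ker) k) (e.ker.getD k 0)) = true)
    (q : Fin 112 → ZMod 2) :
    ∃ m < 2 ^ e.ker.length, Matrix.vecMul q (val (packRows e.ker)) = vec (lin e.ker m) := by
  classical
  have hrow : ∀ i : Fin 112, val (packRows e.ker) i = vec (e.ker.getD i.1 0) := fun i => by
    rw [val_row, Nat.eq_of_beq_eq_true (List.all_eq_true.1 he i.1 (List.mem_range.2 i.2))]
  have : ∀ S : Finset (Fin 112), ∃ m < 2 ^ e.ker.length,
      ∑ i ∈ S, q i • val (packRows e.ker) i = vec (lin e.ker m) := by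
    intro S
    induction S using Finset.induction_on with
    | empty => exact ⟨0, Nat.two_pow_pos _, by simp [lin_zero, vec_zero]⟩
    | insert a S ha ih =>
      obtain ⟨m, hm, ih⟩ := ih
      rw [Finset.sum_insert ha, ih, hrow]
      rcases (by decide : ∀ b : ZMod 2, b = 0 ∨ b = 1) (q a) with h | h
      · exact ⟨m, hm, by rw [h]; simp⟩
      · rcases Nat.lt_or_ge a.1 e.ker.length with hlt | hge
        · refine ⟨2 ^ a.1 ^^^ m, Nat.xor_lt_two_pow (Nat.pow_lt_pow_right (by norm_num) hlt) hm, ?_⟩
          rw [h, one_smul, lin_xor, vec_xor, lin_unit _ _ hlt]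
        · refine ⟨m, hm, ?_⟩
          rw [h, one_smul, List.getD_eq_default _ _ hge, vec_zero, zero_add]
  obtain ⟨m, hm, h⟩ := this Finset.univ
  refine ⟨m, hm, ?_⟩
  rw [← h]
  funext j
  simp [Matrix.vecMul, dotProduct, Finset.sum_apply]

theorem val_eq_zero_code {a : ℕ} (ha : a < 2 ^ (112 * 112)) (h : val a = 0) : a = 0 := by
  apply Nat.eq_of_testBit_eq
  intro t
  rcases Nat.lt_or_ge t (112 * 112) with ht | ht
  · have := congrFun (congrFun h ⟨t / 112, by omega⟩) ⟨t % 112, Nat.mod_lt _ (by norm_num)⟩
    simp only [val, Matrix.of_apply, testBit_lane, decide_eq_true (Nat.mod_lt t (by norm_num : 112 > 0)),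
      Bool.true_and, Nat.div_add_mod, Matrix.zero_apply] at this
    revert this
    cases a.testBit t <;> simp [bit]
  · simp [Nat.testBit_lt_two_pow (lt_of_lt_of_le ha (Nat.pow_le_pow_right (by norm_num) ht))]

theorem val_sumWords_commute {C : ComCert} {Z : Mat112} (hX : Commute Z (val C.gX)) (hW : Commute Z (val C.gW)) :
    ∀ (ws : List (List ℕ)) (f : Bool), Commute Z (val (sumWords C ws f))
  | [], f => by
    cases f
    · simp [sumWords, val_zero]
    · simp [sumWords, val_one]
  | w :: ws, f => by
    show Commute Z (val (_ ^^^ _))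
    rw [val_xor]
    refine Commute.add_right ?_ (val_sumWords_commute hX hW ws f)
    rw [val_evalWord, val_one, one_mul, List.map_map]
    have key : ∀ l : List Mat112, (∀ y ∈ l, Commute Z y) → Commute Z l.prod :=
      fun l hl => Commute.list_prod_right l Z hl
    apply key
    intro y hy
    rw [List.mem_map] at hy
    obtain ⟨s, -, hs⟩ := hy
    rw [← hs, Function.comp_apply]
    rw [ComCert.gen]
    cases Nat.beq s 0
    · exact hW
    · exact hX

theorem off_succ (C : ComCert) (q : ℕ) :
    C.off (q + 1) = C.off q + ((C.elems.take (q + 1)).drop q |>.map fun e => e.ker.length).sum := by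
  unfold ComCert.off
  rw [← List.sum_append, ← List.map_append]
  congr 2
  conv_lhs => rw [← List.take_append_drop q (C.elems.take (q + 1)), List.take_take, Nat.min_eq_left (Nat.le_succ q)]

theorem off_step (C : ComCert) {q : ℕ} (hq : q < C.elems.length) :
    C.off (q + 1) = C.off q + (C.elems.getD q ⟨[], false, 0, 0, 0, []⟩).ker.length := by
  rw [off_succ, List.getD_eq_getElem _ _ hq, List.take_succ_eq_append_getElem hq,
    List.drop_append_of_le_length (by simp; omega), List.drop_of_length_le (by simp)]
  simp

theorem off_mono (C : ComCert) : ∀ {p q : ℕ}, p ≤ q → q ≤ C.elems.length → C.off p ≤ C.off q := by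
  intro p q h
  induction h with
  | refl => intro _; exact le_rfl
  | step h ih => intro hq; exact (ih (by omega)).trans (by rw [off_step C (by omega)]; exact Nat.le_add_right _ _)

/-- Any matrix commuting with the two generators is one of the candidates with vanishing differences. -/
theorem exists_candidate {C : ComCert} (hC : certOk C = true) {Z : Mat112} (hX : Commute Z (val C.gX))
    (hW : Commute Z (val C.gW)) :
    ∃ m < 2 ^ C.rows.length, Z = val (lin C.mats m) ∧ lin C.difX m = 0 ∧ lin C.difW m = 0 := by
  simp only [certOk, Bool.and_eq_true, List.all_eq_true, List.mem_range] at hC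
  obtain ⟨⟨⟨⟨⟨⟨⟨htree, helem⟩, hinv⟩, hlenR⟩, hlenM⟩, hlenX⟩, hlenW⟩, hk⟩ := hC
  simp only [treeOk, List.all_eq_true, List.mem_range] at htree
  set d : ComElem := ⟨[], false, 0, 0, 0, []⟩
  set n := C.elems.length
  -- the image of every seed
  have hz : ∀ q < n, ∃ m < 2 ^ (C.elems.getD q d).ker.length,
      Matrix.vecMul (vec (C.seeds.getD q 0)) Z = vec (lin (C.elems.getD q d).ker m) := by
    intro q hq
    have he := helem q hq
    simp only [elemOk, Bool.and_eq_true, Nat.blt_eq] at he
    obtain ⟨⟨⟨⟨hcode, hproj⟩, hzero⟩, hlt⟩, hrows⟩ := he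
    set e := C.elems.getD q d
    set z := Matrix.vecMul (vec (C.seeds.getD q 0)) Z with hzdef
    have hza : Matrix.vecMul z (val e.code) = 0 := by
      rw [hzdef, Matrix.vecMul_vecMul, ← Nat.eq_of_beq_eq_true hcode,
        (val_sumWords_commute hX hW _ _).eq, ← Matrix.vecMul_vecMul, Nat.eq_of_beq_eq_true hcode,
        vec_rowMul hlt, Nat.eq_of_beq_eq_true hzero, vec_zero, Matrix.zero_vecMul]
    have hzS : z = Matrix.vecMul (Matrix.vecMul z (val e.coef)) (val (packRows e.ker)) := by
      rw [Matrix.vecMul_vecMul, ← val_mul, ← Nat.eq_of_beq_eq_true hproj]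
      show z = Matrix.vecMul z (val (_ ^^^ _))
      rw [val_xor, val_mul, val_one, Matrix.vecMul_add, ← Matrix.vecMul_vecMul, hza, Matrix.zero_vecMul,
        Matrix.vecMul_one, zero_add]
    rw [hzS]
    exact exists_lin_ker hrows _
  -- one bit string for all blocks
  have hblock : ∀ Q ≤ n, ∃ m < 2 ^ C.off Q, ∀ i : Fin 112, (C.tree.getD i.1 (0, 0)).2 = 2 →
      vec (lane (lin C.rows m) i.1) = if (C.tree.getD i.1 (0, 0)).1 < Q then
        Matrix.vecMul (vec (C.seeds.getD (C.tree.getD i.1 (0, 0)).1 0)) Z else 0 := by
    intro Q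
    induction Q with
    | zero => intro _; exact ⟨0, Nat.two_pow_pos _, fun i _ => by simp [lin_zero, lane_zero, vec_zero]⟩
    | succ Q ih =>
      intro hQ
      obtain ⟨m, hm, ih⟩ := ih (by omega)
      obtain ⟨mq, hmq, hq⟩ := hz Q (by omega)
      have hoff := off_step C (q := Q) (by omega)
      have hm' : Nat.shiftLeft mq (C.off Q) < 2 ^ C.off (Q + 1) := by
        show mq <<< C.off Q < _
        rw [Nat.shiftLeft_eq, hoff, pow_add, Nat.mul_comm mq]
        exact Nat.mul_lt_mul_of_pos_left hmq (Nat.two_pow_pos _)
      refine ⟨m ^^^ Nat.shiftLeft mq (C.off Q),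
        Nat.xor_lt_two_pow (lt_of_lt_of_le hm (Nat.pow_le_pow_right (by norm_num) (by omega))) hm', fun i hi => ?_⟩
      have ht := htree i.1 i.2
      rw [hi] at ht
      simp only [show Nat.beq 2 2 = true from rfl, cond_true, Bool.and_eq_true, List.all_eq_true, List.mem_range,
        Nat.blt_eq] at ht
      set p := (C.tree.getD i.1 (0, 0)).1
      have hsingle : ∀ w < 2 ^ (C.elems.getD Q d).ker.length, lane (lin C.rows (Nat.shiftLeft w (C.off Q))) i.1 =
          if p = Q then lin (C.elems.getD Q d).ker w else 0 := by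
        refine bits_induction ?_ (fun k hk' => ?_) fun u w hu hw => ?_
        · rw [show Nat.shiftLeft 0 (C.off Q) = 0 from Nat.zero_shiftLeft _]
          simp [lin_zero, lane_zero]
        · have hlen : C.off Q + k < C.rows.length := by
            have h1 : C.off (Q + 1) ≤ C.off C.elems.length := off_mono C hQ le_rfl
            have h2 : C.rows.length = C.off C.elems.length := Nat.eq_of_beq_eq_true hlenR
            have h3 : k < (C.elems.getD Q d).ker.length := hk'
            rw [h2]
            exact lt_of_lt_of_le (by rw [hoff]; exact Nat.add_lt_add_left h3 _) h1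
          rw [show Nat.shiftLeft (2 ^ k) (C.off Q) = 2 ^ (C.off Q + k) by
            show (2 ^ k) <<< C.off Q = _
            rw [Nat.shiftLeft_eq, ← pow_add, Nat.add_comm], lin_unit _ _ hlen,
            Nat.eq_of_beq_eq_true (ht.2 Q (by omega) k hk'), lin_unit _ _ hk']
          rcases Decidable.em (p = Q) with h | h
          · simp [h]
          · simp [show Nat.beq p Q = false from Bool.eq_false_iff.2 fun hb => h (Nat.eq_of_beq_eq_true hb), h]
        · rw [show Nat.shiftLeft (u ^^^ w) (C.off Q) = Nat.shiftLeft u (C.off Q) ^^^ Nat.shiftLeft w (C.off Q)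
            from Nat.shiftLeft_xor_distrib, lin_xor, lane_xor, hu, hw]
          split
          · rw [lin_xor]
          · simp
      rw [lin_xor, lane_xor, vec_xor, ih i hi, hsingle mq hmq]
      by_cases hpQ : p = Q
      · rw [if_neg (by omega), if_pos hpQ, if_pos (by omega), zero_add, hpQ, hq]
      · rw [if_neg hpQ, vec_zero, add_zero]
        by_cases hp : p < Q
        · rw [if_pos hp, if_pos (by omega)]
        · rw [if_neg hp, if_neg (by omega)]
  obtain ⟨m, hm, hseed⟩ := hblock n le_rfl
  -- the rows of the product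
  have hrows : ∀ i, ∀ hi : i < 112, Matrix.vecMul (vec (lane C.rowsB i)) Z = vec (lane (lin C.rows m) i) := by
    intro i
    induction i using Nat.strong_induction_on with
    | _ i ih =>
      intro hi
      have ht := htree i hi
      cases hs : Nat.beq (C.tree.getD i (0, 0)).2 2
      · rw [hs] at ht
        simp only [cond_false, Bool.and_eq_true, Nat.blt_eq, List.all_eq_true] at ht
        obtain ⟨⟨hp, hB⟩, hR⟩ := ht
        set p := (C.tree.getD i (0, 0)).1
        set g := C.gen (C.tree.getD i (0, 0)).2
        have hg : Commute Z (val g) := by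
          show Commute Z (val (C.gen _))
          rw [ComCert.gen]
          cases Nat.beq (C.tree.getD i (0, 0)).2 0
          · exact hW
          · exact hX
        have hlin : vec (lane (lin C.rows m) i) = Matrix.vecMul (vec (lane (lin C.rows m) p)) (val g) := by
          rw [lane_lin, lane_lin]
          clear ih hB hseed hm
          have key : ∀ (L : List ℕ) (m : ℕ), (∀ R ∈ L, lane R i = rowMul (lane R p) g) →
              vec (lin (L.map fun R => lane R i) m) =
                Matrix.vecMul (vec (lin (L.map fun R => lane R p) m)) (val g) := by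
            intro L
            induction L with
            | nil => intro m _; simp [lin, vec_zero]
            | cons R L ihL =>
              intro m hL
              show vec ((bif m.testBit 0 then lane R i else 0) ^^^ lin (L.map fun R => lane R i) (m / 2)) =
                Matrix.vecMul
                  (vec ((bif m.testBit 0 then lane R p else 0) ^^^ lin (L.map fun R => lane R p) (m / 2))) (val g)
              rw [vec_xor, vec_xor, Matrix.add_vecMul, ihL _ fun R hR => hL R (List.mem_cons_of_mem _ hR)]
              cases m.testBit 0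
              · simp only [cond_false, vec_zero, Matrix.zero_vecMul]
              · simp only [cond_true]
                rw [hL R List.mem_cons_self, ← vec_rowMul (lane_lt R p)]
          exact key _ _ fun R hR' => Nat.eq_of_beq_eq_true (hR R hR')
        rw [Nat.eq_of_beq_eq_true hB, vec_linear g Z hg (lane_lt _ _), ih p hp (hp.trans hi), hlin]
      · have hs2 := Nat.eq_of_beq_eq_true hs
        have := hseed ⟨i, hi⟩ hs2
        rw [hs] at ht
        simp only [cond_true, Bool.and_eq_true, Nat.blt_eq] at ht
        rw [if_pos ht.1.1] at this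
        rw [this, Nat.eq_of_beq_eq_true ht.1.2]
  have hBZ : val C.rowsB * Z = val (lin C.rows m) := by
    ext i j
    rw [Matrix.mul_apply]
    exact congrFun (hrows i.1 i.2) j
  have hlenR' := Nat.eq_of_beq_eq_true hlenR
  have hkey : ∀ k < C.rows.length, val (C.mats.getD k 0) = val C.invB * val (C.rows.getD k 0) := fun k hk' => by
    rw [Nat.eq_of_beq_eq_true (hk k hk').1.1.1.1, val_mul]
  have hZ : Z = val (lin C.mats m) := by
    rw [val_lin_mul C.rows C.mats C.invB m (Nat.eq_of_beq_eq_true hlenM).symm hkey, ← hBZ, ← mul_assoc, ← val_mul,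
      Nat.eq_of_beq_eq_true hinv, val_one, one_mul]
  refine ⟨m, by rw [hlenR']; exact hm, hZ, ?_, ?_⟩
  · refine val_eq_zero_code (lin_lt _ _ _ fun r hr => ?_) ?_
    · obtain ⟨k, hk', rfl⟩ := List.mem_iff_getElem.1 hr
      have hkl : k < C.rows.length := (Nat.eq_of_beq_eq_true hlenX) ▸ hk'
      have := (hk k hkl).1.2
      rw [List.getD_eq_getElem _ _ hk', Nat.blt_eq] at this
      exact this
    · rw [val_lin_dif C.mats C.difX C.gX m
        ((Nat.eq_of_beq_eq_true hlenM).trans (Nat.eq_of_beq_eq_true hlenX).symm) fun k hk' => ?_, ← hZ, hX.eq]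
      · ext i j; rw [Matrix.add_apply, Matrix.zero_apply]; exact CharTwo.add_self_eq_zero _
      · rw [Nat.eq_of_beq_eq_true (hk k ((Nat.eq_of_beq_eq_true hlenM) ▸ hk')).1.1.1.2]
        show val (_ ^^^ _) = _
        rw [val_xor, val_mul, val_mul]
  · refine val_eq_zero_code (lin_lt _ _ _ fun r hr => ?_) ?_
    · obtain ⟨k, hk', rfl⟩ := List.mem_iff_getElem.1 hr
      have hkl : k < C.rows.length := (Nat.eq_of_beq_eq_true hlenW) ▸ hk'
      have := (hk k hkl).2
      rw [List.getD_eq_getElem _ _ hk', Nat.blt_eq] at this
      exact this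
    · rw [val_lin_dif C.mats C.difW C.gW m
        ((Nat.eq_of_beq_eq_true hlenM).trans (Nat.eq_of_beq_eq_true hlenW).symm) fun k hk' => ?_, ← hZ, hW.eq]
      · ext i j; rw [Matrix.add_apply, Matrix.zero_apply]; exact CharTwo.add_self_eq_zero _
      · rw [Nat.eq_of_beq_eq_true (hk k ((Nat.eq_of_beq_eq_true hlenM) ▸ hk')).1.1.2]
        show val (_ ^^^ _) = _
        rw [val_xor, val_mul, val_mul]

end Cfsg.Agent.Lib.J4Cons78
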