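import Cfsg.Agent.Lib.J4Cons78.Model
import Cfsg.Agent.Lib.J4Cons78.Commutant
import Cfsg.Agent.Lib.J4Cons78.ComId
import Cfsg.Agent.Lib.J4Cons78.ComPsi
import Cfsg.Agent.Lib.J4Cons78.RelData

/-! Checks for the automorphisms of J4 fixing 2^11:M24: centraliser algebras and the two relators in t. -/

set_option autoImplicit false
set_option exponentiation.threshold 13000
set_option maxRecDepth 20000
set_option Elab.async false

namespace Cfsg.Agent.Lib.J4Cons78

open Cfsg.Agent.Lib.J4Rep

/-- The code of a letter, with another first and third generator. -/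
def cdatW (a t : ℕ) : ℕ → ℕ
  | 0 => a
  | 1 => mY
  | 2 => mYi
  | _ => t

/-- The code of a word, with another first and third generator. -/
def wcodeW (a t : ℕ) (l : List ℕ) : ℕ := evalWord lanesMask one (l.map (cdatW a t))

/-- The word w0. -/
def w0Word : List ℕ := [1, 0, 1, 0, 2, 0, 2, 0, 1, 0, 1, 0, 1]

/-- A segment. -/
def seg (k : ℕ) : List ℕ := segWords.getD k []

/-- The first relator in t. -/
def relA : List ℕ :=
  let q := [1] ++ seg 1 ++ [3] ++ seg 0
  q ++ q ++ q

/-- The second relator in t. -/
def relB : List ℕ :=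
  let q := seg 2 ++ [3] ++ seg 4 ++ [3] ++ seg 3
  q ++ q

theorem rel_codes : Nat.beq (wcode relA) one = true ∧ Nat.beq (wcode relB) one = true ∧
    Nat.beq (wcode ([3] ++ [0])) (wcode ([0] ++ [3])) = true ∧
    Nat.beq (wcode ([3] ++ w0Word)) (wcode (w0Word ++ [3])) = true := by decide +kernel

/-- The first relator from segment codes. -/
def relACode (S : List ℕ) (t : ℕ) : ℕ :=
  let q := mul lanesMask (mul lanesMask (mul lanesMask mY (S.getD 1 0)) t) (S.getD 0 0)
  mul lanesMask (mul lanesMask q q) q

/-- The second relator from segment codes. -/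
def relBCode (S : List ℕ) (t : ℕ) : ℕ :=
  let q := mul lanesMask (mul lanesMask (mul lanesMask (mul lanesMask (S.getD 2 0) t) (S.getD 4 0)) t) (S.getD 3 0)
  mul lanesMask q q

/-- A candidate is excluded unless it is among the allowed ones. -/
def candTest (C : ComCert) (S allowed : List ℕ) (m : ℕ) : Bool :=
  !(Nat.beq (lin C.difX m) 0 && Nat.beq (lin C.difW m) 0) ||
    !Nat.beq (mul lanesMask (lin C.mats m) (lin C.mats m)) one ||
    !Nat.beq (relACode S (lin C.mats m)) one ||
    !Nat.beq (relBCode S (lin C.mats m)) one ||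
    allowed.any fun a => Nat.beq a (lin C.mats m)

/-- Segment codes are correct. -/
def segOk (a : ℕ) (S : List ℕ) : Bool :=
  (List.range 5).all fun k => Nat.beq (S.getD k 0) (wcodeW a mT (seg k)) && (seg k).all fun c => Nat.blt c 3

theorem id_cert : certOk comId = true := by decide +kernel

theorem psi_cert : certOk comPsi = true := by decide +kernel

theorem id_gens : Nat.beq comId.gX mX = true ∧ Nat.beq comId.gW (wcode w0Word) = true ∧
    segOk mX segId = true ∧ (w0Word.all fun c => Nat.blt c 3) = true := by decide +kernel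

theorem psi_gens : Nat.beq comPsi.gX (mul lanesMask mX (aCode twist 11)) = true ∧
    Nat.beq comPsi.gW (wcodeW comPsi.gX mT w0Word) = true ∧ segOk comPsi.gX segPsi = true := by decide +kernel

theorem id_cands : ((List.range (2 ^ comId.rows.length)).all fun m =>
    candTest comId segId [one, mT, tTwo] m) = true := by decide +kernel

theorem psi_cands : ((List.range (2 ^ comPsi.rows.length)).all fun m =>
    candTest comPsi segPsi [one] m) = true := by decide +kernel

/-- The power of a code. -/
def powC (mk e : ℕ) : ℕ → ℕ → ℕ → ℕ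
  | 0, _, _ => e
  | fuel + 1, a, n => bif Nat.beq n 0 then e else
      mul mk (bif Nat.beq (Nat.mod n 2) 1 then a else e) (powC mk e fuel (mul mk a a) (Nat.div n 2))

/-- The power of a code of size 112. -/
abbrev powCode : ℕ → ℕ → ℕ → ℕ := powC lanesMask one

/-- A word using both candidates (4 for the second one). -/
def witWord : List ℕ := [3, 0, 1, 0, 4, 1]

/-- Its letters. -/
def cdatT : ℕ → ℕ
  | 4 => tTwo
  | c => cdat c

theorem tTwo_bad : Nat.beq (powCode 70 (evalWord lanesMask one (witWord.map cdatT)) 86775571046077562880) one =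
    false ∧ Nat.blt (powCode 70 (evalWord lanesMask one (witWord.map cdatT)) 86775571046077562880) (2 ^ (112 * 112)) =
    true ∧ Nat.blt one (2 ^ (112 * 112)) = true := by decide +kernel

end Cfsg.Agent.Lib.J4Cons78
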