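import Cfsg.Agent.Lib.J4Cons78.AutFix
import Cfsg.Agent.Lib.J4Cons78.ComChecks

/-! Every automorphism of J4 is inner, given its order and simplicity. -/

set_option autoImplicit false
set_option exponentiation.threshold 13000
set_option maxRecDepth 20000

namespace Cfsg.Agent.Lib.J4Cons78

open Cfsg Cfsg.Agent.Lib.J4Rep

theorem gval_w0_mem : ∀ c ∈ w0Word, c < 3 := fun c hc =>
  Nat.blt_eq.mp (List.all_eq_true.1 id_gens.2.2.2 c hc)

theorem val_powC {mk e : ℕ} (hm : ∀ A B, val (mul mk A B) = val A * val B) (he : val e = 1) :
    ∀ (fuel a n : ℕ), n < 2 ^ fuel → val (powC mk e fuel a n) = val a ^ n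
  | 0, a, n, h => by
    obtain rfl : n = 0 := by simpa using h
    rw [pow_zero, powC, he]
  | fuel + 1, a, n, h => by
    rw [powC]
    cases hn : Nat.beq n 0
    · simp only [cond_false]
      rw [hm, val_powC hm he fuel _ (Nat.div n 2) (by show n / 2 < 2 ^ fuel; omega), hm, ← pow_two, ← pow_mul]
      show _ * val a ^ (2 * (n / 2)) = _
      rcases Nat.mod_two_eq_zero_or_one n with h2 | h2
      · rw [show Nat.mod n 2 = 0 from h2]
        simp only [show Nat.beq 0 1 = false from rfl, cond_false, he, one_mul]
        rw [show 2 * (n / 2) = n by omega]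
      · rw [show Nat.mod n 2 = 1 from h2]
        simp only [show Nat.beq 1 1 = true from rfl, cond_true]
        rw [← pow_succ', show 2 * (n / 2) + 1 = n by omega]
    · simp only [cond_true]
      rw [Nat.eq_of_beq_eq_true hn, pow_zero, he]

theorem val_powCode (fuel a n : ℕ) (h : n < 2 ^ fuel) : val (powCode fuel a n) = val a ^ n :=
  val_powC val_mul val_one fuel a n h

theorem wcode_nil : wcode [] = one := rfl

theorem mat_list : ∀ (l : List ℕ) (f : ℕ → G) (d : ℕ → ℕ), (∀ c ∈ l, mat (f c) = val (d c)) →
    mat ((l.map f).prod) = val (evalWord lanesMask one (l.map d))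
  | l, f, d, h => by
    rw [val_evalWord, val_one, one_mul, List.map_map]
    induction l with
    | nil => simpa using mat_one
    | cons c l ih =>
      rw [List.map_cons, List.prod_cons, List.map_cons, List.prod_cons, mat_mul, h c List.mem_cons_self,
        ih fun x hx => h x (List.mem_cons_of_mem c hx), Function.comp_apply]

variable (hs : IsSimpleGroup G) (hc : Nat.card G = ordG)
include hs hc

theorem aut_inner (φ : MulAut G) : φ ∈ Inn G := by
  obtain ⟨g, hA, hy, hx⟩ := exists_norm hs hc φ
  set β : MulAut G := MulAut.conj g * φ with hβ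
  suffices h : β = 1 by
    refine ⟨g⁻¹, ?_⟩
    rw [map_inv, inv_eq_iff_mul_eq_one]
    exact h
  -- the letters
  have my1 : mat (β gY) = val mY := by rw [hy]; exact rep_glett 1
  have my2 : mat ((β gY)⁻¹) = val mYi := by rw [hy]; exact rep_glett 2
  have hdat : ∀ a t : ℕ, mat (β gX) = val a → mat (β gT) = val t → ∀ l : List ℕ,
      mat (β (gval l)) = val (wcodeW a t l) := by
    intro a t ha ht l
    rw [gval, map_list_prod, List.map_map, wcodeW]
    refine mat_list l _ _ fun c _ => ?_
    match c with
    | 0 => exact ha
    | 1 => exact my1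
    | 2 => show mat (β gY⁻¹) = _; rw [map_inv]; exact my2
    | _ + 3 => exact ht
  obtain ⟨hA1, hB1, htx, htw⟩ := rel_codes
  rw [← wcode_nil] at hA1 hB1
  have hAG : gval relA = 1 := (gval_eq hs hA1).trans gval_nil
  have hBG : gval relB = 1 := (gval_eq hs hB1).trans gval_nil
  have htX : Commute gT gX := by
    have h := gval_eq hs htx
    simpa [gval, glett, Commute, SemiconjBy] using h
  have htW : Commute gT (gval w0Word) := by
    have h := gval_eq hs htw
    rw [gval_append, gval_append] at h
    simpa [gval, glett, Commute, SemiconjBy] using h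
  have ht1 : gT ≠ 1 := by
    intro h
    have h1 : gval [3] = gval [] := by simpa [gval, glett] using h
    have h2 : wcode [3] ≠ one ∧ Nat.blt (wcode [3]) (2 ^ (112 * 112)) = true ∧ Nat.blt one (2 ^ (112 * 112)) = true := by
      decide +kernel
    apply h2.1
    have h3 : val (wcode [3]) = val one := by rw [← rep_gval, h1, rep_gval]; rfl
    have h4 := val_eq_zero_code (Nat.xor_lt_two_pow (Nat.blt_eq.mp h2.2.1) (Nat.blt_eq.mp h2.2.2))
      (by rw [val_xor, h3]; ext i j; exact CharTwo.add_self_eq_zero _)
    exact Nat.xor_eq_zero_iff.1 h4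
  -- the candidates for the image of t
  have cand : ∀ (C : ComCert) (S allowed : List ℕ), certOk C = true → segOk C.gX S = true →
      ((List.range (2 ^ C.rows.length)).all fun m => candTest C S allowed m) = true →
      mat (β gX) = val C.gX → C.gW = wcodeW C.gX mT w0Word →
      ∃ t ∈ allowed, mat (β gT) = val t := by
    intro C S allowed hC hS hall hgX hgW
    set Z := mat (β gT)
    have hcX : Commute Z (val C.gX) := by
      show Z * _ = _ * Z
      rw [← hgX, ← mat_mul, ← mat_mul, ← map_mul, ← map_mul, htX.eq]
    have hW' : mat (β (gval w0Word)) = val C.gW := by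
      have e : ∀ l : List ℕ, (∀ c ∈ l, c < 3) → mat (β (gval l)) = val (wcodeW C.gX mT l) := by
        intro l hl
        rw [gval, map_list_prod, List.map_map, wcodeW]
        refine mat_list l _ _ fun c hc' => ?_
        match c, hl c hc' with
        | 0, _ => exact hgX
        | 1, _ => exact my1
        | 2, _ => show mat (β gY⁻¹) = _; rw [map_inv]; exact my2
      rw [hgW, e _ gval_w0_mem]
    have hcW : Commute Z (val C.gW) := by
      show Z * _ = _ * Z
      rw [← hW', ← mat_mul, ← mat_mul, ← map_mul, ← map_mul, htW.eq]
    obtain ⟨m, hm, hZ, hdX, hdW⟩ := exists_candidate hC hcX hcW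
    set t := lin C.mats m
    have hall' := List.all_eq_true.1 hall m (List.mem_range.2 hm)
    have hd := hdat C.gX t hgX hZ
    have one_code : ∀ (l : List ℕ), gval l = 1 → val (wcodeW C.gX t l) = 1 := fun l hl => by
      rw [← hd, hl, map_one, mat_one]
    have hseg : ∀ k < 5, ∀ t' : ℕ, val (S.getD k 0) = val (wcodeW C.gX t' (seg k)) := by
      intro k hk t'
      have h := List.all_eq_true.1 hS k (List.mem_range.2 hk)
      simp only [Bool.and_eq_true, List.all_eq_true, Nat.blt_eq] at h
      have e : (seg k).map (cdatW C.gX mT) = (seg k).map (cdatW C.gX t') := List.map_congr_left fun c hc' => by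
        match c, h.2 c hc' with
        | 0, _ => rfl
        | 1, _ => rfl
        | 2, _ => rfl
      rw [Nat.eq_of_beq_eq_true h.1, wcodeW, wcodeW, e]
    have hcat : ∀ l l' : List ℕ, val (wcodeW C.gX t (l ++ l')) = val (wcodeW C.gX t l) * val (wcodeW C.gX t l') :=
      fun l l' => by
        rw [wcodeW, wcodeW, wcodeW, val_evalWord, val_evalWord, val_evalWord, val_one, one_mul, one_mul, one_mul,
          List.map_append, List.map_append, List.prod_append]
    have h3 : val (wcodeW C.gX t [3]) = val t := by
      simp [wcodeW, val_evalWord, val_one, cdatW]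
    have h1' : val (wcodeW C.gX t [1]) = val mY := by
      simp [wcodeW, val_evalWord, val_one, cdatW]
    have hlt : ∀ a b : ℕ, val a = val b → a < 2 ^ (112 * 112) → b < 2 ^ (112 * 112) → a = b := by
      intro a b h ha hb
      exact Nat.xor_eq_zero_iff.1 (val_eq_zero_code (Nat.xor_lt_two_pow ha hb)
        (by rw [val_xor, h]; ext i j; exact CharTwo.add_self_eq_zero _))
    have vA : val (relACode S t) = 1 := by
      rw [← one_code relA hAG, relACode, relA]
      simp only [val_mul, hseg 1 (by norm_num) t, hseg 0 (by norm_num) t, hcat, h3, h1', mul_assoc]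
    have vB : val (relBCode S t) = 1 := by
      rw [← one_code relB hBG, relBCode, relB]
      simp only [val_mul, hseg 2 (by norm_num) t, hseg 3 (by norm_num) t, hseg 4 (by norm_num) t, hcat, h3, mul_assoc]
    have vT : val (mul lanesMask t t) = 1 := by
      rw [val_mul, ← hZ, ← mat_mul, ← map_mul, gT_sq, map_one, mat_one]
    have small : ∀ A B : ℕ, mul lanesMask A B < 2 ^ (112 * 112) := by
      intro A B
      apply Nat.lt_pow_two_of_testBit
      intro i hi
      have key : ∀ n, (mulAux lanesMask B A n).testBit i = false := by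
        intro n
        induction n with
        | zero => simp [mulAux]
        | succ n ih =>
          show (mulAux lanesMask B A n ^^^ Nat.land (A >>> n) lanesMask * lane B n).testBit i = false
          rw [Nat.testBit_xor, ih, Bool.false_xor]
          refine Nat.testBit_lt_two_pow (lt_of_lt_of_le ?_ (Nat.pow_le_pow_right (by norm_num) hi))
          have hle : Nat.land (A >>> n) lanesMask ≤ lanesMask := Nat.and_le_right
          have hmask : lanesMask * (2 ^ 112 - 1) < 2 ^ (112 * 112) := by decide +kernel
          exact lt_of_le_of_lt ((Nat.mul_le_mul_right _ hle).trans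
            (Nat.mul_le_mul_left _ (Nat.le_sub_one_of_lt (lane_lt B n)))) hmask
      exact key 112
    have one_small : one < 2 ^ (112 * 112) := Nat.blt_eq.mp tTwo_bad.2.2
    have eA : relACode S t = one := hlt _ _ (by rw [vA, val_one]) (small _ _) one_small
    have eB : relBCode S t = one := hlt _ _ (by rw [vB, val_one]) (small _ _) one_small
    have eT : mul lanesMask t t = one := hlt _ _ (by rw [vT, val_one]) (small _ _) one_small
    simp only [candTest, hdX, hdW, t, eA, eB, eT, Nat.beq_refl, Bool.and_self, Bool.not_true, Bool.false_or,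
      List.any_eq_true] at hall'
    obtain ⟨a, ha, ha'⟩ := hall'
    exact ⟨a, ha, by rw [hZ, Nat.eq_of_beq_eq_true ha']⟩
  have hne : ∀ t : ℕ, mat (β gT) = val t → t ≠ one := by
    intro t ht h
    refine ht1 ((MulEquiv.map_eq_one_iff β).1 (eq_of_val hs ?_))
    show mat (β gT) = mat 1
    rw [ht, h, val_one, mat_one]
  rcases hx with hx | hx
  · have hgX : mat (β gX) = val comId.gX := by
      rw [hx, Nat.eq_of_beq_eq_true id_gens.1]; exact rep_glett 0
    have hgW : comId.gW = wcodeW comId.gX mT w0Word := by
      rw [Nat.eq_of_beq_eq_true id_gens.2.1, Nat.eq_of_beq_eq_true id_gens.1]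
      have e : w0Word.map cdat = w0Word.map (cdatW mX mT) := List.map_congr_left fun c hc' => by
        match c, gval_w0_mem c hc' with
        | 0, _ => rfl
        | 1, _ => rfl
        | 2, _ => rfl
      rw [wcode, wcodeW, e]
    obtain ⟨t, ht, htv⟩ := cand comId segId _ id_cert
      (by rw [Nat.eq_of_beq_eq_true id_gens.1]; exact id_gens.2.2.1) id_cands hgX hgW
    simp only [List.mem_cons, List.not_mem_nil, or_false] at ht
    rcases ht with rfl | rfl | rfl
    · exact absurd rfl (hne _ htv)
    · have hT : β gT = gT := eq_of_val hs (htv.trans (rep_glett 3).symm)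
      apply MulEquiv.toMonoidHom_injective
      refine PresentedGroup.ext fun a => ?_
      cases a
      · exact hx
      · exact hy
      · exact hT
    · exfalso
      let f : ℕ → G := fun c => match c with
        | 4 => β gT
        | c => glett c
      have hmat : mat ((witWord.map f).prod) = val (evalWord lanesMask one (witWord.map cdatT)) := by
        refine mat_list witWord f cdatT fun c hc' => ?_
        simp only [witWord, List.mem_cons, List.not_mem_nil, or_false] at hc'
        rcases hc' with rfl | rfl | rfl | rfl | rfl | rfl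
        · exact rep_glett 3
        · exact rep_glett 0
        · exact rep_glett 1
        · exact rep_glett 0
        · exact htv
        · exact rep_glett 1
      haveI := finiteG hs hc
      have hp : ((witWord.map f).prod) ^ Nat.card G = 1 := pow_card_eq_one'
      have hv : val (powCode 70 (evalWord lanesMask one (witWord.map cdatT)) 86775571046077562880) = val one := by
        rw [val_powCode 70 _ _ (by norm_num), ← hmat, val_one]
        show ((rep _ : GL (Fin 112) (ZMod 2)) : Mat112) ^ ordG = 1
        rw [← Units.val_pow_eq_pow_val, ← map_pow, ← hc, hp, map_one, Units.val_one]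
      obtain ⟨hbad, hsm, hone⟩ := tTwo_bad
      have := Nat.xor_eq_zero_iff.1 (val_eq_zero_code (Nat.xor_lt_two_pow (Nat.blt_eq.mp hsm) (Nat.blt_eq.mp hone))
        (by rw [val_xor, hv]; ext i j; exact CharTwo.add_self_eq_zero _))
      rw [this, show Nat.beq one one = true from Nat.beq_refl _] at hbad
      simp at hbad
  · exfalso
    have hgX : mat (β gX) = val comPsi.gX := by
      rw [hx, mat_mul, mat_emb, Nat.eq_of_beq_eq_true psi_gens.1, val_mul]
      have e : mat gX = val mX := rep_glett 0
      rw [e]
    obtain ⟨t, ht, htv⟩ := cand comPsi segPsi _ psi_cert psi_gens.2.2 psi_cands hgX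
      (Nat.eq_of_beq_eq_true psi_gens.2.1)
    rw [List.mem_singleton] at ht
    exact hne t htv ht

theorem card_out : Nat.card (Cfsg.Out G) = 1 := by
  have h : Inn G = ⊤ := eq_top_iff.2 fun φ _ => aut_inner hs hc φ
  exact Subgroup.index_eq_one.2 h

end Cfsg.Agent.Lib.J4Cons78
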