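import Cfsg.Agent.Lib.J4Cons78.UniqueChecks
import Cfsg.Agent.Lib.PGroups.Omega

/-! The 2^11 is the only normal elementary abelian subgroup of order 2^11 of a Sylow 2-subgroup. -/

set_option autoImplicit false
set_option exponentiation.threshold 13000
set_option maxRecDepth 20000

open scoped Pointwise

namespace Cfsg.Agent.Lib.J4Cons78

variable (hs : IsSimpleGroup G) (hc : Nat.card G = ordG)

/-- The Sylow 2-subgroup of J4. -/
def subS : Subgroup G := subA hs ⊔ subT

include hs

theorem subT_le_normalizer : subT ≤ Subgroup.normalizer (subA hs : Set G) :=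
  (subT_le hs).trans (subM_le_normalizer hs)

theorem mem_subS [Finite G] {g : G} :
    g ∈ subS hs ↔ ∃ v < 2 ^ 11, ∃ i < 1024, emb v * el i = g := by
  refine ⟨fun h => ?_, ?_⟩
  · have h' : g ∈ ((subA hs ⊔ subT : Subgroup G) : Set G) := h
    rw [Subgroup.coe_mul_of_right_le_normalizer_left _ _ (subT_le_normalizer hs)] at h'
    obtain ⟨a, ⟨v, hv, rfl⟩, t, ht, rfl⟩ := h'
    obtain ⟨i, hi, rfl⟩ := (mem_subT hs).1 ht
    exact ⟨v, hv, i, hi, rfl⟩
  · rintro ⟨v, -, i, hi, rfl⟩
    exact Subgroup.mul_mem_sup (emb_mem hs v) (el_mem_subT hs hi)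

theorem card_subS [Finite G] : Nat.card (subS hs) = 2 ^ 21 := by
  let f : subA hs × subT → subS hs := fun p => ⟨p.1.1 * p.2.1, Subgroup.mul_mem_sup p.1.2 p.2.2⟩
  have hb : Function.Bijective f := by
    refine ⟨fun p q h => ?_, fun g => ?_⟩
    · have h' : p.1.1 * p.2.1 = q.1.1 * q.2.1 := congrArg Subtype.val h
      have hd : q.1.1⁻¹ * p.1.1 = q.2.1 * p.2.1⁻¹ := by
        rw [eq_mul_inv_iff_mul_eq, mul_assoc, h', inv_mul_cancel_left]
      have hm : q.1.1⁻¹ * p.1.1 ∈ subA hs ⊓ subM :=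
        ⟨Subgroup.mul_mem _ (Subgroup.inv_mem _ q.1.2) p.1.2,
          hd ▸ Subgroup.mul_mem _ (subT_le hs q.2.2) (Subgroup.inv_mem _ (subT_le hs p.2.2))⟩
      rw [subA_inf_subM hs, Subgroup.mem_bot] at hm
      have e1 : q.1.1 = p.1.1 := inv_mul_eq_one.1 hm
      rw [e1] at h'
      exact Prod.ext (Subtype.ext e1.symm) (Subtype.ext (mul_left_cancel h'))
    · obtain ⟨v, -, i, hi, e⟩ := (mem_subS hs).1 g.2
      exact ⟨(⟨emb v, emb_mem hs v⟩, ⟨el i, el_mem_subT hs hi⟩), Subtype.ext e⟩
  rw [← Nat.card_congr (Equiv.ofBijective f hb), Nat.card_prod, card_subA hs, card_subT hs]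
  norm_num

theorem subS_le_normalizer : subS hs ≤ Subgroup.normalizer (subA hs : Set G) :=
  sup_le Subgroup.le_normalizer (subT_le_normalizer hs)

theorem eq_one_of_mem_both {g : G} (hA : g ∈ subA hs) (hT : g ∈ subT) : g = 1 := by
  have : g ∈ subA hs ⊓ subM := ⟨hA, subT_le hs hT⟩
  rwa [subA_inf_subM hs, Subgroup.mem_bot] at this

/-- The elements of a mask. -/
def maskSet (m : ℕ) : Set G := {g | ∃ i < 1024, m.testBit i = true ∧ el i = g}

theorem mem_gens {W : NormalSub} (hW : entryOk W = true) :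
    (∀ g ∈ W.gens, g < 1024 ∧ W.mask.testBit g = true) ∧
      (∀ i, W.mask.testBit i = true ↔ i ∈ W.els) ∧ ∀ i ∈ W.els, i < 1024 := by
  simp only [entryOk, Bool.and_eq_true, List.all_eq_true, List.any_eq_true] at hW
  have hmask : ∀ i, W.mask.testBit i = true ↔ i ∈ W.els := fun i => by
    rw [Nat.eq_of_beq_eq_true hW.1.1, testBit_bitsOf]
  have hlt : ∀ i ∈ W.els, i < 1024 := fun i hi => Nat.blt_eq.mp (hW.1.2 i hi)
  refine ⟨fun g hg => ?_, hmask, hlt⟩
  obtain ⟨i, hi, e⟩ := hW.2 g hg
  obtain rfl := Nat.eq_of_beq_eq_true e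
  exact ⟨hlt i hi, (hmask i).2 hi⟩

theorem tab_zero_el {s : ℕ} (hs4 : s < 4) : el (tab s 0) = gen4 s := by
  rw [← el_mul_gen hs (by norm_num) hs4, el_zero, one_mul]

/-- A candidate for extending a subgroup in the list leads to the next level. -/
theorem step [Finite G] {next : List NormalSub} {W : NormalSub} (hW : entryOk W = true)
    (hcand : ((List.range 1024).all fun j => candOk next W j) = true) (Bt : Subgroup G)
    (hBT : Bt ≤ subT) (hnorm : subT ≤ Subgroup.normalizer (Bt : Set G))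
    (hel : ∀ x ∈ Bt, x * x = 1) (hcom : ∀ x ∈ Bt, ∀ y ∈ Bt, Commute x y)
    (Wg : Subgroup G) (hWg : (Wg : Set G) = maskSet W.mask) (hWB : Wg ≤ Bt)
    (hWn : subT ≤ Subgroup.normalizer (Wg : Set G)) (hne : ¬ Bt ≤ Wg) :
    ∃ V ∈ next, ∃ Vg : Subgroup G, (Vg : Set G) = maskSet V.mask ∧ Vg ≤ Bt ∧
      subT ≤ Subgroup.normalizer (Vg : Set G) := by
  obtain ⟨hgens, hmask, hlt⟩ := mem_gens hs hW
  haveI : Fact (Nat.Prime 2) := ⟨Nat.prime_two⟩
  haveI hWN : (Wg.subgroupOf subT).Normal := Subgroup.normal_subgroupOf_of_le_normalizer hWn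
  haveI hBN : (Bt.subgroupOf subT).Normal := Subgroup.normal_subgroupOf_of_le_normalizer hnorm
  let π := QuotientGroup.mk' (Wg.subgroupOf subT)
  set N := (Bt.subgroupOf subT).map π with hN
  haveI : N.Normal := hBN.map π (QuotientGroup.mk'_surjective _)
  have hp : IsPGroup 2 (subT ⧸ Wg.subgroupOf subT) :=
    (IsPGroup.of_card (n := 10) (by rw [card_subT hs]; norm_num)).to_quotient _
  have hNne : N ≠ ⊥ := by
    intro h
    refine hne fun x hx => ?_
    have hmem : π ⟨x, hBT hx⟩ ∈ N := Subgroup.mem_map_of_mem π hx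
    rw [h, Subgroup.mem_bot] at hmem
    exact (QuotientGroup.eq_one_iff (N := Wg.subgroupOf subT) ⟨x, hBT hx⟩).1 hmem
  obtain ⟨c, hc', hc1⟩ : ∃ c ∈ N ⊓ Subgroup.center _, c ≠ 1 := by
    by_contra! h
    exact Cfsg.Agent.Lib.PGroups.normal_inf_center_ne_bot hp N hNne
      ((Subgroup.eq_bot_iff_forall _).2 h)
  obtain ⟨⟨xj, hxT⟩, hxB, rfl⟩ := hc'.1
  have hxB' : xj ∈ Bt := hxB
  have hxW : xj ∉ Wg := fun h => hc1 ((QuotientGroup.eq_one_iff _).2 h)
  obtain ⟨j, hj, rfl⟩ := (mem_subT hs).1 hxT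
  have hjm : W.mask.testBit j = false := by
    cases hb : W.mask.testBit j with
    | false => rfl
    | true => exact absurd (show el j ∈ (Wg : Set G) from hWg ▸ ⟨j, hj, hb, rfl⟩) hxW
  have hjj : mi j j = 0 := by
    refine el_inj hs (el_mul hs hj hj).2 (by norm_num) ?_
    rw [← (el_mul hs hj hj).1, el_zero]; exact hel _ hxB'
  have hgen : ∀ g ∈ W.gens, mi j g = mi g j := by
    intro g hg
    obtain ⟨hg1, hg2⟩ := hgens g hg
    have hgB : el g ∈ Bt := hWB (show el g ∈ (Wg : Set G) from hWg ▸ ⟨g, hg1, hg2, rfl⟩)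
    refine el_inj hs (el_mul hs hj hg1).2 (el_mul hs hg1 hj).2 ?_
    rw [← (el_mul hs hj hg1).1, ← (el_mul hs hg1 hj).1]
    exact hcom _ hxB' _ hgB
  have hconj : ∀ s < 4, ∃ w ∈ W.els, mi (mi (tab s 0) j) w = tab s j := by
    intro s hs4
    have hsT : gen4 s ∈ subT := Subgroup.subset_closure ⟨s, hs4, rfl⟩
    have h1 : π ⟨gen4 s, hsT⟩ * π ⟨el j, hxT⟩ = π ⟨el j, hxT⟩ * π ⟨gen4 s, hsT⟩ :=
      Subgroup.mem_center_iff.1 hc'.2 _
    rw [← map_mul, ← map_mul] at h1
    have h2' : ((⟨gen4 s, hsT⟩ : subT) * ⟨el j, hxT⟩)⁻¹ * (⟨el j, hxT⟩ * ⟨gen4 s, hsT⟩) ∈ Wg.subgroupOf subT :=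
      QuotientGroup.eq.1 h1
    have h2 : (gen4 s * el j)⁻¹ * (el j * gen4 s) ∈ (Wg : Set G) := h2'
    rw [hWg] at h2
    obtain ⟨w, hw, hb, hwe⟩ := h2
    have hm1 := el_mul hs (tab_lt s 0) hj
    refine ⟨w, (hmask w).1 hb, el_inj hs (el_mul hs hm1.2 hw).2 (tab_lt s j) ?_⟩
    rw [← (el_mul hs hm1.2 hw).1, ← hm1.1, ← el_mul_gen hs hj hs4, tab_zero_el hs hs4, hwe]
    group
  have hcj := List.all_eq_true.1 hcand j (List.mem_range.2 hj)
  simp only [candOk, inMask, hjm, hjj, Bool.false_or, Nat.beq_refl, Bool.not_true, Bool.or_eq_true,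
    Bool.not_eq_true'] at hcj
  have hA1 : (W.gens.all fun g => Nat.beq (mi j g) (mi g j)) = true :=
    List.all_eq_true.2 fun g hg => by rw [hgen g hg]; exact Nat.beq_refl _
  have hA2 : ((List.range 4).all fun s => W.els.any fun w => Nat.beq (mi (mi (tab s 0) j) w) (tab s j)) = true :=
    List.all_eq_true.2 fun s hs4 => by
      obtain ⟨w, hw, e⟩ := hconj s (List.mem_range.1 hs4)
      exact List.any_eq_true.2 ⟨w, hw, by rw [e]; exact Nat.beq_refl _⟩
  rw [hA1, hA2] at hcj
  obtain ⟨V, hV, hVmask⟩ : ∃ V ∈ next, V.mask = extMask W j := by simpa using hcj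
  refine ⟨V, hV, Wg ⊔ Subgroup.zpowers (el j), ?_, sup_le hWB (Subgroup.zpowers_le.2 hxB'), ?_⟩
  · have hzn : Subgroup.zpowers (el j) ≤ Subgroup.normalizer (Wg : Set G) :=
      Subgroup.zpowers_le.2 (hWn hxT)
    rw [Subgroup.coe_mul_of_right_le_normalizer_left _ _ hzn]
    ext g
    constructor
    · rintro ⟨a, ha, b, ⟨n, rfl⟩, rfl⟩
      rw [hWg] at ha
      obtain ⟨w, hw, hb, rfl⟩ := ha
      rcases Int.even_or_odd' n with ⟨k, rfl | rfl⟩
      · refine ⟨w, hw, ?_, ?_⟩
        · rw [hVmask]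
          show (W.mask ||| _).testBit w = true
          rw [Nat.testBit_lor, hb]; rfl
        · show el w = el w * el j ^ (2 * k)
          rw [zpow_mul, zpow_two, hel _ hxB', one_zpow, mul_one]
      · refine ⟨mi w j, (el_mul hs hw hj).2, ?_, ?_⟩
        · rw [hVmask]
          show (W.mask ||| _).testBit _ = true
          rw [Nat.testBit_lor, (testBit_bitsOf _ _).2 (List.mem_map.2 ⟨w, (hmask w).1 hb, rfl⟩), Bool.or_true]
        · show el (mi w j) = el w * el j ^ (2 * k + 1)
          rw [← (el_mul hs hw hj).1, zpow_add, zpow_mul, zpow_two, hel _ hxB', one_zpow, one_mul, zpow_one]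
    · rintro ⟨i, -, hb, rfl⟩
      rw [hVmask] at hb
      have hb' : (W.mask ||| bitsOf (W.els.map fun w => mi w j)).testBit i = true := hb
      rw [Nat.testBit_lor, Bool.or_eq_true] at hb'
      rcases hb' with hb' | hb'
      · refine ⟨el i, hWg ▸ ⟨i, hlt i ((hmask i).1 hb'), hb', rfl⟩, 1, Subgroup.one_mem _, ?_⟩
        exact mul_one _
      · obtain ⟨w, hw, rfl⟩ := List.mem_map.1 ((testBit_bitsOf _ _).1 hb')
        exact ⟨el w, hWg ▸ ⟨w, hlt w hw, (hmask w).2 hw, rfl⟩, el j, Subgroup.mem_zpowers _,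
          (el_mul hs (hlt w hw) hj).1⟩
  · rw [subT, Subgroup.closure_le]
    rintro _ ⟨s, hs4, rfl⟩
    have hsT : gen4 s ∈ subT := Subgroup.subset_closure ⟨s, hs4, rfl⟩
    have key : ∀ t ∈ subT, ∀ x ∈ Wg ⊔ Subgroup.zpowers (el j), t * x * t⁻¹ ∈ Wg ⊔ Subgroup.zpowers (el j) := by
      intro t ht x hx
      have hle : (Wg ⊔ Subgroup.zpowers (el j)).map (MulAut.conj t).toMonoidHom ≤
          Wg ⊔ Subgroup.zpowers (el j) := by
        rw [Subgroup.map_sup, sup_le_iff, MonoidHom.map_zpowers, Subgroup.zpowers_le]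
        refine ⟨?_, ?_⟩
        · rintro _ ⟨y, hy, rfl⟩
          exact Subgroup.mem_sup_left ((Subgroup.mem_normalizer_iff.1 (hWn ht) y).1 hy)
        · have h1 : π ⟨t, ht⟩ * π ⟨el j, hxT⟩ = π ⟨el j, hxT⟩ * π ⟨t, ht⟩ :=
            Subgroup.mem_center_iff.1 hc'.2 _
          rw [← map_mul, ← map_mul] at h1
          have h2' : ((⟨t, ht⟩ : subT) * ⟨el j, hxT⟩)⁻¹ * (⟨el j, hxT⟩ * ⟨t, ht⟩) ∈ Wg.subgroupOf subT :=
            QuotientGroup.eq.1 h1
          have h2 : (t * el j)⁻¹ * (el j * t) ∈ Wg := h2'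
          have h3 : t * el j * t⁻¹ = el j * (t * ((t * el j)⁻¹ * (el j * t))⁻¹ * t⁻¹) := by group
          show t * el j * t⁻¹ ∈ _
          rw [h3]
          exact Subgroup.mul_mem _ (Subgroup.mem_sup_right (Subgroup.mem_zpowers _))
            (Subgroup.mem_sup_left ((Subgroup.mem_normalizer_iff.1 (hWn ht) _).1 (Subgroup.inv_mem _ h2)))
      exact hle ⟨x, hx, rfl⟩
    refine Subgroup.mem_normalizer_iff.2 fun x => ⟨fun hx => key _ hsT x hx, fun hx => ?_⟩
    have := key _ (Subgroup.inv_mem _ hsT) _ hx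
    simpa [mul_assoc] using this

theorem elMap_apply {g : ℕ} (hg : g < 1024) : ∀ v < 2 ^ 11, (el g)⁻¹ * emb v * el g = emb (lin (elMap g) v) := by
  refine conj_prodBits (elem_bA hs) (el g) (elMap g) (by simp [elMap]) fun i hi => ?_
  have hget : (elMap g).getD i 0 = rowOf g i := by simp [elMap, hi]
  rw [hget, ← prodBits_unit bA hi]
  exact el_conj hs g hg i hi

/-- The only normal elementary abelian subgroup of order 2^11 of the Sylow 2-subgroup. -/
theorem unique_subA [Finite G] (B : Subgroup G) (hBS : B ≤ subS hs)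
    (hBn : subS hs ≤ Subgroup.normalizer (B : Set G)) (hel : ∀ b ∈ B, b * b = 1)
    (hcard : Nat.card B = 2 ^ 11) : B = subA hs := by
  classical
  have hcom : ∀ x ∈ B, ∀ y ∈ B, Commute x y := fun x hx y hy => by
    have i1 := inv_eq_of_mul_eq_one_right (hel x hx)
    have i2 := inv_eq_of_mul_eq_one_right (hel y hy)
    have i3 := inv_eq_of_mul_eq_one_right (hel _ (B.mul_mem hx hy))
    rw [mul_inv_rev, i1, i2] at i3
    exact i3.symm
  set Bt := (subA hs ⊔ B) ⊓ subT with hBt
  have hBA : B ≤ Subgroup.normalizer (subA hs : Set G) := hBS.trans (subS_le_normalizer hs)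
  have hdec : ∀ x ∈ subA hs ⊔ B, ∃ a ∈ subA hs, ∃ b ∈ B, a * b = x := by
    intro x hx
    have hx' : x ∈ ((subA hs ⊔ B : Subgroup G) : Set G) := hx
    rw [Subgroup.coe_mul_of_right_le_normalizer_left _ _ hBA] at hx'
    obtain ⟨a, ha, b, hb, e⟩ := hx'
    exact ⟨a, ha, b, hb, e⟩
  have hBtT : Bt ≤ subT := inf_le_right
  have hcomt : ∀ x ∈ Bt, ∀ y ∈ Bt, Commute x y := by
    intro x hx y hy
    obtain ⟨a, ha, b, hb, rfl⟩ := hdec x hx.1
    obtain ⟨c, hc', d, hd, rfl⟩ := hdec y hy.1
    have n : ∀ g ∈ B, ∀ z ∈ subA hs, g * z * g⁻¹ ∈ subA hs := fun g hg z hz =>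
      (Subgroup.mem_normalizer_iff.1 (hBA hg) z).1 hz
    have e1 : (a * b) * (c * d) = (a * (b * c * b⁻¹)) * (b * d) := by group
    have e2 : (c * d) * (a * b) = (c * (d * a * d⁻¹)) * (b * d) := by rw [(hcom b hb d hd).eq]; group
    have hmem : (a * b) * (c * d) * ((c * d) * (a * b))⁻¹ ∈ subA hs := by
      rw [e1, e2, mul_inv_rev, ← mul_assoc, mul_inv_cancel_right]
      exact Subgroup.mul_mem _ (Subgroup.mul_mem _ ha (n b hb c hc'))
        (Subgroup.inv_mem _ (Subgroup.mul_mem _ hc' (n d hd a ha)))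
    exact mul_inv_eq_one.1 (eq_one_of_mem_both hs hmem
      (subT.mul_mem (subT.mul_mem (hBtT hx) (hBtT hy)) (subT.inv_mem (subT.mul_mem (hBtT hy) (hBtT hx)))))
  have helt : ∀ x ∈ Bt, x * x = 1 := by
    intro x hx
    obtain ⟨a, ha, b, hb, rfl⟩ := hdec x hx.1
    refine eq_one_of_mem_both hs ?_ (subT.mul_mem (hBtT hx) (hBtT hx))
    have e : (a * b) * (a * b) = a * (b * a * b⁻¹) * (b * b) := by group
    rw [e, hel b hb, mul_one]
    exact Subgroup.mul_mem _ ha ((Subgroup.mem_normalizer_iff.1 (hBA hb) a).1 ha)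
  have hnorm : subT ≤ Subgroup.normalizer (Bt : Set G) := by
    intro t ht
    have htS : t ∈ subS hs := Subgroup.mem_sup_right ht
    have key : ∀ t ∈ subT, t ∈ subS hs → ∀ x ∈ Bt, t * x * t⁻¹ ∈ Bt := by
      intro t ht htS x hx
      refine ⟨?_, subT.mul_mem (subT.mul_mem ht (hBtT hx)) (subT.inv_mem ht)⟩
      obtain ⟨a, ha, b, hb, rfl⟩ := hdec x hx.1
      rw [show t * (a * b) * t⁻¹ = (t * a * t⁻¹) * (t * b * t⁻¹) by group]
      exact Subgroup.mul_mem_sup ((Subgroup.mem_normalizer_iff.1 (subT_le_normalizer hs ht) a).1 ha)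
        ((Subgroup.mem_normalizer_iff.1 (hBn htS) b).1 hb)
    refine Subgroup.mem_normalizer_iff.2 fun x => ⟨fun hx => key t ht htS x hx, fun hx => ?_⟩
    have := key t⁻¹ (subT.inv_mem ht) (Subgroup.inv_mem _ htS) _ hx
    simpa [mul_assoc] using this
  have hproj : ∀ b ∈ B, ∃ v < 2 ^ 11, ∃ i < 1024, emb v * el i = b ∧ el i ∈ Bt := by
    intro b hb
    obtain ⟨v, hv, i, hi, rfl⟩ := (mem_subS hs).1 (hBS hb)
    refine ⟨v, hv, i, hi, rfl, ?_, el_mem_subT hs hi⟩
    rw [show el i = (emb v)⁻¹ * (emb v * el i) by group]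
    exact Subgroup.mul_mem_sup (Subgroup.inv_mem _ (emb_mem hs v)) hb
  by_contra hne
  have chain : ∀ k ≤ 7, ∃ W ∈ level k, ∃ Wg : Subgroup G, (Wg : Set G) = maskSet W.mask ∧ Wg ≤ Bt ∧
      subT ≤ Subgroup.normalizer (Wg : Set G) := by
    intro k
    induction k with
    | zero =>
      intro _
      refine ⟨rootSub, List.mem_singleton.2 rfl, ⊥, ?_, bot_le, fun t _ => ?_⟩
      · ext g
        constructor
        · rintro rfl; exact ⟨0, by norm_num, rfl, el_zero⟩
        · rintro ⟨i, -, hb, rfl⟩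
          have : (1 : ℕ).testBit i = true := hb
          rcases Nat.eq_zero_or_pos i with rfl | hi
          · exact el_zero
          · rw [Nat.testBit_lt_two_pow (Nat.one_lt_two_pow (by omega))] at this
            exact absurd this Bool.false_ne_true
      · refine Subgroup.mem_normalizer_iff.2 fun x => ?_
        simp only [Subgroup.mem_bot]
        exact ⟨fun h => by simp [h], fun h => by simpa using h⟩
    | succ k ih =>
      intro hk
      obtain ⟨W, hW, Wg, hWg, hWB, hWn⟩ := ih (by omega)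
      have hl := List.all_eq_true.1 levels_ok k (List.mem_range.2 (by omega))
      have hWok := List.all_eq_true.1 hl W hW
      simp only [Bool.and_eq_true] at hWok
      obtain ⟨⟨hent, hfix⟩, hcand⟩ := hWok
      obtain ⟨hgens, hmask, hlt⟩ := mem_gens hs hent
      refine step hs hent hcand Bt hBtT hnorm helt hcomt Wg hWg hWB hWn fun hle => ?_
      rcases Nat.eq_zero_or_pos k with rfl | hk0
      · refine hne (Subgroup.eq_of_le_of_card_ge (fun b hb => ?_) (by rw [card_subA hs, hcard]))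
        obtain ⟨v, hv, i, hi, rfl, hit⟩ := hproj b hb
        have h0 : el i ∈ (Wg : Set G) := hle hit
        rw [hWg] at h0
        obtain ⟨i', -, hb', e⟩ := h0
        obtain rfl := List.mem_singleton.1 hW
        obtain rfl : i' = 0 := by simpa [rootSub] using (hmask i').1 hb'
        rw [← e, el_zero, mul_one]
        exact emb_mem hs v
      · rw [Bool.or_eq_true] at hfix
        rcases hfix with h | hfix
        · exact absurd (Nat.eq_of_beq_eq_true h) (by omega)
        simp only [fixOk, Bool.and_eq_true, List.all_eq_true, List.mem_range, Nat.blt_eq] at hfix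
        obtain ⟨⟨hf, hcoord⟩, hunit⟩ := hfix
        -- elements of B inside the normal subgroup
        have hfixed : ∀ v < 2 ^ 11, emb v ∈ B → lin W.base (lin W.coord v) = v := by
          intro v hv hvB
          have hg : ∀ g ∈ W.gens, lin (elMap g) v = v := by
            intro g hg
            obtain ⟨hg1, hg2⟩ := hgens g hg
            have hgt : el g ∈ Bt := hWB (show el g ∈ (Wg : Set G) from hWg ▸ ⟨g, hg1, hg2, rfl⟩)
            obtain ⟨a, ha, b, hb, e⟩ := hdec _ hgt.1
            refine emb_inj hs (lin_lt _ v 11 fun r hr => ?_) hv ?_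
            · obtain ⟨i, -, rfl⟩ := List.mem_map.1 hr
              exact f11_lt _ _
            rw [← elMap_apply hs hg1 v hv, ← e]
            have c1 : Commute (emb v) a := subA_commute hs (emb_mem hs v) ha
            have c2 : Commute (emb v) b := hcom _ hvB _ hb
            rw [mul_assoc, (c1.mul_right c2).eq, inv_mul_cancel_left]
          have key : ∀ v < 2 ^ 11, lin W.base (lin W.coord v) ^^^ lin W.left (phiG W.gens v) = v := by
            refine bits_induction ?_ (fun i hi => Nat.eq_of_beq_eq_true (hunit i hi)) fun u w hu hw => ?_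
            · rw [phiG_eq_zero _ _ fun g _ => lin_zero _]; simp [lin_zero]
            · rw [phiG_xor, lin_xor, lin_xor, lin_xor]
              calc (lin W.base (lin W.coord u) ^^^ lin W.base (lin W.coord w)) ^^^
                    (lin W.left (phiG W.gens u) ^^^ lin W.left (phiG W.gens w))
                  = (lin W.base (lin W.coord u) ^^^ lin W.left (phiG W.gens u)) ^^^
                    (lin W.base (lin W.coord w) ^^^ lin W.left (phiG W.gens w)) := by
                    simp [Nat.xor_assoc, Nat.xor_left_comm]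
                _ = u ^^^ w := by rw [hu, hw]
          have := key v hv
          rwa [phiG_eq_zero _ _ hg, lin_zero, Nat.xor_zero] at this
        have hproj' : ∀ b : B, ∃ p : Fin 1024 × Fin (2 ^ 11), emb p.2.1 * el p.1.1 = b.1 ∧ el p.1.1 ∈ Wg :=
          fun b => by
            obtain ⟨v, hv, i, hi, e, hit⟩ := hproj b.1 b.2
            exact ⟨(⟨i, hi⟩, ⟨v, hv⟩), e, hle hit⟩
        choose p hpe hpW using hproj'
        haveI := Fintype.ofFinite B
        let F : B → Fin 1024 := fun b => (p b).1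
        have hfib : ∀ i, (Finset.univ.filter fun b : B => F b = i).card ≤ 2 ^ W.base.length := by
          intro i
          rcases (Finset.univ.filter fun b : B => F b = i).eq_empty_or_nonempty with h0 | ⟨b0, hb0⟩
          · simp [h0]
          rw [Finset.mem_filter] at hb0
          refine (Finset.card_le_card_of_injOn (t := Finset.range (2 ^ W.base.length))
            (fun b => lin W.coord ((p b).2.1 ^^^ (p b0).2.1)) ?_ ?_).trans (le_of_eq (Finset.card_range _))
          · intro b _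
            exact Finset.mem_coe.2 (Finset.mem_range.2 (lin_lt _ _ _ hcoord))
          · intro b hb b' hb' e
            simp only [Finset.coe_filter, Finset.mem_univ, true_and, Set.mem_setOf_eq] at hb hb'
            have hx : ∀ b : B, F b = i → emb ((p b).2.1 ^^^ (p b0).2.1) ∈ B := by
              intro b hb
              have e1 : (p b).1 = (p b0).1 := hb.trans hb0.2.symm
              rw [emb_xor hs, show emb (p b).2.1 * emb (p b0).2.1 = b.1 * (b0.1)⁻¹ from ?_]
              · exact B.mul_mem b.2 (B.inv_mem b0.2)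
              · rw [← hpe b, ← hpe b0, e1, mul_inv_rev, emb_inv hs]; group
            have h1 := hfixed _ (Nat.xor_lt_two_pow (p b).2.2 (p b0).2.2) (hx b hb)
            have h2 := hfixed _ (Nat.xor_lt_two_pow (p b').2.2 (p b0).2.2) (hx b' hb')
            simp only at e
            rw [e, h2] at h1
            have h3 : (p b').2.1 = (p b).2.1 := Nat.xor_left_injective (x := (p b0).2.1) h1
            exact Subtype.ext (by
              rw [← hpe b, ← hpe b', show (p b).1 = (p b').1 from hb.trans hb'.symm, h3])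
        have hWc : (Finset.univ.image F).card ≤ 2 ^ k := by
          have hlen : W.els.length ≤ 2 ^ k := by
            have : ((List.range 7).all fun k => (level k).all fun W => Nat.ble W.els.length (2 ^ k)) = true := by
              decide +kernel
            exact Nat.ble_eq.mp (List.all_eq_true.1 (List.all_eq_true.1 this k (List.mem_range.2 (by omega))) W hW)
          refine le_trans ?_ ((List.toFinset_card_le W.els).trans hlen)
          refine Finset.card_le_card_of_injOn (fun i => i.1) (fun i hi => ?_) fun a _ b _ e => Fin.ext e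
          obtain ⟨b, -, rfl⟩ := Finset.mem_image.1 (Finset.mem_coe.1 hi)
          have h0 : el (F b).1 ∈ (Wg : Set G) := hpW b
          rw [hWg] at h0
          obtain ⟨i', hi', hb', e⟩ := h0
          have e' := el_inj hs hi' (F b).2 e
          rw [e'] at hb'
          exact Finset.mem_coe.2 (List.mem_toFinset.2 ((hmask _).1 hb'))
        have := Finset.card_le_mul_card_image (f := F) Finset.univ (2 ^ W.base.length) fun i _ => hfib i
        rw [Finset.card_univ, ← Nat.card_eq_fintype_card, hcard] at this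
        have h2 : 2 ^ W.base.length * (Finset.univ.image F).card ≤ 2 ^ W.base.length * 2 ^ k :=
          Nat.mul_le_mul_left _ hWc
        rw [← pow_add] at h2
        exact absurd ((this.trans h2)) (not_le.2 (Nat.pow_lt_pow_right (by norm_num) (by omega)))
  obtain ⟨W, hW, -⟩ := chain 7 le_rfl
  simp [level_seven] at hW

end Cfsg.Agent.Lib.J4Cons78
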