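import Cfsg.Agent.Lib.J4Cons78.Normalizer
import Cfsg.Agent.Lib.J4Cons78.Unique
import Cfsg.Agent.S2064

/-! Every automorphism of J4 is, up to an inner one, the identity modulo 2^11 on 2^11:M24. -/

set_option autoImplicit false
set_option exponentiation.threshold 13000

namespace Cfsg.Agent.Lib.J4Cons78

open Cfsg

theorem aut_M24_inner (α : MulAut ↥M24) : ∃ m : M24, MulAut.conj m = α := by
  have h : Inn ↥M24 = ⊤ := Subgroup.index_eq_one.1 Cfsg.Agent.S2064.result
  exact (show α ∈ Inn ↥M24 by rw [h]; trivial)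

variable (hs : IsSimpleGroup G) (hc : Nat.card G = ordG)
include hs hc

theorem subS_sylow (K : Subgroup G) (hK : Nat.card K = 2 ^ 21) :
    ∃ g : G, K.map (MulAut.conj g).toMonoidHom = subS hs := by
  haveI := finiteG hs hc
  haveI : Fact (Nat.Prime 2) := ⟨Nat.prime_two⟩
  have hf : (Nat.card G).factorization 2 = 21 := by
    rw [hc, show (ordG : ℕ) = 2 ^ 21 * 41377816699065 by norm_num [ordG],
      Nat.factorization_mul (by norm_num) (by norm_num), Finsupp.add_apply,
      Nat.factorization_eq_zero_of_not_dvd (show ¬ 2 ∣ 41377816699065 by norm_num),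
      Nat.Prime.factorization_pow Nat.prime_two, Finsupp.single_eq_same, add_zero]
  let P : Sylow 2 G := Sylow.ofCard K (by rw [hf, hK])
  let Q : Sylow 2 G := Sylow.ofCard (subS hs) (by rw [hf, card_subS hs])
  obtain ⟨g, hg⟩ := MulAction.exists_smul_eq G P Q
  refine ⟨g, ?_⟩
  have h := congrArg (fun R : Sylow 2 G => (R : Subgroup G)) hg
  simp only [Sylow.coe_subgroup_smul] at h
  exact h

/-- An automorphism composed with a conjugation fixing the 2^11 and 2^11:M24. -/
theorem exists_fix_A (φ : MulAut G) : ∃ g : G,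
    (subA hs).map (MulAut.conj g * φ).toMonoidHom = subA hs ∧
      subH.map (MulAut.conj g * φ).toMonoidHom = subH := by
  haveI := finiteG hs hc
  obtain ⟨g, hg⟩ := subS_sylow hs hc ((subS hs).map φ.toMonoidHom)
    (by rw [Subgroup.card_map_of_injective φ.injective, card_subS hs])
  set α : MulAut G := MulAut.conj g * φ with hα
  have hS : (subS hs).map α.toMonoidHom = subS hs := by
    conv_rhs => rw [← hg, Subgroup.map_map]
    rfl
  have hA : (subA hs).map α.toMonoidHom = subA hs := by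
    refine unique_subA hs _ ?_ ?_ ?_ (by rw [Subgroup.card_map_of_injective α.injective, card_subA hs])
    · rw [← hS]; exact Subgroup.map_mono le_sup_left
    · conv_lhs => rw [← hS]
      exact (Subgroup.map_mono (subS_le_normalizer hs)).trans
        (by rw [Subgroup.map_equiv_normalizer_eq])
    · rintro _ ⟨_, ⟨v, -, rfl⟩, rfl⟩
      show α (emb v) * α (emb v) = 1
      rw [← map_mul, emb_self hs, map_one]
  refine ⟨g, hA, ?_⟩
  rw [← normalizer_subA hs hc, Subgroup.map_equiv_normalizer_eq, hA]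

/-- An automorphism composed with a conjugation which is trivial modulo the 2^11 on M24. -/
theorem exists_mod_A (φ : MulAut G) : ∃ g : G,
    (∀ a ∈ subA hs, (MulAut.conj g * φ) a ∈ subA hs) ∧
      ∀ m ∈ subM, m⁻¹ * (MulAut.conj g * φ) m ∈ subA hs := by
  haveI := finiteG hs hc
  obtain ⟨g, hA, hH⟩ := exists_fix_A hs hc φ
  set α : MulAut G := MulAut.conj g * φ with hα
  have hαA : ∀ a ∈ subA hs, α a ∈ subA hs := fun a ha =>
    hA ▸ (⟨a, ha, rfl⟩ : α a ∈ (subA hs).map α.toMonoidHom)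
  have hdec : ∀ m : subM, ∃ n : subM, α m.1 * (n.1)⁻¹ ∈ subA hs := by
    intro m
    have h : α m.1 ∈ (subH : Set G) := hH ▸ (⟨m.1, subM_le_subH hs m.2, rfl⟩ : α m.1 ∈ subH.map α.toMonoidHom)
    rw [subH_coe hs] at h
    obtain ⟨a, ha, n, hn, e⟩ := h
    exact ⟨⟨n, hn⟩, by rw [← e]; simpa using ha⟩
  choose f hf using hdec
  have uniq : ∀ {x : G} {n n' : subM}, x * (n.1)⁻¹ ∈ subA hs → x * (n'.1)⁻¹ ∈ subA hs → n = n' := by
    intro x n n' h h'
    have h1 : n.1 * (n'.1)⁻¹ ∈ subA hs ⊓ subM :=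
      ⟨by have := Subgroup.mul_mem _ (Subgroup.inv_mem _ h) h'; simpa [mul_assoc] using this,
        Subgroup.mul_mem _ n.2 (Subgroup.inv_mem _ n'.2)⟩
    rw [subA_inf_subM hs, Subgroup.mem_bot, mul_inv_eq_one] at h1
    exact Subtype.ext h1
  let ψ : subM →* subM := MonoidHom.mk' f fun m n => by
    refine uniq (x := α (m.1 * n.1)) (hf (m * n)) ?_
    have hn := subM_le_normalizer hs (f m).2
    have h2 := (Subgroup.mem_normalizer_iff.1 hn _).1 (hf n)
    have := Subgroup.mul_mem _ (hf m) h2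
    rw [map_mul, Subgroup.coe_mul, mul_inv_rev]
    rw [show α m.1 * (f m).1⁻¹ * ((f m).1 * (α n.1 * (f n).1⁻¹) * (f m).1⁻¹) =
      α m.1 * α n.1 * ((f n).1⁻¹ * (f m).1⁻¹) by group] at this
    exact this
  have hinj : Function.Injective ψ := by
    refine (injective_iff_map_eq_one ψ).2 fun m hm => ?_
    have h := hf m
    rw [show f m = 1 from hm, Subgroup.coe_one, inv_one, mul_one] at h
    obtain ⟨a, ha, e⟩ : α m.1 ∈ (subA hs).map α.toMonoidHom := hA.symm ▸ h
    have hm' : m.1 ∈ subA hs ⊓ subM := ⟨(α.injective e : a = m.1) ▸ ha, m.2⟩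
    rw [subA_inf_subM hs, Subgroup.mem_bot] at hm'
    exact Subtype.ext hm'
  obtain ⟨e⟩ := equiv_subM hs
  let β : MulAut subM := MulEquiv.ofBijective ψ ⟨hinj, Finite.injective_iff_surjective.1 hinj⟩
  obtain ⟨c, hcc⟩ := aut_M24_inner ((e.symm.trans β).trans e)
  set n : subM := e.symm c with hn
  have hβ : ∀ m : subM, f m = n * m * n⁻¹ := by
    intro m
    have := DFunLike.congr_fun hcc (e m)
    simp only [MulAut.conj_apply, MulEquiv.trans_apply, MulEquiv.symm_apply_apply] at this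
    have h2 := congrArg e.symm this
    rw [map_mul, map_mul, map_inv, MulEquiv.symm_apply_apply, MulEquiv.symm_apply_apply] at h2
    exact h2.symm
  refine ⟨n.1⁻¹ * g, ?_, ?_⟩
  all_goals
    have hα' : ∀ x, (MulAut.conj (n.1⁻¹ * g) * φ) x = n.1⁻¹ * α x * n.1 := fun x => by
      rw [MulAut.mul_apply, MulAut.conj_apply]
      show _ = n.1⁻¹ * (MulAut.conj g (φ x)) * n.1
      rw [MulAut.conj_apply]
      group
  · intro a ha
    rw [hα']
    have hn := subM_le_normalizer hs (subM.inv_mem n.2)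
    simpa using (Subgroup.mem_normalizer_iff.1 hn _).1 (hαA a ha)
  · intro m hm
    rw [hα']
    have h := hf ⟨m, hm⟩
    rw [hβ] at h
    have hn := subM_le_normalizer hs (subM.mul_mem (subM.inv_mem hm) (subM.inv_mem n.2))
    have := (Subgroup.mem_normalizer_iff.1 hn _).1 h
    simp only [Subgroup.coe_mul, Subgroup.coe_inv] at this
    rw [show m⁻¹ * (n.1⁻¹ * α m * n.1) =
      m⁻¹ * n.1⁻¹ * (α m * (n.1 * m * n.1⁻¹)⁻¹) * (m⁻¹ * n.1⁻¹)⁻¹ by group]
    exact this

end Cfsg.Agent.Lib.J4Cons78
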