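import Cfsg.Agent.Lib.J4Rep.Main
import Cfsg.Agent.Lib.M24Pres.Iso

/-!
Words in the three generators of the presented group J4, and their codes in dimension 112 modulo 2.
The representation is faithful as soon as the group is known to be simple.
-/

set_option autoImplicit false
set_option exponentiation.threshold 13000

namespace Cfsg.Agent.Lib.J4Cons78

open Cfsg.Spor Cfsg.Agent.Lib.J4Rep
open Cfsg.Agent.Lib.M24Pres (R7 wval lval)

/-- The group. -/
abbrev G : Type := Cfsg.Spor.J4

/-- The first generator. -/
def gX : G := PresentedGroup.of J4.Gen.x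
/-- The second generator. -/
def gY : G := PresentedGroup.of J4.Gen.y
/-- The third generator. -/
def gT : G := PresentedGroup.of J4.Gen.t

/-- A letter of a word (0, 1, 2, 3 for x, y, inverse of y, t). -/
def glett : ℕ → G
  | 0 => gX
  | 1 => gY
  | 2 => gY⁻¹
  | _ => gT

/-- The value of a word. -/
def gval (l : List ℕ) : G := (l.map glett).prod

theorem gval_append (a b : List ℕ) : gval (a ++ b) = gval a * gval b := by
  simp [gval]

theorem gval_cons (c : ℕ) (l : List ℕ) : gval (c :: l) = glett c * gval l := by simp [gval]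

theorem gval_nil : gval [] = 1 := rfl

/-- A word without the letter t, as a value of a word in x and y. -/
theorem gval_eq_wval : ∀ l : List ℕ, (∀ c ∈ l, c < 3) → gval l = wval gX gY l
  | [], _ => rfl
  | c :: l, h => by
    have ih := gval_eq_wval l fun d hd => h d (List.mem_cons_of_mem c hd)
    have hc := h c List.mem_cons_self
    rw [gval_cons, ih, wval, wval, List.map_cons, List.prod_cons]
    match c, hc with
    | 0, _ => rfl
    | 1, _ => rfl
    | 2, _ => rfl

theorem gX_sq : gX * gX = 1 := by
  have h : PresentedGroup.mk (coxRelators J4.edges ∪ {r | r ∈ J4.extra}) (J4.x ^ 2) = 1 :=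
    PresentedGroup.one_of_mem (Or.inr (by simp [J4.extra]))
  rw [map_pow, pow_two] at h
  exact h

theorem gT_sq : gT * gT = 1 := by
  have h : PresentedGroup.mk (coxRelators J4.edges ∪ {r | r ∈ J4.extra}) (J4.t ^ 2) = 1 :=
    PresentedGroup.one_of_mem (Or.inr (by simp [J4.extra]))
  rw [map_pow, pow_two] at h
  exact h

/-- The inverse letter. -/
def linv : ℕ → ℕ
  | 1 => 2
  | 2 => 1
  | c => c

/-- The inverse word. -/
def winv (l : List ℕ) : List ℕ := (l.map linv).reverse

theorem glett_linv : ∀ c, glett (linv c) = (glett c)⁻¹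
  | 0 => mul_eq_one_iff_eq_inv.1 gX_sq
  | 1 => rfl
  | 2 => (inv_inv gY).symm
  | _ + 3 => mul_eq_one_iff_eq_inv.1 gT_sq

theorem gval_winv : ∀ l, gval (winv l) = (gval l)⁻¹
  | [] => by simp [gval, winv]
  | c :: l => by
    have : winv (c :: l) = winv l ++ [linv c] := by simp [winv]
    rw [this, gval_append, gval_winv l, gval_cons, gval_cons, gval_nil, glett_linv, mul_inv_rev, mul_one]

/-- The representation. -/
noncomputable def rep : G →* GL (Fin 112) (ZMod 2) :=
  PresentedGroup.toGroup (f := img) (rels := coxRelators J4.edges ∪ {r | r ∈ J4.extra}) (by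
    rintro r (⟨a, ha, -⟩ | hr)
    · simp [coxNodes, J4.edges] at ha
    · exact lift_rel hr)

/-- The code of a letter. -/
def cdat : ℕ → ℕ
  | 0 => mX
  | 1 => mY
  | 2 => mYi
  | _ => mT

theorem rep_glett : ∀ c, ((rep (glett c) : GL (Fin 112) (ZMod 2)) : Mat112) = val (cdat c)
  | 0 => by rw [glett, gX, rep, PresentedGroup.toGroup.of]; rfl
  | 1 => by rw [glett, gY, rep, PresentedGroup.toGroup.of]; rfl
  | 2 => by rw [glett, gY, map_inv, rep, PresentedGroup.toGroup.of]; rfl
  | n + 3 => by
    show ((rep gT : GL (Fin 112) (ZMod 2)) : Mat112) = val mT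
    rw [gT, rep, PresentedGroup.toGroup.of]; rfl

/-- The code of a word. -/
def wcode (l : List ℕ) : ℕ := evalWord lanesMask one (l.map cdat)

theorem rep_gval (l : List ℕ) : ((rep (gval l) : GL (Fin 112) (ZMod 2)) : Mat112) = val (wcode l) := by
  rw [wcode, val_evalWord, val_one, one_mul, gval, ← Units.coeHom_apply, map_list_prod, map_list_prod,
    List.map_map, List.map_map, List.map_map]
  congr 1
  exact List.map_congr_left fun c _ => rep_glett c

theorem rep_gX_ne_one : rep gX ≠ 1 := by
  rw [gX, rep, PresentedGroup.toGroup.of]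
  exact img_x_ne_one

theorem gX_ne_one : gX ≠ 1 := fun h => rep_gX_ne_one (by rw [h, map_one])

theorem rep_injective (hs : IsSimpleGroup G) : Function.Injective rep := by
  refine (MonoidHom.ker_eq_bot_iff rep).1
    ((inferInstance : rep.ker.Normal).eq_bot_or_eq_top.resolve_right fun htop => ?_)
  exact rep_gX_ne_one (MonoidHom.mem_ker.1 (htop ▸ Subgroup.mem_top gX))

/-- Equality of elements from equality of their matrices. -/
theorem eq_of_val (hs : IsSimpleGroup G) {g h : G}
    (e : ((rep g : GL (Fin 112) (ZMod 2)) : Mat112) = (rep h : GL (Fin 112) (ZMod 2))) : g = h :=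
  rep_injective hs (Units.ext e)

/-- Equality of values from equality of codes. -/
theorem gval_eq (hs : IsSimpleGroup G) {l l' : List ℕ} (e : Nat.beq (wcode l) (wcode l') = true) :
    gval l = gval l' :=
  eq_of_val hs (by rw [rep_gval, rep_gval, Nat.eq_of_beq_eq_true e])

theorem R7_codes : (R7.all fun r => (Nat.beq (wcode r) one) &&
    r.all fun c => Nat.blt c 3) = true := by decide +kernel

/-- The relators of M24 hold in the group. -/
theorem rels7 (hs : IsSimpleGroup G) : ∀ r ∈ R7, wval gX gY r = 1 := by
  intro r hr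
  have h := List.all_eq_true.1 R7_codes r hr
  simp only [Bool.and_eq_true, List.all_eq_true, Nat.blt_eq] at h
  rw [← gval_eq_wval r h.2, ← gval_nil]
  exact gval_eq hs (l' := []) h.1

end Cfsg.Agent.Lib.J4Cons78
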