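import Mathlib

/-! Fixed points of a subgroup acting by conjugation on an abelian normalised subgroup. -/

set_option autoImplicit false

namespace Cfsg.Agent.Lib.J4Cons78

variable {G : Type*} [Group G] [Finite G]

/-- Conjugation of a normalised subgroup. -/
@[reducible] def conjAct (A Q : Subgroup G) (hQ : Q ≤ Subgroup.normalizer (A : Set G)) : MulAction Q A where
  smul g a := ⟨g.1 * a.1 * g.1⁻¹, (Subgroup.mem_normalizer_iff.1 (hQ g.2) a.1).1 a.2⟩
  one_smul a := Subtype.ext (show (1 : G) * a.1 * 1⁻¹ = a.1 by group)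
  mul_smul g h a := Subtype.ext (show g.1 * h.1 * a.1 * (g.1 * h.1)⁻¹ = g.1 * (h.1 * a.1 * h.1⁻¹) * g.1⁻¹ by
    group)

theorem card_fix_modEq (A Q : Subgroup G) (q : ℕ) [Fact q.Prime] (hQ : Q ≤ Subgroup.normalizer (A : Set G))
    (hq : IsPGroup q Q) :
    Nat.card A ≡ Nat.card (A ⊓ Subgroup.centralizer (Q : Set G) : Subgroup G) [MOD q] := by
  letI := conjAct A Q hQ
  refine (hq.card_modEq_card_fixedPoints A).trans ?_
  rw [show Nat.card (MulAction.fixedPoints Q A) = Nat.card (A ⊓ Subgroup.centralizer (Q : Set G) : Subgroup G) from ?_]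
  refine Nat.card_congr ⟨fun a => ⟨a.1.1, a.1.2, ?_⟩, fun b => ⟨⟨b.1, b.2.1⟩, ?_⟩, fun _ => rfl, fun _ => rfl⟩
  · refine Subgroup.mem_centralizer_iff.2 fun g hg => ?_
    have := congrArg Subtype.val (a.2 ⟨g, hg⟩)
    exact mul_inv_eq_iff_eq_mul.1 this
  · intro g
    exact Subtype.ext (mul_inv_eq_iff_eq_mul.2 (Subgroup.mem_centralizer_iff.1 b.2.2 g.1 g.2))

/-- Orbit counting when every nonidentity element fixes the same number of points. -/
theorem card_dvd_of_uniform (A Q : Subgroup G) (hQ : Q ≤ Subgroup.normalizer (A : Set G)) (k : ℕ)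
    (hk : k ≤ Nat.card A)
    (h : ∀ g ∈ Q, g ≠ 1 → Nat.card (A ⊓ Subgroup.centralizer ((Subgroup.zpowers g : Subgroup G) : Set G) :
      Subgroup G) = k) :
    Nat.card Q ∣ Nat.card A - k + k * Nat.card Q := by
  classical
  letI := conjAct A Q hQ
  haveI := Fintype.ofFinite Q
  haveI := Fintype.ofFinite A
  have hs := MulAction.sum_card_fixedBy_eq_card_orbits_mul_card_group Q A
  have hfix : ∀ g : Q, Fintype.card (MulAction.fixedBy A g) =
      (if g = 1 then Nat.card A - k else 0) + k := by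
    intro g
    rw [← Nat.card_eq_fintype_card]
    split
    · subst g
      rw [Nat.sub_add_cancel hk]
      exact Nat.card_congr ⟨fun a => a.1, fun a => ⟨a, one_smul Q a⟩, fun _ => rfl, fun _ => rfl⟩
    · rename_i hg
      rw [Nat.zero_add, ← h g.1 g.2 fun e => hg (Subtype.ext e)]
      refine Nat.card_congr ⟨fun a => ⟨a.1.1, a.1.2, ?_⟩, fun b => ⟨⟨b.1, b.2.1⟩, ?_⟩, fun _ => rfl, fun _ => rfl⟩
      · have h1 : Commute g.1 a.1.1 := mul_inv_eq_iff_eq_mul.1 (congrArg Subtype.val a.2)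
        refine Subgroup.mem_centralizer_iff.2 ?_
        rintro z ⟨n, rfl⟩
        exact (h1.zpow_left n).eq
      · exact Subtype.ext (mul_inv_eq_iff_eq_mul.2
          (Subgroup.mem_centralizer_iff.1 b.2.2 g.1 (Subgroup.mem_zpowers g.1)))
  simp only [hfix, Finset.sum_add_distrib, Finset.sum_ite_eq', Finset.mem_univ, if_true, Finset.sum_const,
    Finset.card_univ, smul_eq_mul] at hs
  rw [Nat.card_eq_fintype_card (α := Q), Nat.mul_comm k, hs]
  exact Dvd.intro_left _ rfl

end Cfsg.Agent.Lib.J4Cons78
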