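import Cfsg.Agent.Lib.J4Cons78.Cyclic
import Cfsg.Agent.Lib.J4Cons78.Fix

/-! The centraliser of the normal 2^11 is that 2^11. -/

set_option autoImplicit false
set_option exponentiation.threshold 13000

open scoped Pointwise

namespace Cfsg.Agent.Lib.J4Cons78

/-- The order of J4. -/
abbrev ordG : ℕ := 86775571046077562880

variable (hs : IsSimpleGroup G)
include hs

theorem subA_le_subH : subA hs ≤ subH := subH_eq hs ▸ le_sup_right

theorem subM_le_subH : subM ≤ subH := subH_eq hs ▸ le_sup_left

theorem subA_commute {a b : G} (ha : a ∈ subA hs) (hb : b ∈ subA hs) : Commute a b := by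
  obtain ⟨u, -, rfl⟩ := ha
  obtain ⟨v, -, rfl⟩ := hb
  exact emb_comm hs u v

theorem subA_le_normalizer : subA hs ≤ Subgroup.normalizer (subA hs : Set G) := Subgroup.le_normalizer

theorem subH_le_normalizer : subH ≤ Subgroup.normalizer (subA hs : Set G) := by
  rw [subH_eq hs]
  exact sup_le (subM_le_normalizer hs) (subA_le_normalizer hs)

theorem subM_faithful {m : G} (hm : m ∈ subM) (hc : m ∈ Subgroup.centralizer (subA hs : Set G)) : m = 1 := by
  obtain ⟨e⟩ := equiv_subM hs
  haveI : IsSimpleGroup Cfsg.M24 := Cfsg.Agent.Lib.Golay.isSimple_M24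
  haveI : Nontrivial subM := e.toEquiv.nontrivial
  haveI : IsSimpleGroup subM :=
    IsSimpleGroup.isSimpleGroup_of_surjective e.symm.toMonoidHom e.symm.surjective
  have hn : ((Subgroup.centralizer (subA hs : Set G)).subgroupOf subM).Normal := by
    refine ⟨fun n hn g => ?_⟩
    rw [Subgroup.mem_subgroupOf, Subgroup.mem_centralizer_iff] at hn ⊢
    intro a ha
    have hg := subM_le_normalizer hs g.2
    have ha' : g.1⁻¹ * a * g.1 ∈ subA hs := by
      simpa using (Subgroup.mem_normalizer_iff.1 (Subgroup.inv_mem _ hg) a).1 ha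
    have := hn _ ha'
    simp only [Subgroup.coe_mul, Subgroup.coe_inv]
    calc a * (g.1 * n.1 * g.1⁻¹) = g.1 * ((g.1⁻¹ * a * g.1) * n.1) * g.1⁻¹ := by group
      _ = g.1 * (n.1 * (g.1⁻¹ * a * g.1)) * g.1⁻¹ := by rw [this]
      _ = g.1 * n.1 * g.1⁻¹ * a := by group
  rcases hn.eq_bot_or_eq_top with h | h
  · have hmem : (⟨m, hm⟩ : subM) ∈ (Subgroup.centralizer (subA hs : Set G)).subgroupOf subM := hc
    rw [h, Subgroup.mem_bot] at hmem
    exact congrArg Subtype.val hmem
  · exfalso
    rw [Subgroup.subgroupOf_eq_top] at h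
    have hx := Subgroup.mem_centralizer_iff.1 (h (Subgroup.subset_closure (by simp : gX ∈ ({gX, gY} : Set G))))
      (emb 1) (emb_mem hs 1)
    have he := emb_conj_x hs 1 (by norm_num)
    rw [mul_assoc, hx, inv_mul_cancel_left] at he
    exact absurd (emb_inj hs (by norm_num) (lin_mx_lt 1) he) (by decide +kernel)

theorem centralizer_inf_subH {g : G} (hg : g ∈ subH)
    (hc : g ∈ Subgroup.centralizer (subA hs : Set G)) : g ∈ subA hs := by
  have hg' : g ∈ (subH : Set G) := hg
  rw [subH_coe hs] at hg'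
  obtain ⟨a, ha, m, hm, rfl⟩ := hg'
  have ha' : a ∈ Subgroup.centralizer (subA hs : Set G) :=
    Subgroup.mem_centralizer_iff.2 fun b hb => (subA_commute hs hb ha).eq
  rw [subM_faithful hs hm (by simpa using Subgroup.mul_mem _ (Subgroup.inv_mem _ ha') hc)]
  show a * 1 ∈ subA hs
  rw [mul_one]
  exact ha

theorem isPGroup_centralizer : IsPGroup 2 (Subgroup.centralizer (subA hs : Set G)) := fun g => ⟨1, by
  refine Subtype.ext ?_
  rw [pow_one, pow_two]
  refine sq_eq_one_of_centralizes hs fun v _ => ?_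
  exact (Subgroup.mem_centralizer_iff.1 g.2 (emb v) (emb_mem hs v)).symm⟩

theorem centralizer_subA (hc : Nat.card G = ordG) :
    Subgroup.centralizer (subA hs : Set G) = subA hs := by
  haveI : Finite G := Nat.finite_of_card_ne_zero (by rw [hc]; norm_num [ordG])
  haveI : Fact (Nat.Prime 2) := ⟨Nat.prime_two⟩
  refine le_antisymm (fun g hg => ?_) fun a ha =>
    Subgroup.mem_centralizer_iff.2 fun b hb => (subA_commute hs hb ha).eq
  obtain ⟨P⟩ : Nonempty (Sylow 2 subH) := inferInstance
  set Q := (P : Subgroup subH).map subH.subtype with hQ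
  set C := Subgroup.centralizer (subA hs : Set G) with hC
  have hQH : Q ≤ subH := Subgroup.map_subtype_le _
  have hQcard : Nat.card Q = 2 ^ 21 := by
    have hf : (2 ^ 11 * 244823040 : ℕ).factorization 2 = 21 := by
      rw [show (2 ^ 11 * 244823040 : ℕ) = 2 ^ 21 * 239085 by norm_num,
        Nat.factorization_mul (by norm_num) (by norm_num), Finsupp.add_apply,
        Nat.factorization_eq_zero_of_not_dvd (show ¬ 2 ∣ 239085 by norm_num),
        Nat.Prime.factorization_pow Nat.prime_two, Finsupp.single_eq_same, add_zero]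
    rw [hQ, Subgroup.card_map_of_injective subH.subtype_injective, Sylow.card_eq_multiplicity, card_subH hs, hf]
  have hnorm : Q ≤ Subgroup.normalizer (C : Set G) := by
    intro q hq
    have hqA := subH_le_normalizer hs (hQH hq)
    rw [Subgroup.mem_normalizer_iff]
    have key : ∀ q ∈ Subgroup.normalizer (subA hs : Set G), ∀ n ∈ C, q * n * q⁻¹ ∈ C := by
      intro q hqA n hn
      refine Subgroup.mem_centralizer_iff.2 fun a ha => ?_
      have ha' : q⁻¹ * a * q ∈ subA hs := by
        simpa using (Subgroup.mem_normalizer_iff.1 (Subgroup.inv_mem _ hqA) a).1 ha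
      have := Subgroup.mem_centralizer_iff.1 hn _ ha'
      calc a * (q * n * q⁻¹) = q * ((q⁻¹ * a * q) * n) * q⁻¹ := by group
        _ = q * (n * (q⁻¹ * a * q)) * q⁻¹ := by rw [this]
        _ = q * n * q⁻¹ * a := by group
    exact fun n => ⟨key q hqA n, fun hn => by
      simpa [mul_assoc] using key q⁻¹ (Subgroup.inv_mem _ hqA) _ hn⟩
  have hp : IsPGroup 2 (Q ⊔ C : Subgroup G) :=
    (IsPGroup.of_card hQcard).to_sup_of_normal_right' (isPGroup_centralizer hs) hnorm
  obtain ⟨k, hk⟩ := IsPGroup.iff_card.1 hp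
  have hk21 : k ≤ 21 := by
    by_contra hlt
    have h1 : 2 ^ 22 ∣ Nat.card G :=
      (pow_dvd_pow 2 (show 22 ≤ k by omega)).trans (hk ▸ Subgroup.card_subgroup_dvd_card _)
    rw [hc] at h1
    norm_num [ordG] at h1
  have heq : Q = Q ⊔ C := Subgroup.eq_of_le_of_card_ge le_sup_left (by
    rw [hQcard, hk]; exact Nat.pow_le_pow_right (by norm_num) hk21)
  exact centralizer_inf_subH hs (hQH (heq ▸ Subgroup.mem_sup_right hg)) hg

end Cfsg.Agent.Lib.J4Cons78
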