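import Cfsg.Agent.Lib.J4Cons78.SubH
import Cfsg.Agent.Lib.J4Cons78.CyclicData

/-! The centraliser of the normal 2^11: every element of it squares to one, and it is the 2^11 itself. -/

set_option autoImplicit false
set_option exponentiation.threshold 13000
set_option maxRecDepth 20000
set_option Elab.async false

open scoped Pointwise

namespace Cfsg.Agent.Lib.J4Cons78

open Cfsg.Agent.Lib.J4Rep

theorem cyc_ok : ((List.range 112).all fun k =>
    Nat.beq (lane cycMat k) (lane (aCode (cycSets.getD k 0) 11) cycIdx)) = true ∧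
    Nat.beq (mul lanesMask cycInv cycMat) one = true ∧ cycIdx < 112 := by decide +kernel

section Algebra

variable {R : Type*} [Ring R]

theorem sum_mul_self {ι : Type*} [DecidableEq ι] (h2 : (1 : R) + 1 = 0) (p : ι → R) (S : Finset ι)
    (hc : ∀ i j, Commute (p i) (p j)) : (∑ i ∈ S, p i) * (∑ i ∈ S, p i) = ∑ i ∈ S, p i * p i := by
  induction S using Finset.induction_on with
  | empty => simp
  | insert a S ha ih =>
    have hd : ∀ r : R, r + r = 0 := fun r => by rw [← one_mul r, ← add_mul, h2, zero_mul]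
    have hac : Commute (p a) (∑ i ∈ S, p i) := Commute.sum_right S p (p a) fun i _ => hc a i
    rw [Finset.sum_insert ha, Finset.sum_insert ha, add_mul, mul_add, mul_add, ih, ← hac.eq]
    rw [show p a * p a + p a * ∑ i ∈ S, p i + (p a * ∑ i ∈ S, p i + ∑ i ∈ S, p i * p i) =
      p a * p a + ((p a * ∑ i ∈ S, p i) + p a * ∑ i ∈ S, p i) + ∑ i ∈ S, p i * p i by abel, hd, add_zero]

end Algebra

/-- A matrix commuting with a family through which a vector is cyclic lies in the span of the family. -/
theorem eq_sum_of_cyclic {n : Type*} [Fintype n] [DecidableEq n] {E : n → Matrix n n (ZMod 2)} {j : n}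
    {C D : Matrix n n (ZMod 2)} (hrow : ∀ k, C k = E k j) (hDC : D * C = 1)
    (hE : ∀ i k, Commute (E i) (E k)) {M : Matrix n n (ZMod 2)} (hM : ∀ k, Commute M (E k)) :
    M = ∑ k, Matrix.vecMul (M j) D k • E k := by
  set c : n → ZMod 2 := Matrix.vecMul (M j) D with hc
  set P : Matrix n n (ZMod 2) := ∑ k, c k • E k with hP
  have hPc : ∀ k, Commute P (E k) := fun k =>
    Commute.sum_left _ _ _ fun i _ => (hE i k).smul_left (c i)
  have hPj : P j = M j := by
    have : Matrix.vecMul c C = M j := by rw [hc, Matrix.vecMul_vecMul, hDC, Matrix.vecMul_one]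
    rw [← this]
    ext l
    simp [hP, Matrix.sum_apply, Matrix.vecMul, dotProduct, hrow]
  have key : ∀ Q : Matrix n n (ZMod 2), (∀ k, Commute Q (E k)) → ∀ k, (C * Q) k = Matrix.vecMul (Q j) (E k) := by
    intro Q hQ k
    ext l
    have := congrFun (congrFun (hQ k).eq j) l
    simp only [Matrix.mul_apply, Matrix.vecMul, dotProduct, hrow] at this ⊢
    exact this.symm
  have hCM : C * M = C * P := by
    ext k l
    rw [key M hM k, key P hPc k, hPj]
  have := congrArg (D * ·) hCM
  simpa [← mul_assoc, hDC] using this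

variable (hs : IsSimpleGroup G)
include hs

theorem sq_eq_one_of_centralizes {g : G} (hg : ∀ v < 2 ^ 11, Commute g (emb v)) : g * g = 1 := by
  obtain ⟨hr, hi, hj⟩ := cyc_ok
  let E : Fin 112 → Mat112 := fun k => mat (emb (cycSets.getD k.1 0 % 2 ^ 11))
  have hsets : ((List.range 112).all fun k => Nat.blt (cycSets.getD k 0) 2048) = true := by decide +kernel
  have hEval : ∀ k : Fin 112, E k = val (aCode (cycSets.getD k.1 0) 11) := fun k => by
    rw [← mat_emb]
    show mat (emb (_ % _)) = _
    rw [Nat.mod_eq_of_lt (show cycSets.getD k.1 0 < 2 ^ 11 from Nat.blt_eq.mp (List.all_eq_true.1 hsets k.1 (List.mem_range.2 k.2)))]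
  have hE : ∀ i k, Commute (E i) (E k) := fun i k => by
    show mat _ * mat _ = mat _ * mat _
    rw [← mat_mul, ← mat_mul, (emb_comm hs _ _).eq]
  have hM : ∀ k, Commute (mat g) (E k) := fun k => by
    show mat _ * mat _ = mat _ * mat _
    rw [← mat_mul, ← mat_mul, (hg _ (Nat.mod_lt _ (by norm_num))).eq]
  have hrow : ∀ k : Fin 112, val cycMat k = E k ⟨cycIdx, hj⟩ := fun k => by
    rw [hEval]
    ext l
    simp only [val, Matrix.of_apply]
    rw [Nat.eq_of_beq_eq_true (List.all_eq_true.1 hr k.1 (List.mem_range.2 k.2))]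
  have hDC : val cycInv * val cycMat = 1 := by rw [← val_mul, Nat.eq_of_beq_eq_true hi, val_one]
  have hP := eq_sum_of_cyclic (j := ⟨cycIdx, hj⟩) hrow hDC hE hM
  set c : Fin 112 → ZMod 2 := Matrix.vecMul (mat g ⟨cycIdx, hj⟩) (val cycInv)
  have h2 : (1 : Mat112) + 1 = 0 := by
    ext i k
    rw [Matrix.add_apply, Matrix.zero_apply]
    exact CharTwo.add_self_eq_zero _
  have hsq : ∀ k, (c k • E k) * (c k • E k) = c k • (1 : Mat112) := fun k => by
    rw [Matrix.smul_mul, Matrix.mul_smul, smul_smul]
    show _ • (mat _ * mat _) = _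
    rw [← mat_mul, emb_self hs, mat_one]
    generalize c k = a
    revert a
    decide
  have hgg : mat g * mat g = (∑ k, c k) • (1 : Mat112) := by
    conv_lhs => rw [hP]
    rw [sum_mul_self h2 _ _ fun i k => ((hE i k).smul_left _).smul_right _, Finset.sum_congr rfl fun k _ => hsq k,
      ← Finset.sum_smul]
  rw [← mat_mul] at hgg
  have hu : IsUnit (mat (g * g)) := (rep (g * g)).isUnit
  refine eq_of_val hs ?_
  show mat (g * g) = mat 1
  rw [mat_one]
  generalize (∑ k, c k) = a at hgg
  obtain rfl | rfl : a = 0 ∨ a = 1 := (by decide : ∀ b : ZMod 2, b = 0 ∨ b = 1) a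
  · rw [hgg, zero_smul] at hu
    exact absurd hu not_isUnit_zero
  · rw [hgg, one_smul]

end Cfsg.Agent.Lib.J4Cons78
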