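import Cfsg.Agent.Lib.J4Cons78.SubH

/-! The index of 2^11:M24 in the presented group J4, given its order and simplicity. -/

set_option autoImplicit false
set_option exponentiation.threshold 13000

namespace Cfsg.Agent.Lib.J4Cons78

open Cfsg.Spor

/-- The quotient map of free words. -/
def qmap : FreeGroup J4.Gen →* G := PresentedGroup.mk (coxRelators J4.edges ∪ {r | r ∈ J4.extra})

theorem qmap_gU : qmap ((J4.y * ((J4.y * J4.x) ^ 4 * J4.y⁻¹ * J4.x)⁻¹ * J4.t *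
    ((J4.y * J4.x) ^ 4 * J4.y⁻¹ * J4.x)) ^ 3) = gU := by
  have hx : qmap J4.x = gX := rfl
  have hy : qmap J4.y = gY := rfl
  have ht : qmap J4.t = gT := rfl
  have e : gU = (gY * gval (winv [1, 0, 1, 0, 1, 0, 1, 0, 2, 0]) * gT *
      gval [1, 0, 1, 0, 1, 0, 1, 0, 2, 0]) ^ 3 := by
    have hu : uWord = ([1] ++ winv [1, 0, 1, 0, 1, 0, 1, 0, 2, 0] ++ [3] ++ [1, 0, 1, 0, 1, 0, 1, 0, 2, 0]) ++
        ([1] ++ winv [1, 0, 1, 0, 1, 0, 1, 0, 2, 0] ++ [3] ++ [1, 0, 1, 0, 1, 0, 1, 0, 2, 0]) ++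
        ([1] ++ winv [1, 0, 1, 0, 1, 0, 1, 0, 2, 0] ++ [3] ++ [1, 0, 1, 0, 1, 0, 1, 0, 2, 0]) := by decide +kernel
    have h1 : gval [1] = gY := by simp [gval, glett]
    have h3 : gval [3] = gT := by simp [gval, glett]
    rw [gU, hu]
    simp only [gval_append, h1, h3, pow_succ, pow_zero, one_mul, mul_assoc]
  rw [e, gval_winv]
  simp only [map_pow, map_mul, map_inv, hx, hy, ht, gval, glett, List.map_cons, List.map_nil,
    List.prod_cons, List.prod_nil, mul_one, pow_succ, pow_zero, one_mul, mul_assoc]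

theorem index_map (hs : IsSimpleGroup G) (hc : Nat.card G = 86775571046077562880) :
    (((Subgroup.closure ({J4.x, J4.y, (J4.y * ((J4.y * J4.x) ^ 4 * J4.y⁻¹ * J4.x)⁻¹ * J4.t *
      ((J4.y * J4.x) ^ 4 * J4.y⁻¹ * J4.x)) ^ 3} : Set (FreeGroup J4.Gen))).map qmap)).index = 173067389 := by
  rw [MonoidHom.map_closure, Set.image_insert_eq, Set.image_pair, qmap_gU]
  exact index_subH hs hc

end Cfsg.Agent.Lib.J4Cons78
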