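import Cfsg.Agent.Lib.J4Cons78.Basic
import Cfsg.Agent.Lib.J4Cons78.Bits
import Cfsg.Agent.Lib.J4Cons78.Data

/-! The subgroup 2^11:M24 of J4: the elementary abelian normal subgroup and the order. -/

set_option autoImplicit false
set_option exponentiation.threshold 13000
set_option maxRecDepth 20000
set_option Elab.async false

open scoped Pointwise

namespace Cfsg.Agent.Lib.J4Cons78

open Cfsg.Agent.Lib.J4Rep
open Cfsg.Agent.Lib.M24Pres (wval lval)

/-- The word of a basis element. -/
def bWord (i : ℕ) : List ℕ := winv (conjWords.getD i []) ++ uWord ++ conjWords.getD i []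

/-- The basis. -/
def bA (i : ℕ) : G := gval (bWord i)

/-- The element u. -/
def gU : G := gval uWord

/-- The code of a basis element. -/
def bCode (i : ℕ) : ℕ := basisCodes.getD i one

/-- The code of a product of basis elements. -/
def codeBits (mask e : ℕ) (b : ℕ → ℕ) (v : ℕ) : ℕ → ℕ
  | 0 => e
  | n + 1 => mul mask (codeBits mask e b v n) (bif v.testBit n then b n else e)

/-- The code of a product of the chosen basis elements. -/
abbrev aCode (v n : ℕ) : ℕ := codeBits lanesMask one bCode v n

theorem basis_ok : ((List.range 11).all fun i => Nat.beq (wcode (bWord i)) (bCode i)) = true := by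
  decide +kernel

theorem comm_ok : ((List.range 11).all fun i => Nat.beq (mul lanesMask (bCode i) (bCode i)) one &&
    (List.range i).all fun j =>
      Nat.beq (mul lanesMask (bCode i) (bCode j)) (mul lanesMask (bCode j) (bCode i))) = true := by
  decide +kernel

theorem conj_ok : mx.length = 11 ∧ my.length = 11 ∧ ((List.range 11).all fun i =>
    Nat.beq (mul lanesMask (mul lanesMask mX (bCode i)) mX) (aCode (mx.getD i 0) 11) &&
    Nat.beq (mul lanesMask (mul lanesMask mYi (bCode i)) mY) (aCode (my.getD i 0) 11)) = true := by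
  decide +kernel

/-- The matrix of an element. -/
noncomputable abbrev mat (g : G) : Mat112 := ((rep g : GL (Fin 112) (ZMod 2)) : Mat112)

theorem mat_mul (g h : G) : mat (g * h) = mat g * mat h := by simp [mat]

theorem mat_one : mat 1 = 1 := by simp [mat]

theorem mat_bA {i : ℕ} (hi : i < 11) : mat (bA i) = val (bCode i) := by
  rw [mat, bA, rep_gval, Nat.eq_of_beq_eq_true (List.all_eq_true.1 basis_ok i (List.mem_range.2 hi))]

theorem elem_bA (hs : IsSimpleGroup G) : Elem bA 11 := by
  have h := List.all_eq_true.1 comm_ok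
  simp only [List.mem_range, Bool.and_eq_true, List.all_eq_true] at h
  refine ⟨fun i j hi hj => ?_, fun i hi => eq_of_val hs ?_⟩
  · have key : ∀ i j : ℕ, i < 11 → j < i → Commute (bA i) (bA j) := by
      intro i j hi hj
      refine eq_of_val hs ?_
      show mat _ = mat _
      rw [mat_mul, mat_mul, mat_bA hi, mat_bA (hj.trans hi), ← val_mul, ← val_mul,
        Nat.eq_of_beq_eq_true ((h i hi).2 j hj)]
    rcases lt_trichotomy i j with hlt | rfl | hlt
    · exact (key j i hj hlt).symm
    · exact Commute.refl _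
    · exact key i j hi hlt
  · show mat _ = mat _
    rw [mat_mul, mat_bA hi, ← val_mul, Nat.eq_of_beq_eq_true (h i hi).1, val_one, mat_one]

/-- The element of the normal 2^11 with a given bit string. -/
def emb (v : ℕ) : G := prodBits bA v 11

theorem mat_codeBits {mask e : ℕ} {b : ℕ → ℕ} {c : ℕ → G} (hm : ∀ A B, val (mul mask A B) = val A * val B)
    (he : val e = 1) (v : ℕ) : ∀ n, (∀ i, i < n → mat (c i) = val (b i)) →
      mat (prodBits c v n) = val (codeBits mask e b v n)
  | 0, _ => by simp only [prodBits, codeBits, mat_one, he]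
  | n + 1, h => by
    have ih := mat_codeBits hm he v n fun i hi => h i (by omega)
    simp only [prodBits, codeBits, mat_mul, hm, ih]
    cases v.testBit n
    · simp only [Bool.false_eq_true, if_false, cond_false, mat_one, he]
    · simp only [if_true, cond_true, h n (by omega)]

theorem mat_prodBits (v : ℕ) : mat (prodBits bA v 11) = val (aCode v 11) :=
  mat_codeBits val_mul val_one v 11 fun _ hi => mat_bA hi

theorem mat_emb (v : ℕ) : mat (emb v) = val (aCode v 11) := mat_prodBits v

theorem emb_xor (hs : IsSimpleGroup G) (u v : ℕ) : emb (u ^^^ v) = emb u * emb v :=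
  prodBits_xor u v 11 (elem_bA hs)

theorem emb_zero : emb 0 = 1 := prodBits_zero bA 11

theorem emb_self (hs : IsSimpleGroup G) (v : ℕ) : emb v * emb v = 1 := by
  rw [← emb_xor hs, Nat.xor_self, emb_zero]

theorem emb_inv (hs : IsSimpleGroup G) (v : ℕ) : (emb v)⁻¹ = emb v :=
  inv_eq_of_mul_eq_one_right (emb_self hs v)

theorem emb_comm (hs : IsSimpleGroup G) (u v : ℕ) : Commute (emb u) (emb v) := by
  show _ * _ = _ * _
  rw [← emb_xor hs, ← emb_xor hs, Nat.xor_comm]

theorem emb_conj_x (hs : IsSimpleGroup G) :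
    ∀ v < 2 ^ 11, gX⁻¹ * emb v * gX = emb (lin mx v) := by
  refine conj_prodBits (elem_bA hs) gX mx conj_ok.1.symm fun i hi => eq_of_val hs ?_
  have h := List.all_eq_true.1 conj_ok.2.2 i (List.mem_range.2 hi)
  simp only [Bool.and_eq_true] at h
  show mat _ = mat (emb _)
  rw [mat_emb, ← Nat.eq_of_beq_eq_true h.1, val_mul, val_mul, mat_mul, mat_mul, mat_bA hi]
  have e : mat gX = val mX := rep_glett 0
  have e' : mat gX⁻¹ = val mX := by rw [← mul_eq_one_iff_eq_inv.1 gX_sq, e]
  rw [e, e']

theorem emb_conj_y (hs : IsSimpleGroup G) :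
    ∀ v < 2 ^ 11, gY⁻¹ * emb v * gY = emb (lin my v) := by
  refine conj_prodBits (elem_bA hs) gY my conj_ok.2.1.symm fun i hi => eq_of_val hs ?_
  have h := List.all_eq_true.1 conj_ok.2.2 i (List.mem_range.2 hi)
  simp only [Bool.and_eq_true] at h
  show mat _ = mat (emb _)
  rw [mat_emb, ← Nat.eq_of_beq_eq_true h.2, val_mul, val_mul, mat_mul, mat_mul, mat_bA hi]
  have e : mat gY = val mY := rep_glett 1
  have e' : mat gY⁻¹ = val mYi := rep_glett 2
  rw [e, e']

theorem rows_lt : (mx.all fun r => Nat.blt r 2048) = true ∧ (my.all fun r => Nat.blt r 2048) = true := by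
  decide +kernel

theorem lin_mx_lt (v : ℕ) : lin mx v < 2 ^ 11 :=
  lin_lt mx v 11 fun r hr => Nat.blt_eq.mp (List.all_eq_true.1 rows_lt.1 r hr)

theorem lin_my_lt (v : ℕ) : lin my v < 2 ^ 11 :=
  lin_lt my v 11 fun r hr => Nat.blt_eq.mp (List.all_eq_true.1 rows_lt.2 r hr)

/-- The action of a word in x, y on bit strings. -/
def actW : List ℕ → ℕ → ℕ
  | [], v => v
  | c :: l, v => actW l (match c with
    | 0 => lin mx v
    | 1 => lin my v
    | _ => lin my (lin my v))

theorem actW_append : ∀ (a b : List ℕ) (v : ℕ), actW (a ++ b) v = actW b (actW a v)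
  | [], _, _ => rfl
  | c :: a, b, v => actW_append a b _

theorem actW_lt : ∀ (l : List ℕ) (v : ℕ), v < 2 ^ 11 → actW l v < 2 ^ 11
  | [], _, h => h
  | c :: l, v, h => actW_lt l _ (by
      match c with
      | 0 => exact lin_mx_lt v
      | 1 => exact lin_my_lt v
      | _ + 2 => exact lin_my_lt _)

theorem actW_xor : ∀ (l : List ℕ) (u v : ℕ), actW l (u ^^^ v) = actW l u ^^^ actW l v
  | [], _, _ => rfl
  | c :: l, u, v => by
    match c with
    | 0 => simp only [actW, lin_xor]; exact actW_xor l _ _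
    | 1 => simp only [actW, lin_xor]; exact actW_xor l _ _
    | _ + 2 => simp only [actW, lin_xor]; exact actW_xor l _ _

theorem gY_cube (hs : IsSimpleGroup G) : gY * gY * gY = 1 := by
  have h : gval [1, 1, 1] = gval [] := gval_eq hs (by decide +kernel)
  simpa [gval, glett, mul_assoc] using h

theorem emb_conj_word (hs : IsSimpleGroup G) : ∀ (l : List ℕ), (∀ c ∈ l, c < 3) →
    ∀ v < 2 ^ 11, (gval l)⁻¹ * emb v * gval l = emb (actW l v)
  | [], _, v, _ => by simp [gval, actW]
  | c :: l, h, v, hv => by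
    have hl : ∀ d ∈ l, d < 3 := fun d hd => h d (List.mem_cons_of_mem c hd)
    have hy2 : gY⁻¹ = gY * gY := inv_eq_of_mul_eq_one_right (by rw [← mul_assoc]; exact gY_cube hs)
    have key : ∀ w, w < 2 ^ 11 → (glett c)⁻¹ * emb v * glett c = emb w →
        (gval (c :: l))⁻¹ * emb v * gval (c :: l) = emb (actW l w) := by
      intro w hw e
      rw [← emb_conj_word hs l hl w hw, ← e, gval_cons]; group
    match c, h c List.mem_cons_self with
    | 0, _ => exact key _ (lin_mx_lt v) (emb_conj_x hs v hv)
    | 1, _ => exact key _ (lin_my_lt v) (emb_conj_y hs v hv)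
    | 2, _ =>
      refine key _ (lin_my_lt _) ?_
      show (gY⁻¹)⁻¹ * emb v * gY⁻¹ = emb (lin my (lin my v))
      rw [← emb_conj_y hs _ (lin_my_lt v), ← emb_conj_y hs v hv]
      have hy3 : gY = gY⁻¹ * gY⁻¹ := by rw [← mul_inv_rev, ← hy2, inv_inv]
      calc (gY⁻¹)⁻¹ * emb v * gY⁻¹ = gY * emb v * gY⁻¹ := by rw [inv_inv]
        _ = (gY⁻¹ * gY⁻¹) * emb v * (gY * gY) := by rw [← hy3, ← hy2]
        _ = _ := by group

/-- The normal subgroup 2^11. -/
def subA (hs : IsSimpleGroup G) : Subgroup G where
  carrier := {g | ∃ v, v < 2 ^ 11 ∧ emb v = g}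
  one_mem' := ⟨0, by norm_num, emb_zero⟩
  mul_mem' := by
    rintro _ _ ⟨u, hu, rfl⟩ ⟨v, hv, rfl⟩
    exact ⟨u ^^^ v, Nat.xor_lt_two_pow hu hv, emb_xor hs u v⟩
  inv_mem' := by
    rintro _ ⟨u, hu, rfl⟩
    exact ⟨u, hu, (emb_inv hs u).symm⟩

/-- The complement M24. -/
def subM : Subgroup G := Subgroup.closure {gX, gY}

/-- The subgroup 2^11:M24. -/
def subH : Subgroup G := Subgroup.closure {gX, gY, gU}

theorem bA_zero : bA 0 = gU := rfl

theorem emb_mem (hs : IsSimpleGroup G) (v : ℕ) : emb v ∈ subA hs := by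
  refine prodBits_mem bA _ v 11 fun i hi => ⟨2 ^ i, Nat.pow_lt_pow_right (by norm_num) hi, ?_⟩
  exact prodBits_unit bA hi

theorem bA_mem_subH {i : ℕ} (hi : i < 11) : bA i ∈ subH := by
  have hw : ∀ l : List ℕ, (∀ c ∈ l, c < 3) → gval l ∈ subH := by
    intro l hl
    rw [gval_eq_wval l hl]
    exact Subgroup.closure_mono (by simp [Set.insert_subset_iff]) (Cfsg.Agent.Lib.M24Pres.wval_mem gX gY l)
  have hlt : ((List.range 11).all fun i => (conjWords.getD i []).all fun c => Nat.blt c 3) = true := by
    decide +kernel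
  have h := List.all_eq_true.1 hlt i (List.mem_range.2 hi)
  simp only [List.all_eq_true, Nat.blt_eq] at h
  rw [bA, bWord, gval_append, gval_append, gval_winv]
  exact subH.mul_mem (subH.mul_mem (subH.inv_mem (hw _ h)) (Subgroup.subset_closure (by simp [gU]))) (hw _ h)

theorem subH_eq (hs : IsSimpleGroup G) : subH = subM ⊔ subA hs := by
  apply le_antisymm
  · rw [subH, Subgroup.closure_le]
    rintro g (rfl | rfl | rfl)
    · exact Subgroup.mem_sup_left (Subgroup.subset_closure (by simp))
    · exact Subgroup.mem_sup_left (Subgroup.subset_closure (by simp))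
    · refine Subgroup.mem_sup_right ⟨2 ^ 0, by norm_num, ?_⟩
      exact (prodBits_unit bA (by norm_num)).trans bA_zero
  · refine sup_le (Subgroup.closure_mono (by simp [Set.insert_subset_iff])) ?_
    rintro _ ⟨v, -, rfl⟩
    exact prodBits_mem bA _ v 11 fun i hi => bA_mem_subH hi

end Cfsg.Agent.Lib.J4Cons78
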