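/-! Data for central extensions of 2^11:M24: inverse of 1 + xy, a splitting of the 2^11 under a word of order 11,
and combinations of equations showing that an equivariance defect vanishes. -/

set_option autoImplicit false

namespace Cfsg.Agent.Lib.J4Cons78

/-- Preimages of the unit bit strings under 1 + xy. -/
def invOneAddS : List Nat := [1654, 1652, 1655, 1803, 1819, 1620, 1651, 1615, 1871, 1307, 1743]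

/-- The fixed coordinate. -/
def splitCoord : List Nat := [0, 1, 1, 0, 1, 1, 0, 0, 1, 0, 0]

/-- The moving part. -/
def splitMove : List Nat := [27, 673, 783, 665, 173, 742, 769, 138, 516, 490, 896]

/-- The words: relators in the letters 0, 1 and xy. -/
def eqWords : List (List Nat) := [[1, 1, 1], [0, 1, 0, 1, 0, 1, 0, 1, 0, 1, 0, 1, 0, 1, 0, 1, 0, 1, 0, 1, 0, 1, 0, 1, 0, 1, 0, 1, 0, 1, 0, 1, 0, 1, 0, 1, 0, 1, 0, 1, 0, 1, 0, 1, 0, 1], [0, 1, 1, 0, 1, 0, 1, 1, 0, 1, 0, 1, 1, 0, 1, 0, 1, 1, 0, 1, 0, 1, 1, 0, 1, 0, 1, 1, 0, 1, 0, 1, 1, 0, 1, 0, 1, 1, 0, 1, 0, 1, 1, 0, 1, 0, 1, 1, 0, 1, 0, 1, 1, 0, 1, 0, 1, 1, 0, 1], [0, 1, 1, 0, 1, 1, 0, 1, 0, 1, 0, 1, 1, 0, 1, 1, 0, 1, 0, 1, 0, 1, 1, 0, 1, 1, 0, 1, 0, 1, 0, 1, 1, 0, 1, 1, 0, 1, 0, 1, 0, 1, 1, 0, 1, 1, 0, 1, 0, 1], [0, 1, 0, 1, 0, 1, 1, 0,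 1, 0, 1, 1, 0, 1, 0, 1, 1, 0, 1, 0, 1, 0, 1, 1, 0, 1, 0, 1, 1, 0, 1, 0, 1, 1, 0, 1, 0, 1, 0, 1, 1, 0, 1, 0, 1, 1, 0, 1, 0, 1, 1, 0, 1, 0, 1, 0, 1, 1, 0, 1, 0, 1, 1, 0, 1, 0, 1, 1], [0, 1, 0, 1, 0, 1, 1, 0, 1, 0, 1, 0, 1, 1, 0, 1, 0, 1, 0, 1, 1, 0, 1, 0, 1, 1, 0, 1, 1, 0, 1, 0, 1, 1, 0, 1, 1, 0, 1, 0, 1, 1, 0, 1, 1], [0, 0], [0, 1]]

/-- For each unknown, the equations (word, bit) whose sum isolates it. -/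
def eqCombs : List (List (Nat × Nat)) := [[(0, 1), (0, 4), (3, 2), (4, 0), (5, 0), (5, 2), (5, 3), (7, 1)], [(0, 0), (7, 1)], [(0, 0), (0, 4), (0, 5), (0, 8), (5, 0), (5, 3), (6, 3), (7, 2), (7, 3), (7, 5), (7, 6), (7, 8)], [(0, 1), (0, 8), (4, 0), (5, 0), (5, 2), (5, 3), (7, 0), (7, 1), (7, 2), (7, 3), (7, 4), (7, 6), (7, 8)], [(0, 1), (0, 4), (0, 8), (3, 2), (6, 3), (7, 2), (7, 3), (7, 5), (7, 6), (7, 8)], [(0, 1), (0, 8), (4, 0), (5, 0), (5, 2), (5, 3), (6, 3), (7, 0), (7, 1), (7, 2), (7, 3), (7, 4), (7, 6), (7, 8)], [(0, 4), (3, 2), (6, 3), (7, 2), (7, 3), (7, 4), (7, 5), (7, 8)], [(0, 5), (3, 2), (5, 0), (6, 3), (7, 2), (7, 4), (7, 6), (7, 8), (7, 9)], [(0, 0), (0, 1), (3, 2), (5, 0), (5, 3), (6, 3), (7, 2), (7, 3), (7, 4), (7, 5), (7, 8)], [(0, 1), (0, 5), (0, 8), (3, 2), (7, 2), (7,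 4), (7, 6), (7, 8), (7, 9)], [(0, 0), (0, 1), (0, 5), (3, 2), (5, 0), (5, 2), (5, 3), (6, 3), (7, 2), (7, 3), (7, 4), (7, 5), (7, 8)], [(0, 0)], [(0, 1), (0, 4), (3, 2), (4, 0), (5, 0), (5, 2), (5, 3), (7, 0), (7, 1)], [(0, 1), (0, 4), (0, 8), (3, 2), (6, 3), (7, 2), (7, 3), (7, 4), (7, 5), (7, 6), (7, 8)], [(0, 1), (0, 8), (4, 0), (5, 0), (5, 2), (5, 3), (6, 3), (7, 0), (7, 1), (7, 2), (7, 3), (7, 4), (7, 5), (7, 6), (7, 8)], [(0, 0), (0, 4), (0, 5), (0, 8), (5, 0), (5, 3), (6, 3), (7, 3), (7, 5), (7, 6), (7, 8)], [(0, 1), (0, 8), (4, 0), (5, 0), (5, 2), (5, 3), (7, 0), (7, 1), (7, 2), (7, 4), (7, 6), (7, 8)], [(0, 0), (0, 1), (3, 2), (5, 0), (5, 3), (6, 3), (7, 2), (7, 3), (7, 4), (7, 5)], [(0, 1), (0, 5), (0, 8), (3, 2), (7, 2), (7, 4), (7, 6), (7, 8)], [(0, 4), (3, 2), (6, 3), (7, 2), (7,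 3), (7, 4), (7, 5), (7, 6), (7, 8)], [(0, 5), (3, 2), (5, 0), (6, 3), (7, 2), (7, 4), (7, 6), (7, 7), (7, 8), (7, 9)], [(0, 4), (0, 5), (3, 2), (5, 2), (6, 3), (7, 2), (7, 3), (7, 4), (7, 5), (7, 6), (7, 10)]]

end Cfsg.Agent.Lib.J4Cons78
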