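import Cfsg.Agent.Lib.J4Cons78.Cocycle
import Cfsg.Agent.Lib.J4Cons78.MultData

/-! Checks for central extensions of 2^11:M24. -/

set_option autoImplicit false
set_option exponentiation.threshold 13000
set_option maxRecDepth 20000
set_option Elab.async false

namespace Cfsg.Agent.Lib.J4Cons78

/-- Where a unit of the unknown defect is sent along a word in the letters 0 and 1. -/
def maskW : List ℕ → ℕ → ℕ
  | [], _ => 0
  | c :: l, a => Nat.xor (Nat.shiftLeft a (Nat.mul 11 c)) (maskW l (match c with
    | 0 => lin mx a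
    | 1 => lin my a
    | _ => lin my (lin my a)))

/-- The sum of the chosen equations. -/
def combSum : List (ℕ × ℕ) → ℕ
  | [] => 0
  | p :: l => Nat.xor (maskW (eqWords.getD p.1 []) (2 ^ p.2)) (combSum l)

theorem eq_ok : ((List.range 22).all fun k =>
    Nat.beq (combSum (eqCombs.getD k [])) (2 ^ k) &&
      (eqCombs.getD k []).all fun p => Nat.blt p.1 eqWords.length && Nat.blt p.2 11) = true ∧
    ((eqWords.take 7).all fun w => Nat.beq (wcode w) Cfsg.Agent.Lib.J4Rep.one &&
      w.all fun c => Nat.blt c 2) = true ∧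
    ((eqWords.drop 7).all fun w => decide (w = [0, 1])) = true ∧ eqWords.length = 8 ∧
    ((List.range 11).all fun r => (List.range 7).all fun j =>
      Nat.beq (actW (eqWords.getD j []) (2 ^ r)) (2 ^ r)) = true := by decide +kernel

theorem inv_ok : ((List.range 11).all fun r =>
    Nat.beq (Nat.xor (lin invOneAddS (2 ^ r)) (lin my (lin mx (lin invOneAddS (2 ^ r))))) (2 ^ r)) = true ∧
    (invOneAddS.all fun c => Nat.blt c 2048) = true ∧
    ((List.range 11).all fun r =>
      Nat.beq (Nat.xor (lin [e11] (lin splitCoord (2 ^ r)))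
        (Nat.xor (lin splitMove (2 ^ r)) (actW w11 (lin splitMove (2 ^ r))))) (2 ^ r)) = true ∧
    (splitMove.all fun c => Nat.blt c 2048) = true ∧ (splitCoord.all fun c => Nat.blt c 2) = true := by
  decide +kernel

end Cfsg.Agent.Lib.J4Cons78
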