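import Cfsg.Agent.Lib.J4Cons78.Centralizer
import Cfsg.Agent.S2038
import Mathlib

/-! In a central extension of J4 the subgroup M24 lifts. -/

set_option autoImplicit false
set_option exponentiation.threshold 13000

namespace Cfsg.Agent.Lib.J4Cons78

open Cfsg
open scoped commutatorElement

/-- A stem extension of M24 has trivial kernel. -/
theorem ker_stem_M24 {Δ : Type} [Group Δ] [Finite Δ] {τ : Δ →* ↥M24} (h : IsStemExtension τ) : τ.ker = ⊥ := by
  obtain ⟨π, hπ⟩ := Cfsg.Agent.S2038.result.2 Δ τ h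
  rw [Subgroup.eq_bot_iff_forall]
  intro z hz
  obtain ⟨a, ha⟩ := hπ ⟨z, hz⟩
  rw [Subsingleton.elim a 1, map_one] at ha
  exact (congrArg Subtype.val ha).symm

theorem commutator_M24 : commutator ↥M24 = ⊤ := by
  haveI : IsSimpleGroup M24 := Golay.isSimple_M24
  refine ((inferInstance : (commutator ↥M24).Normal).eq_bot_or_eq_top).resolve_left fun h => ?_
  have hc : ∀ a b : ↥M24, a * b = b * a := fun a b => by
    refine commutatorElement_eq_one_iff_mul_comm.1 ?_
    have hmem : ⁅a, b⁆ ∈ commutator ↥M24 :=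
      Subgroup.commutator_mem_commutator (Subgroup.mem_top a) (Subgroup.mem_top b)
    rwa [h, Subgroup.mem_bot] at hmem
  haveI : Std.Commutative (α := ↥M24) (· * ·) := ⟨hc⟩
  let cg : CommGroup ↥M24 := { (inferInstance : Group ↥M24) with mul_comm := hc }
  have hprime : (Nat.card ↥M24).Prime := @IsSimpleGroup.prime_card ↥M24 cg inferInstance
  rw [Golay.card_M24] at hprime
  exact absurd hprime (Nat.not_prime_of_dvd_of_lt (show 2 ∣ 244823040 by norm_num) (by norm_num) (by norm_num))

variable (hs : IsSimpleGroup G) {Γ : Type} [Group Γ] [Finite Γ] {σ : Γ →* G}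
include hs

theorem exists_section (hσ : IsStemExtension σ) : ∃ s : subM →* Γ, ∀ m, σ (s m) = m.1 := by
  obtain ⟨e⟩ := equiv_subM hs
  set M' := subM.comap σ with hM'
  set D : Subgroup Γ := ⁅M', M'⁆ with hD
  have hDM : D ≤ M' := Subgroup.commutator_le_self M'
  let τ : D →* ↥M24 := e.toMonoidHom.comp ((σ.comp D.subtype).codRestrict subM fun d => hDM d.2)
  have hτv : ∀ d : D, e.symm (τ d) = ⟨σ d.1, hDM d.2⟩ := fun d => e.symm_apply_apply _
  have hMperf : ⁅subM, subM⁆ = subM := by
    have hsub : commutator ↥subM = ⊤ := by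
      rw [eq_top_iff]
      intro x _
      have h1 : (commutator ↥M24).map e.symm.toMonoidHom ≤ commutator ↥subM := by
        rw [commutator_def, Subgroup.map_commutator, commutator_def]
        exact Subgroup.commutator_mono le_top le_top
      refine h1 ⟨e x, ?_, e.symm_apply_apply x⟩
      rw [commutator_M24]; trivial
    conv_lhs => rw [← subM.range_subtype, MonoidHom.range_eq_map, ← Subgroup.map_commutator, ← commutator_def, hsub,
      ← MonoidHom.range_eq_map, subM.range_subtype]
  have hmap : D.map σ = subM := by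
    rw [hD, Subgroup.map_commutator, Subgroup.map_comap_eq_self_of_surjective hσ.1, hMperf]
  have hker : ∀ {z : Γ}, z ∈ σ.ker → ∀ g, g * z = z * g := fun hz g => Subgroup.mem_center_iff.1 (hσ.2.1 hz) g
  have hperf : ⁅D, D⁆ = D := by
    refine le_antisymm (Subgroup.commutator_le_self D) ?_
    conv_lhs => rw [hD]
    refine Subgroup.commutator_le.2 fun a ha b hb => ?_
    have hdec : ∀ a ∈ M', ∃ d ∈ D, ∀ g, g * (d⁻¹ * a) = (d⁻¹ * a) * g := by
      intro a ha
      obtain ⟨d, hd, he⟩ : σ a ∈ D.map σ := by rw [hmap]; exact ha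
      exact ⟨d, hd, hker (by rw [MonoidHom.mem_ker, map_mul, map_inv, he, inv_mul_cancel])⟩
    obtain ⟨d, hd, hz⟩ := hdec a ha
    obtain ⟨d', hd', hz'⟩ := hdec b hb
    have : ⁅a, b⁆ = ⁅d, d'⁆ := by
      set z := d⁻¹ * a with hzd
      set z' := d'⁻¹ * b with hzd'
      have ea : a = d * z := by rw [hzd]; group
      have eb : b = d' * z' := by rw [hzd']; group
      rw [ea, eb, commutatorElement_def, commutatorElement_def]
      calc d * z * (d' * z') * (d * z)⁻¹ * (d' * z')⁻¹
          = d * (z * (d' * z')) * z⁻¹ * d⁻¹ * (d' * z')⁻¹ := by group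
        _ = d * ((d' * z') * z) * z⁻¹ * d⁻¹ * (d' * z')⁻¹ := by rw [hz]
        _ = d * d' * (z' * d⁻¹) * z'⁻¹ * d'⁻¹ := by group
        _ = d * d' * (d⁻¹ * z') * z'⁻¹ * d'⁻¹ := by rw [hz']
        _ = d * d' * d⁻¹ * d'⁻¹ := by group
    rw [this]
    exact Subgroup.commutator_mem_commutator hd hd'
  have hkτ : ∀ {d : D}, d ∈ τ.ker → d.1 ∈ σ.ker := fun {d} hd => by
    have h := hτv d
    rw [show τ d = 1 from hd, map_one] at h
    exact (congrArg Subtype.val h).symm
  have hτ : IsStemExtension τ := by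
    refine ⟨fun y => ?_, fun d hd => ?_, fun d _ => ?_⟩
    · obtain ⟨d, hd, he⟩ : (e.symm y).1 ∈ D.map σ := by rw [hmap]; exact (e.symm y).2
      exact ⟨⟨d, hd⟩, e.symm.injective ((hτv _).trans (Subtype.ext he))⟩
    · exact Subgroup.mem_center_iff.2 fun g => Subtype.ext (hker (hkτ hd) g.1)
    · have hd : d.1 ∈ (commutator ↥D).map D.subtype := by
        rw [commutator_def, Subgroup.map_commutator, ← MonoidHom.range_eq_map, Subgroup.range_subtype, hperf]
        exact d.2
      obtain ⟨x, hx, he⟩ := hd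
      exact (D.subtype_injective he) ▸ hx
  have hinj : Function.Injective τ := (MonoidHom.ker_eq_bot_iff τ).1 (ker_stem_M24 hτ)
  let ε : D ≃* ↥M24 := MulEquiv.ofBijective τ ⟨hinj, hτ.1⟩
  refine ⟨D.subtype.comp (ε.symm.toMonoidHom.comp e.toMonoidHom), fun m => ?_⟩
  have h := hτv (ε.symm (e m))
  rw [show τ (ε.symm (e m)) = e m from ε.apply_symm_apply (e m), e.symm_apply_apply] at h
  exact (congrArg Subtype.val h).symm

end Cfsg.Agent.Lib.J4Cons78
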