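import Cfsg.Agent.Lib.J4Cons78.MultTwo
import Cfsg.Agent.Lib.J4Cons78.ComChecks

/-! The multiplier of J4 is trivial: odd order kernels split by the relations. -/

set_option autoImplicit false
set_option exponentiation.threshold 13000
set_option maxRecDepth 20000

namespace Cfsg.Agent.Lib.J4Cons78

open Cfsg Cfsg.Spor
open scoped commutatorElement

/-- The segment p. -/
def segP : List ℕ := seg 2

theorem facts_ok : Nat.beq (wcode (segP ++ [3])) (wcode ([3] ++ segP)) = true ∧
    Nat.beq (wcode (segP ++ segP ++ (seg 4 ++ [3] ++ seg 3))) (wcode (seg 4 ++ [3] ++ seg 3 ++ (segP ++ segP))) =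
      true ∧
    Nat.beq (wcode (([3] ++ (seg 4 ++ [3] ++ seg 3)) ++ ([3] ++ (seg 4 ++ [3] ++ seg 3)) ++
      (([3] ++ (seg 4 ++ [3] ++ seg 3)) ++ ([3] ++ (seg 4 ++ [3] ++ seg 3))))) Cfsg.Agent.Lib.J4Rep.one = true ∧
    Nat.beq (wcode (segP ++ segP ++ segP ++ segP)) Cfsg.Agent.Lib.J4Rep.one = true ∧
    ((List.range 5).all fun k => (seg k).all fun c => Nat.blt c 3) = true ∧
    seg 1 = winv (seg 0) ∧ seg 4 = winv (seg 3) := by decide +kernel

theorem gval_one (hs : IsSimpleGroup G) {l : List ℕ}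
    (h : Nat.beq (wcode l) Cfsg.Agent.Lib.J4Rep.one = true) : gval l = 1 :=
  (gval_eq hs (l' := []) (show Nat.beq (wcode l) (wcode []) = true by
    rw [show wcode [] = Cfsg.Agent.Lib.J4Rep.one from rfl]; exact h)).trans gval_nil

section Odd

variable {Γ : Type} [Group Γ]

/-- An element conjugate to a central translate of an involution equals it. -/
theorem conj_eq_of_sq {a t z : Γ} (ha : a * a = 1) (hta : t * t = 1) (hz : ∀ g, g * z = z * g)
    (h1 : ∀ w : Γ, w * w = 1 → (∀ g, g * w = w * g) → w = z → w = 1) (e : a = t * z) : a = t := by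
  have hzz : z * z = 1 := by
    have : t * z * (t * z) = 1 := e ▸ ha
    calc z * z = (t * t) * (z * z) := by rw [hta, one_mul]
      _ = t * (t * z) * z := by group
      _ = t * (z * t) * z := by rw [hz t]
      _ = t * z * (t * z) := by group
      _ = 1 := this
  rw [e, h1 z hzz hz rfl, mul_one]

theorem zeta_four_A {a b z : Γ} (hz : ∀ g, g * z = z * g) (ha : a * a * a = 1) (hb : b * b = 1)
    (h : a * b * (a * b) * (a * b) = z) : z * z * z * z = 1 := by
  have hb' : b⁻¹ = b := inv_eq_of_mul_eq_one_right hb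
  have h2 : b * a * (b * a) * (b * a) = z := by
    calc b * a * (b * a) * (b * a) = b * (a * b * (a * b) * (a * b)) * b⁻¹ := by group
      _ = z := by rw [h, hz, mul_inv_cancel_right]
  have e1 : b * a * b = z * a⁻¹ * b * a⁻¹ := by
    calc b * a * b = a⁻¹ * (a * b * (a * b) * (a * b)) * b⁻¹ * a⁻¹ := by group
      _ = z * a⁻¹ * b * a⁻¹ := by rw [h, hz a⁻¹, hb']
  have e2 : b * a * b * a * b = z * a⁻¹ := by
    calc b * a * b * a * b = (b * a * (b * a) * (b * a)) * a⁻¹ := by group
      _ = z * a⁻¹ := by rw [h2]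
  have e3 : b * a * b * (b * a * b) * (b * a * b) = 1 := by
    calc b * a * b * (b * a * b) * (b * a * b) = b * a * (b * b) * a * (b * b) * a * b := by group
      _ = b * (a * a * a) * b := by rw [hb]; group
      _ = 1 := by rw [ha, mul_one, hb]
  rw [e1] at e3
  have hz' : ∀ g, z * g = g * z := fun g => (hz g).symm
  have h3 : z * a⁻¹ * b * a⁻¹ * (z * a⁻¹ * b * a⁻¹) * (z * a⁻¹ * b * a⁻¹) =
      z * z * z * (a⁻¹ * (b * (a⁻¹ * a⁻¹) * b * (a⁻¹ * a⁻¹) * b) * a⁻¹) := by
    have c : ∀ u, u * z = z * u := fun u => hz u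
    have key : ∀ u v w : Γ, z * u * (z * v) * (z * w) = z * z * z * (u * v * w) := fun u v w => by
      calc z * u * (z * v) * (z * w) = z * (u * z) * v * z * w := by group
        _ = z * (z * u) * v * z * w := by rw [c u]
        _ = z * z * (u * v * z) * w := by group
        _ = z * z * (z * (u * v)) * w := by rw [c (u * v)]
        _ = z * z * z * (u * v * w) := by group
    calc z * a⁻¹ * b * a⁻¹ * (z * a⁻¹ * b * a⁻¹) * (z * a⁻¹ * b * a⁻¹)
        = z * (a⁻¹ * b * a⁻¹) * (z * (a⁻¹ * b * a⁻¹)) * (z * (a⁻¹ * b * a⁻¹)) := by group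
      _ = _ := key _ _ _
      _ = _ := by group
  have ha' : a⁻¹ * a⁻¹ = a := by
    rw [← mul_inv_rev]; exact inv_eq_of_mul_eq_one_right ha
  rw [h3, ha', e2] at e3
  calc z * z * z * z = z * z * z * (z * (a⁻¹ * a⁻¹ * a⁻¹)) := by
        rw [show a⁻¹ * a⁻¹ * a⁻¹ = (a * a * a)⁻¹ by group, ha, inv_one, mul_one]
    _ = z * z * z * (a⁻¹ * z * a⁻¹ * a⁻¹) := by rw [hz a⁻¹]; group
    _ = z * z * z * (a⁻¹ * (z * a⁻¹) * a⁻¹) := by group
    _ = 1 := e3

theorem zeta_four_B {p a z : Γ} (hz : ∀ g, g * z = z * g) (hp : p * p * (p * p) = 1)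
    (ha : a * a * (a * a) = 1) (hc : p * p * a = a * (p * p)) (h : p * a * (p * a) = z) :
    z * z * z * z = 1 := by
  have e1 : p * a * p⁻¹ = z * (a⁻¹ * (p * p)⁻¹) := by
    calc p * a * p⁻¹ = (p * a * (p * a)) * a⁻¹ * p⁻¹ * p⁻¹ := by group
      _ = z * (a⁻¹ * (p * p)⁻¹) := by rw [h]; group
  have c : Commute a⁻¹ (p * p)⁻¹ := (show Commute a (p * p) from hc.symm).inv_left.inv_right
  have hzc : Commute z (a⁻¹ * (p * p)⁻¹) := (hz _).symm
  have e2 : (p * a * p⁻¹) ^ 4 = 1 := by
    rw [conj_pow, show a ^ 4 = a * a * (a * a) by simp only [pow_succ, pow_zero, one_mul, mul_assoc], ha, mul_one,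
      mul_inv_cancel]
  rw [e1, hzc.mul_pow, c.mul_pow, inv_pow, inv_pow,
    show a ^ 4 = a * a * (a * a) by simp only [pow_succ, pow_zero, one_mul, mul_assoc], ha,
    show (p * p) ^ 4 = (p * p * (p * p)) * (p * p * (p * p)) by simp only [pow_succ, pow_zero, one_mul, mul_assoc],
    hp, one_mul, inv_one, one_mul, mul_one] at e2
  simpa only [pow_succ, pow_zero, one_mul] using e2

end Odd

variable (hs : IsSimpleGroup G) (hc : Nat.card G = ordG)
include hs hc

theorem ker_stem {Γ : Type} [Group Γ] [Finite Γ] (σ : Γ →* G) (hσ : IsStemExtension σ) : σ.ker = ⊥ := by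
  have hcen : ∀ {z : Γ}, z ∈ σ.ker → ∀ g, g * z = z * g := fun hz g => Subgroup.mem_center_iff.1 (hσ.2.1 hz) g
  have h2 : ∀ z ∈ σ.ker, z * z = 1 → z = 1 := fun z hz h => no_two hs hc hσ hz (by rw [pow_two, h])
  have h4 : ∀ z ∈ σ.ker, z * z * z * z = 1 → z = 1 := fun z hz h =>
    h2 z hz (h2 _ (σ.ker.mul_mem hz hz) (by rw [← mul_assoc]; exact h))
  obtain ⟨s, hsec⟩ := exists_section hs hσ
  have hxM : gX ∈ subM := Subgroup.subset_closure (by simp)
  have hyM : gY ∈ subM := Subgroup.subset_closure (by simp)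
  have hsurj_sq : ∀ z ∈ σ.ker, ∃ w ∈ σ.ker, w * w = z := by
    intro z hz
    have hinj : Function.Injective fun w : σ.ker => w * w := fun a b hab => by
      have hab' : a.1 * a.1 = b.1 * b.1 := congrArg Subtype.val hab
      have hcb := hcen b.2
      refine Subtype.ext (mul_inv_eq_one.1 (h2 (a.1 * b.1⁻¹) (σ.ker.mul_mem a.2 (σ.ker.inv_mem b.2)) ?_))
      calc a.1 * b.1⁻¹ * (a.1 * b.1⁻¹) = a.1 * (b.1⁻¹ * a.1) * b.1⁻¹ := by group
        _ = a.1 * (a.1 * b.1⁻¹) * b.1⁻¹ := by rw [← (show Commute a.1 b.1 from hcb a.1).inv_right.eq]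
        _ = a.1 * a.1 * (b.1 * b.1)⁻¹ := by group
        _ = 1 := by rw [hab', mul_inv_cancel]
    obtain ⟨w, hw⟩ := Finite.injective_iff_surjective.1 hinj ⟨z, hz⟩
    exact ⟨w.1, w.2, congrArg Subtype.val hw⟩
  obtain ⟨T', hT, hTsq⟩ : ∃ T', σ T' = gT ∧ T' * T' = 1 := by
    obtain ⟨t0, ht0⟩ := hσ.1 gT
    have hz0 : t0 * t0 ∈ σ.ker := by rw [MonoidHom.mem_ker, map_mul, ht0, gT_sq]
    obtain ⟨w, hw, hww⟩ := hsurj_sq _ hz0
    refine ⟨t0 * w⁻¹, by rw [map_mul, map_inv, ht0, MonoidHom.mem_ker.1 hw, inv_one, mul_one], ?_⟩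
    have cw := hcen hw
    calc t0 * w⁻¹ * (t0 * w⁻¹) = t0 * (w⁻¹ * t0) * w⁻¹ := by group
      _ = t0 * (t0 * w⁻¹) * w⁻¹ := by rw [← (show Commute t0 w from cw t0).inv_right.eq]
      _ = t0 * t0 * (w * w)⁻¹ := by group
      _ = 1 := by rw [hww, mul_inv_cancel]
  have commT : ∀ (P a : Γ), σ (P * a * P⁻¹) = σ a → a * a = 1 → P * a * P⁻¹ = a := by
    intro P a he ha
    have hz : a⁻¹ * (P * a * P⁻¹) ∈ σ.ker := by rw [MonoidHom.mem_ker, map_mul, map_inv, he, inv_mul_cancel]
    refine conj_eq_of_sq ?_ ha (hcen hz) (fun w hw _ hwz => h2 w (hwz ▸ hz) hw) (by group)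
    calc P * a * P⁻¹ * (P * a * P⁻¹) = P * (a * a) * P⁻¹ := by group
      _ = 1 := by rw [ha, mul_one, mul_inv_cancel]
  -- lifts of the segments
  obtain ⟨ftX, ftP, ft4, fp4, hseg, hw1, hl1⟩ := facts_ok
  simp only [List.all_eq_true, List.mem_range, Nat.blt_eq] at hseg
  have memM : ∀ l : List ℕ, (∀ c ∈ l, c < 3) → gval l ∈ subM := fun l hl => by
    rw [gval_eq_wval l hl]; exact Cfsg.Agent.Lib.M24Pres.wval_mem gX gY l
  let f : J4.Gen → Γ := fun a => match a with
    | .x => s ⟨gX, hxM⟩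
    | .y => s ⟨gY, hyM⟩
    | .t => T'
  let F : List ℕ → Γ := fun l => (l.map fun c => match c with
    | 0 => f .x
    | 1 => f .y
    | 2 => (f .y)⁻¹
    | _ => T').prod
  have F_app : ∀ a b, F (a ++ b) = F a * F b := fun a b => by simp [F]
  have hFσ : ∀ l, σ (F l) = gval l := by
    intro l
    simp only [F, map_list_prod, List.map_map, gval]
    refine congrArg List.prod (List.map_congr_left fun c _ => ?_)
    match c with
    | 0 => exact hsec _
    | 1 => exact hsec _
    | 2 => simp [f, hsec, glett]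
    | _ + 3 => exact hT
  have hFM : ∀ (l : List ℕ) (hl : ∀ c ∈ l, c < 3), F l = s ⟨gval l, memM l hl⟩ := by
    intro l
    induction l with
    | nil => intro _; exact (map_one s).symm
    | cons c l ih =>
      intro hl
      have hl' : ∀ d ∈ l, d < 3 := fun d hd => hl d (List.mem_cons_of_mem c hd)
      have hhead : gval [c] ∈ subM := memM [c] fun d hd => by
        rw [List.mem_singleton.1 hd]; exact hl c List.mem_cons_self
      have e : (⟨gval (c :: l), memM _ hl⟩ : subM) = ⟨gval [c], hhead⟩ * ⟨gval l, memM _ hl'⟩ :=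
        Subtype.ext (by rw [Subgroup.coe_mul, ← gval_append]; rfl)
      rw [e, map_mul, ← ih hl', show c :: l = [c] ++ l from rfl, F_app]
      refine congrArg (fun q => q * F l) ?_
      match c, hl c List.mem_cons_self with
      | 0, _ =>
        show (f .x) * 1 = _
        rw [mul_one]; exact congrArg s (Subtype.ext (by simp [gval, glett]))
      | 1, _ =>
        show (f .y) * 1 = _
        rw [mul_one]; exact congrArg s (Subtype.ext (by simp [gval, glett]))
      | 2, _ =>
        show (f .y)⁻¹ * 1 = _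
        rw [mul_one, show (f .y) = s ⟨gY, hyM⟩ from rfl, ← map_inv]
        exact congrArg s (Subtype.ext (by simp [gval, glett]))
  have hF3 : F [3] = T' := by simp [F]
  have hMeq : ∀ (l l' : List ℕ), (∀ c ∈ l, c < 3) → (∀ c ∈ l', c < 3) → gval l = gval l' → F l = F l' :=
    fun l l' hl hl' e => by rw [hFM l hl, hFM l' hl']; exact congrArg s (Subtype.ext e)
  have hinvF : ∀ l, (∀ c ∈ l, c < 3) → (∀ c ∈ winv l, c < 3) → F (winv l) = (F l)⁻¹ := fun l hl hl' => by
    rw [hFM l hl, hFM _ hl', ← map_inv]; exact congrArg s (Subtype.ext (gval_winv l))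
  -- commutation with t
  obtain ⟨hA1, hB1, htx, htw⟩ := rel_codes
  have hcommF : ∀ l, gval ([3] ++ l) = gval (l ++ [3]) → F l * T' * (F l)⁻¹ = T' := by
    intro l e
    refine commT _ _ ?_ hTsq
    rw [map_mul, map_mul, map_inv, hFσ, hT]
    rw [gval_append, gval_append] at e
    have e' : gT * gval l = gval l * gT := by simpa [gval, glett] using e
    rw [← e', mul_inv_cancel_right]
  have cx := hcommF [0] (gval_eq hs htx)
  have cw := hcommF w0Word (gval_eq hs htw)
  have cp := hcommF segP (gval_eq hs ftX).symm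
  -- first long relator
  have hY3 : f .y * f .y * f .y = 1 := by
    show s _ * s _ * s _ = 1
    rw [← map_mul, ← map_mul, show ((⟨gY, hyM⟩ : subM) * ⟨gY, hyM⟩ * ⟨gY, hyM⟩) = 1 from Subtype.ext (gY_cube hs),
      map_one]
  set t1 := (F (seg 0))⁻¹ * T' * F (seg 0) with ht1
  have ht1sq : t1 * t1 = 1 := by
    calc t1 * t1 = (F (seg 0))⁻¹ * (T' * T') * F (seg 0) := by rw [ht1]; group
      _ = 1 := by rw [hTsq, mul_one, inv_mul_cancel]
  have hFq : F ([1] ++ seg 1 ++ [3] ++ seg 0) = f .y * t1 := by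
    rw [F_app, F_app, F_app, hF3, hw1, hinvF _ (hseg 0 (by norm_num)) (hw1 ▸ hseg 1 (by norm_num)), ht1]
    simp [F, mul_assoc]
  have relA1 : f .y * t1 * (f .y * t1) * (f .y * t1) = 1 := by
    have hz : F relA ∈ σ.ker := by
      rw [MonoidHom.mem_ker, hFσ]
      exact gval_one hs hA1
    have e : F relA = f .y * t1 * (f .y * t1) * (f .y * t1) := by rw [relA, F_app, F_app, hFq]
    rw [e] at hz
    exact h4 _ hz (zeta_four_A (hcen hz) hY3 ht1sq rfl)
  -- second long relator
  set t2 := (F (seg 3))⁻¹ * T' * F (seg 3) with ht2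
  have ht2sq : t2 * t2 = 1 := by
    calc t2 * t2 = (F (seg 3))⁻¹ * (T' * T') * F (seg 3) := by rw [ht2]; group
      _ = 1 := by rw [hTsq, mul_one, inv_mul_cancel]
  have hFt2 : F (seg 4 ++ [3] ++ seg 3) = t2 := by
    rw [F_app, F_app, hF3, hl1, hinvF _ (hseg 3 (by norm_num)) (hl1 ▸ hseg 4 (by norm_num)), ht2]
  have hσt2 : σ t2 = gval (seg 4 ++ [3] ++ seg 3) := by rw [← hFt2, hFσ]
  set p := F segP with hp
  set a := T' * t2 with ha
  have hp4 : p * p * (p * p) = 1 := by
    have hM : ∀ c ∈ segP ++ segP ++ segP ++ segP, c < 3 := by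
      intro c hc'
      have := hseg 2 (by norm_num)
      simp only [List.mem_append, segP] at hc'
      rcases hc' with ((h | h) | h) | h <;> exact this c h
    rw [show p * p * (p * p) = F (segP ++ segP ++ segP ++ segP) by rw [F_app, F_app, F_app, hp]; group]
    rw [hMeq _ [] hM (by simp) (by rw [gval_one hs fp4, gval_nil])]
    simp [F]
  have cp2 : p * p * t2 * (p * p)⁻¹ = t2 := by
    refine commT _ _ ?_ ht2sq
    have e := gval_eq hs ftP
    rw [gval_append, gval_append segP segP] at e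
    rw [map_mul, map_mul, map_inv, map_mul, hσt2, hp, hFσ]
    rw [e, gval_append, gval_append segP segP, mul_inv_cancel_right]
  have hcomm2 : p * p * a = a * (p * p) := by
    have k1 : Commute p T' := mul_inv_eq_iff_eq_mul.1 cp
    have k2 : Commute (p * p) t2 := mul_inv_eq_iff_eq_mul.1 cp2
    exact ((k1.mul_left k1).mul_right k2).eq
  have ha4 : a * a * (a * a) = 1 := by
    have hz : a * a * (a * a) ∈ σ.ker := by
      rw [MonoidHom.mem_ker, map_mul, map_mul, ha, map_mul, hT, hσt2]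
      have e := gval_one hs ft4
      rw [gval_append, gval_append, gval_append [3]] at e
      simpa [gval, glett, mul_assoc] using e
    have hcz := hcen hz
    refine h2 _ hz ?_
    have ei : T' * a * T'⁻¹ = a⁻¹ := by
      rw [ha, mul_inv_rev, inv_eq_of_mul_eq_one_right hTsq, inv_eq_of_mul_eq_one_right ht2sq,
        ← mul_assoc, hTsq, one_mul]
    have e2 : T' * (a * a * (a * a)) * T'⁻¹ = (a * a * (a * a))⁻¹ := by
      calc T' * (a * a * (a * a)) * T'⁻¹
          = (T' * a * T'⁻¹) * (T' * a * T'⁻¹) * ((T' * a * T'⁻¹) * (T' * a * T'⁻¹)) := by group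
        _ = (a * a * (a * a))⁻¹ := by rw [ei]; group
    rw [hcz, mul_inv_cancel_right] at e2
    exact mul_eq_one_iff_eq_inv.2 e2
  have relB1 : p * T' * (F (seg 3))⁻¹ * T' * F (seg 3) * (p * T' * (F (seg 3))⁻¹ * T' * F (seg 3)) = 1 := by
    have hz : F relB ∈ σ.ker := by
      rw [MonoidHom.mem_ker, hFσ]
      exact gval_one hs hB1
    have e : F relB = p * a * (p * a) := by
      have eq' : F (seg 2 ++ [3] ++ seg 4 ++ [3] ++ seg 3) = p * a := by
        rw [List.append_assoc (seg 2 ++ [3]), List.append_assoc (seg 2 ++ [3]), F_app, F_app, hF3, hFt2, ha, hp, segP,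
          mul_assoc]
      rw [relB, F_app, eq']
    rw [e] at hz
    have h1 := h4 _ hz (zeta_four_B (hcen hz) hp4 ha4 hcomm2 rfl)
    rw [← h1, ha, ht2]; group
  -- all relators
  have hseven : ∀ l : List ℕ, (∀ c ∈ l, c < 3) → gval l = 1 → F l = 1 := fun l hl e => by
    rw [hMeq l [] hl (by simp) e]; simp [F]
  have hall : ∀ r ∈ coxRelators J4.edges ∪ {r | r ∈ J4.extra}, FreeGroup.lift f r = 1 := by
    rintro r (⟨a, ha', -⟩ | hr)
    · simp [coxNodes, J4.edges] at ha'
    set φ : FreeGroup J4.Gen →* Γ := FreeGroup.lift f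
    have fx : φ J4.x = f .x := FreeGroup.lift_apply_of
    have fy : φ J4.y = f .y := FreeGroup.lift_apply_of
    have ft : φ J4.t = T' := FreeGroup.lift_apply_of
    have mk1 : ∀ r ∈ J4.extra, PresentedGroup.mk (coxRelators J4.edges ∪ {r | r ∈ J4.extra}) r = (1 : G) :=
      fun r hr => PresentedGroup.one_of_mem (Or.inr hr)
    have hmk : ∀ r : FreeGroup J4.Gen, σ (φ r) = PresentedGroup.mk _ r := by
      have : σ.comp φ = PresentedGroup.mk (coxRelators J4.edges ∪ {r | r ∈ J4.extra}) := by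
        refine FreeGroup.ext_hom _ _ fun a => ?_
        rw [MonoidHom.comp_apply, show φ (FreeGroup.of a) = f a from FreeGroup.lift_apply_of]
        cases a
        · exact hsec _
        · exact hsec _
        · exact hT
      exact fun r => DFunLike.congr_fun this r
    have inM : ∀ r, φ r ∈ s.range → r ∈ J4.extra → φ r = 1 := by
      rintro r ⟨m, hm⟩ hr
      have h := hmk r
      rw [mk1 r hr, ← hm, hsec] at h
      rw [← hm, show m = 1 from Subtype.ext h, map_one]
    have mx' : f .x ∈ s.range := ⟨_, rfl⟩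
    have my' : f .y ∈ s.range := ⟨_, rfl⟩
    have sub : ∀ r, r ∈ Subgroup.closure ({J4.x, J4.y} : Set (FreeGroup J4.Gen)) → φ r ∈ s.range := by
      intro r hr
      induction hr using Subgroup.closure_induction with
      | mem g hg =>
        rcases hg with rfl | rfl
        · rw [fx]; exact mx'
        · rw [fy]; exact my'
      | one => rw [map_one]; exact Subgroup.one_mem _
      | mul a b _ _ iha ihb => rw [map_mul]; exact Subgroup.mul_mem _ iha ihb
      | inv a _ iha => rw [map_inv]; exact Subgroup.inv_mem _ iha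
    have hxC : J4.x ∈ Subgroup.closure ({J4.x, J4.y} : Set (FreeGroup J4.Gen)) := Subgroup.subset_closure (by simp)
    have hyC : J4.y ∈ Subgroup.closure ({J4.x, J4.y} : Set (FreeGroup J4.Gen)) := Subgroup.subset_closure (by simp)
    have ew : φ (J4.y * J4.x * J4.y * ((J4.x * J4.y⁻¹) ^ 2) * ((J4.x * J4.y) ^ 3)) = F w0Word := by
      simp only [map_mul, map_pow, map_inv, fx, fy, F, w0Word, List.map_cons, List.map_nil, List.prod_cons,
        List.prod_nil, mul_one, pow_succ, pow_zero, one_mul, mul_assoc]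
    have e0 : φ (J4.y * J4.x * J4.y⁻¹ * J4.x * J4.y * J4.x * J4.y⁻¹ * J4.x) = F (seg 0) := by
      rw [show seg 0 = [1, 0, 2, 0, 1, 0, 2, 0] from rfl]
      simp only [map_mul, map_inv, fx, fy, F, List.map_cons, List.map_nil, List.prod_cons,
        List.prod_nil, mul_one, mul_assoc]
    have e2 : φ ((J4.y * J4.x * J4.y * J4.x * J4.y * J4.x * J4.y) ^ 3) = p := by
      rw [hp, segP, show seg 2 = [1, 0, 1, 0, 1, 0, 1, 1, 0, 1, 0, 1, 0, 1, 1, 0, 1, 0, 1, 0, 1] from rfl]
      simp only [map_mul, map_pow, fx, fy, F, List.map_cons, List.map_nil, List.prod_cons,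
        List.prod_nil, mul_one, pow_succ, pow_zero, one_mul, mul_assoc]
    have e3 : φ ((J4.x * J4.y) ^ 3 * J4.y * (J4.x * J4.y) ^ 6 * J4.y) = F (seg 3) := by
      rw [show seg 3 = [0, 1, 0, 1, 0, 1, 1, 0, 1, 0, 1, 0, 1, 0, 1, 0, 1, 0, 1, 1] from rfl]
      simp only [map_mul, map_pow, fx, fy, F, List.map_cons, List.map_nil, List.prod_cons,
        List.prod_nil, mul_one, pow_succ, pow_zero, one_mul, mul_assoc]
    have hcasesmem := hr
    simp only [J4.extra, Set.mem_setOf_eq, List.mem_cons, List.not_mem_nil, or_false] at hr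
    have sevenmem : r ∈ Subgroup.closure ({J4.x, J4.y} : Set (FreeGroup J4.Gen)) → φ r = 1 := fun h =>
      inM r (sub r h) hcasesmem
    rcases hr with rfl | rfl | rfl | rfl | rfl | rfl | rfl | rfl | rfl | rfl | rfl | rfl
    iterate 7
      · apply sevenmem
        first
          | exact pow_mem hxC _
          | exact pow_mem hyC _
          | exact pow_mem (mul_mem hxC hyC) _
          | exact pow_mem (mul_mem (mul_mem (mul_mem (inv_mem hxC) (inv_mem hyC)) hxC) hyC) _
          | exact pow_mem (mul_mem (mul_mem (mul_mem (inv_mem hxC) (inv_mem (mul_mem (mul_mem hyC hxC) hyC))) hxC)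
              (mul_mem (mul_mem hyC hxC) hyC)) _
          | exact pow_mem (mul_mem (mul_mem hxC hyC)
              (pow_mem (mul_mem (mul_mem (mul_mem hxC hyC) hxC) (inv_mem hyC)) _)) _
          | exact mul_mem (pow_mem (mul_mem (mul_mem (mul_mem (mul_mem (mul_mem hxC hyC) hxC) hyC) hxC) (inv_mem hyC)) _)
              (pow_mem (mul_mem (mul_mem (mul_mem (mul_mem (mul_mem hxC hyC) hxC) (inv_mem hyC)) hxC) (inv_mem hyC)) _)
    · rw [map_pow, ft, pow_two, hTsq]
    · rw [map_mul, map_mul, map_mul, map_inv, map_inv, ew, ft]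
      calc T'⁻¹ * (F w0Word)⁻¹ * T' * F w0Word
          = T'⁻¹ * ((F w0Word)⁻¹ * (F w0Word * T' * (F w0Word)⁻¹) * F w0Word) := by rw [cw]; group
        _ = 1 := by group
    · rw [map_mul, map_mul, map_mul, map_inv, map_inv, fx, ft]
      have cx' : f .x * T' * (f .x)⁻¹ = T' := by simpa [F] using cx
      calc T'⁻¹ * (f .x)⁻¹ * T' * f .x = T'⁻¹ * ((f .x)⁻¹ * (f .x * T' * (f .x)⁻¹) * f .x) := by rw [cx']; group
        _ = 1 := by group
    · rw [map_pow, map_mul, map_mul, map_mul, map_inv, fy, ft, e0, ← ht1, ← relA1]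
      simp only [pow_succ, pow_zero, one_mul, mul_assoc]
    · rw [map_pow, map_mul, map_mul, map_mul, map_mul, map_inv, ft, e2, e3, ← relB1]
      simp only [pow_succ, pow_zero, one_mul, mul_assoc]
  -- the splitting
  let ρ : G →* Γ := PresentedGroup.toGroup hall
  have hρ : ∀ g, σ (ρ g) = g := by
    intro g
    have : σ.comp ρ = MonoidHom.id G := by
      refine PresentedGroup.ext fun a => ?_
      show σ (ρ (PresentedGroup.of a)) = PresentedGroup.of a
      rw [show ρ (PresentedGroup.of a) = f a from PresentedGroup.toGroup.of hall]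
      cases a
      · exact hsec _
      · exact hsec _
      · exact hT
    exact DFunLike.congr_fun this g
  have hle : commutator Γ ≤ ρ.range := by
    rw [commutator_def, Subgroup.commutator_le]
    intro a _ b _
    have hza := hcen (show (ρ (σ a))⁻¹ * a ∈ σ.ker by rw [MonoidHom.mem_ker, map_mul, map_inv, hρ, inv_mul_cancel])
    have hzb := hcen (show (ρ (σ b))⁻¹ * b ∈ σ.ker by rw [MonoidHom.mem_ker, map_mul, map_inv, hρ, inv_mul_cancel])
    refine ⟨⁅σ a, σ b⁆, ?_⟩
    rw [map_commutatorElement]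
    set za := (ρ (σ a))⁻¹ * a with hza'
    set zb := (ρ (σ b))⁻¹ * b with hzb'
    have ea : a = ρ (σ a) * za := by rw [hza']; group
    have eb : b = ρ (σ b) * zb := by rw [hzb']; group
    set u := ρ (σ a)
    set v := ρ (σ b)
    rw [ea, eb, commutatorElement_def, commutatorElement_def]
    symm
    calc u * za * (v * zb) * (u * za)⁻¹ * (v * zb)⁻¹
        = u * (za * (v * zb)) * za⁻¹ * u⁻¹ * (v * zb)⁻¹ := by group
      _ = u * ((v * zb) * za) * za⁻¹ * u⁻¹ * (v * zb)⁻¹ := by rw [hza]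
      _ = u * v * (zb * u⁻¹) * zb⁻¹ * v⁻¹ := by group
      _ = u * v * (u⁻¹ * zb) * zb⁻¹ * v⁻¹ := by rw [hzb]
      _ = u * v * u⁻¹ * v⁻¹ := by group
  rw [Subgroup.eq_bot_iff_forall]
  intro z hz
  obtain ⟨g, rfl⟩ := hle (hσ.2.2 hz)
  have : g = 1 := (hρ g).symm.trans hz
  rw [this, map_one]

theorem multiplier_trivial : HasCyclicSchurMultiplier G 1 := by
  haveI := finiteG hs hc
  refine Cfsg.Agent.Lib.Schur.Fusion.hasTrivialMultiplier fun p hp _ => ⟨⊤, ?_, ?_⟩
  · rw [Subgroup.index_top]; exact hp.not_dvd_one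
  · intro Γ _ _ σ hσ z hz _ _
    rwa [ker_stem hs hc σ hσ, Subgroup.mem_bot] at hz

end Cfsg.Agent.Lib.J4Cons78
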