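import Cfsg.Agent.Lib.J4Cons78.AutFix
import Cfsg.Agent.Lib.J4Cons78.MultLift
import Cfsg.Agent.Lib.J4Cons78.MultChecks
import Cfsg.Agent.Lib.Schur.Fusion

/-! The 2-part of the multiplier of J4 is trivial: the extension splits over 2^11:M24. -/

set_option autoImplicit false
set_option exponentiation.threshold 13000
set_option maxRecDepth 20000

open scoped commutatorElement

namespace Cfsg.Agent.Lib.J4Cons78

open Cfsg

theorem sStep_eq (v : ℕ) : sStep v = lin my (lin mx v) := rfl

theorem actW_xy (v : ℕ) : actW [0, 1] v = sStep v := rfl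

theorem inv_spec : ∀ a < 2 ^ 11, lin invOneAddS a ^^^ sStep (lin invOneAddS a) = a := by
  refine bits_induction ?_ (fun i hi => Nat.eq_of_beq_eq_true (List.all_eq_true.1 inv_ok.1 i (List.mem_range.2 hi)))
    fun u w hu hw => ?_
  · simp [lin_zero, sStep_eq]
  · show lin invOneAddS (u ^^^ w) ^^^ lin my (lin mx (lin invOneAddS (u ^^^ w))) = u ^^^ w
    rw [lin_xor, lin_xor, lin_xor]
    calc lin invOneAddS u ^^^ lin invOneAddS w ^^^
          (lin my (lin mx (lin invOneAddS u)) ^^^ lin my (lin mx (lin invOneAddS w)))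
        = (lin invOneAddS u ^^^ sStep (lin invOneAddS u)) ^^^ (lin invOneAddS w ^^^ sStep (lin invOneAddS w)) := by
          simp [sStep_eq, Nat.xor_assoc, Nat.xor_left_comm]
      _ = u ^^^ w := by rw [hu, hw]

theorem inv_lt (a : ℕ) : lin invOneAddS a < 2 ^ 11 :=
  lin_lt _ _ _ fun r hr => Nat.blt_eq.mp (List.all_eq_true.1 inv_ok.2.1 r hr)

theorem split_spec : ∀ a < 2 ^ 11,
    lin [e11] (lin splitCoord a) ^^^ (lin splitMove a ^^^ actW w11 (lin splitMove a)) = a := by
  refine bits_induction ?_ (fun i hi => Nat.eq_of_beq_eq_true (List.all_eq_true.1 inv_ok.2.2.1 i (List.mem_range.2 hi)))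
    fun u w hu hw => ?_
  · have h0 : actW w11 0 = 0 := by simpa using actW_xor w11 0 0
    simp [lin_zero, h0]
  · rw [lin_xor, lin_xor, lin_xor, actW_xor]
    calc lin [e11] (lin splitCoord u) ^^^ lin [e11] (lin splitCoord w) ^^^
          (lin splitMove u ^^^ lin splitMove w ^^^ (actW w11 (lin splitMove u) ^^^ actW w11 (lin splitMove w)))
        = (lin [e11] (lin splitCoord u) ^^^ (lin splitMove u ^^^ actW w11 (lin splitMove u))) ^^^
          (lin [e11] (lin splitCoord w) ^^^ (lin splitMove w ^^^ actW w11 (lin splitMove w))) := by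
          simp [Nat.xor_assoc, Nat.xor_left_comm]
      _ = u ^^^ w := by rw [hu, hw]

section Ext

variable {Γ : Type} [Group Γ]

/-- Conjugation from the right. -/
def rconj (g a : Γ) : Γ := g⁻¹ * a * g

theorem rconj_mul (g a b : Γ) : rconj g (a * b) = rconj g a * rconj g b := by simp only [rconj]; group

theorem rconj_rconj (g h a : Γ) : rconj h (rconj g a) = rconj (g * h) a := by simp only [rconj]; group

theorem rconj_central {g z : Γ} (hz : ∀ h, h * z = z * h) : rconj g z = z := by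
  rw [rconj, hz, inv_mul_cancel_right]

end Ext

variable (hs : IsSimpleGroup G) (hc : Nat.card G = ordG) {Γ : Type} [Group Γ] [Finite Γ] {σ : Γ →* G}
include hs

theorem mul_comm_subA (hσ : IsStemExtension σ) {a b : Γ} (ha : σ a ∈ subA hs) (hb : σ b ∈ subA hs) :
    a * b = b * a := by
  have hcen : ∀ {z : Γ}, z ∈ σ.ker → ∀ g, g * z = z * g := fun hz g => Subgroup.mem_center_iff.1 (hσ.2.1 hz) g
  obtain ⟨F, hF⟩ : ∃ F : ℕ → Γ, ∀ v, σ (F v) = emb v := ⟨fun v => (hσ.1 _).choose, fun v => (hσ.1 _).choose_spec⟩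
  let β : ℕ → ℕ → Γ := fun u v => ⁅F u, F v⁆
  have hcom : ∀ (u : ℕ) (a : Γ) (v : ℕ) (b : Γ), σ a = emb u → σ b = emb v → ⁅a, b⁆ = β u v := by
    intro u a v b hau hbv
    have hz : (F u)⁻¹ * a ∈ σ.ker := by rw [MonoidHom.mem_ker, map_mul, map_inv, hF, hau, inv_mul_cancel]
    have hw : (F v)⁻¹ * b ∈ σ.ker := by rw [MonoidHom.mem_ker, map_mul, map_inv, hF, hbv, inv_mul_cancel]
    have c1 := hcen hz
    have c2 := hcen hw
    show ⁅a, b⁆ = ⁅F u, F v⁆
    set z := (F u)⁻¹ * a with hz'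
    set w := (F v)⁻¹ * b with hw'
    rw [show a = F u * z by rw [hz']; group, show b = F v * w by rw [hw']; group, commutatorElement_def,
      commutatorElement_def]
    calc F u * z * (F v * w) * (F u * z)⁻¹ * (F v * w)⁻¹
        = F u * (z * (F v * w)) * z⁻¹ * (F u)⁻¹ * (F v * w)⁻¹ := by group
      _ = F u * ((F v * w) * z) * z⁻¹ * (F u)⁻¹ * (F v * w)⁻¹ := by rw [c1]
      _ = F u * F v * (w * (F u)⁻¹) * w⁻¹ * (F v)⁻¹ := by group
      _ = F u * F v * ((F u)⁻¹ * w) * w⁻¹ * (F v)⁻¹ := by rw [c2]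
      _ = F u * F v * (F u)⁻¹ * (F v)⁻¹ := by group
  have hker : ∀ u v, β u v ∈ σ.ker := fun u v => by
    rw [MonoidHom.mem_ker]
    show σ ⁅F u, F v⁆ = 1
    rw [map_commutatorElement, hF, hF]
    exact commutatorElement_eq_one_iff_mul_comm.2 (emb_comm hs u v).eq
  have hadd : ∀ u v w, β u (v ^^^ w) = β u v * β u w := by
    intro u v w
    rw [← hcom u (F u) (v ^^^ w) (F v * F w) (hF u) (by rw [map_mul, hF, hF, emb_xor hs])]
    have e : ⁅F u, F v * F w⁆ = ⁅F u, F v⁆ * (F v * ⁅F u, F w⁆ * (F v)⁻¹) := by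
      simp only [commutatorElement_def]; group
    rw [e, hcen (hker u w) (F v), mul_inv_cancel_right]
  have hzero : ∀ u, β u 0 = 1 := fun u => by
    rw [← hcom u (F u) 0 1 (hF u) (by rw [map_one, emb_zero])]; simp
  have hinv : ∀ (w : List ℕ), (∀ c ∈ w, c < 3) → ∀ u v, u < 2 ^ 11 → v < 2 ^ 11 →
      β (actW w u) (actW w v) = β u v := by
    intro w hw u v hu hv
    obtain ⟨g, hg⟩ := hσ.1 (gval w)
    have e : ∀ x < 2 ^ 11, σ (rconj g (F x)) = emb (actW w x) := fun x hx => by
      rw [rconj, map_mul, map_mul, map_inv, hg, hF, emb_conj_word hs w hw x hx]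
    rw [← hcom _ _ _ _ (e u hu) (e v hv)]
    have e2 : ⁅rconj g (F u), rconj g (F v)⁆ = rconj g ⁅F u, F v⁆ := by
      simp only [rconj, commutatorElement_def]; group
    rw [e2]
    exact rconj_central (hcen (hker u v))
  obtain ⟨-, hw11, hfix, helt, he0, -, -⟩ := w11_ok
  simp only [List.all_eq_true, Nat.blt_eq] at hw11
  have he : e11 < 2 ^ 11 := Nat.blt_eq.mp helt
  have hne : e11 ≠ 0 := fun h => by rw [h] at he0; simp at he0
  have hsq : ∀ v, v < 2 ^ 11 → β e11 v * β e11 v = 1 := fun v _ => by rw [← hadd, Nat.xor_self, hzero]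
  have hone : ∀ v < 2 ^ 11, β e11 v = 1 := by
    intro v hv
    have hm : lin splitMove v < 2 ^ 11 :=
      lin_lt _ _ _ fun r hr => Nat.blt_eq.mp (List.all_eq_true.1 inv_ok.2.2.2.1 r hr)
    have hcl : lin splitCoord v < 2 :=
      lin_lt splitCoord v 1 fun r hr => Nat.blt_eq.mp (List.all_eq_true.1 inv_ok.2.2.2.2 r hr)
    rw [← split_spec v hv, hadd, hadd]
    have h1 : β e11 (actW w11 (lin splitMove v)) = β e11 (lin splitMove v) := by
      conv_lhs => rw [← Nat.eq_of_beq_eq_true hfix]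
      exact hinv w11 hw11 e11 _ he hm
    rw [h1, hsq _ hm, mul_one]
    rcases (by omega : lin splitCoord v = 0 ∨ lin splitCoord v = 1) with h | h <;> rw [h]
    · rw [lin_zero, hzero]
    · rw [show lin [e11] 1 = e11 from rfl]
      exact commutatorElement_self _
  have hall : ∀ u < 2 ^ 11, ∀ v < 2 ^ 11, β u v = 1 := by
    have hsym : ∀ u v, β u v = 1 → β v u = 1 := fun u v h =>
      commutatorElement_eq_one_iff_mul_comm.2 (commutatorElement_eq_one_iff_mul_comm.1 h).symm
    intro u hu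
    refine (irred (P := fun u => u < 2 ^ 11 ∧ ∀ v < 2 ^ 11, β u v = 1)
      ⟨by norm_num, fun v _ => hsym _ _ (hzero v)⟩
      (fun a b ha hb => ⟨Nat.xor_lt_two_pow ha.1 hb.1, fun v hv => hsym _ _ (by
        rw [hadd, hsym _ _ (ha.2 v hv), hsym _ _ (hb.2 v hv), one_mul])⟩)
      (fun a ha hPa => ⟨lin_my_lt _, fun v hv => ?_⟩) he hne ⟨he, hone⟩ u hu).2
    have hv' : actW (List.flatten (List.replicate 22 [0, 1])) v < 2 ^ 11 := actW_lt _ _ hv
    have hcyc : actW [0, 1] (actW (List.flatten (List.replicate 22 [0, 1])) v) = v := by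
      rw [← actW_append]
      have hcheck : ((List.range 11).all fun r => Nat.beq
          (actW (List.flatten (List.replicate 22 [0, 1]) ++ [0, 1]) (2 ^ r)) (2 ^ r)) = true := by decide +kernel
      refine bits_induction (n := 11)
        (P := fun v => actW (List.flatten (List.replicate 22 [0, 1]) ++ [0, 1]) v = v) ?_
        (fun i hi => Nat.eq_of_beq_eq_true (List.all_eq_true.1 hcheck i (List.mem_range.2 hi))) ?_ v hv
      · have h0 := actW_xor (List.flatten (List.replicate 22 [0, 1]) ++ [0, 1]) 0 0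
        rw [Nat.xor_self, Nat.xor_self] at h0
        exact h0
      · intro a b ha hb
        show actW _ (a ^^^ b) = a ^^^ b
        rw [actW_xor, ha, hb]
    rw [← hcyc]
    show β (actW [0, 1] a) _ = 1
    rw [hinv [0, 1] (by simp) a _ ha hv']
    exact hPa.2 _ hv'
  obtain ⟨u, hu, hu'⟩ := ha
  obtain ⟨v, hv, hv'⟩ := hb
  have := hcom u a v b hu'.symm hv'.symm
  rw [hall u hu v hv] at this
  exact commutatorElement_eq_one_iff_mul_comm.1 this

include hc

theorem no_two (hσ : IsStemExtension σ) {z : Γ} (hz : z ∈ σ.ker) (hz2 : z ^ 2 = 1) : z = 1 := by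
  classical
  have hcen : ∀ {z : Γ}, z ∈ σ.ker → ∀ g, g * z = z * g := fun hz g => Subgroup.mem_center_iff.1 (hσ.2.1 hz) g
  obtain ⟨s, hsec⟩ := exists_section hs hσ
  obtain ⟨F, hF⟩ : ∃ F : ℕ → Γ, ∀ v, σ (F v) = emb v := ⟨fun v => (hσ.1 _).choose, fun v => (hσ.1 _).choose_spec⟩
  have hxM : gX ∈ subM := Subgroup.subset_closure (by simp)
  have hyM : gY ∈ subM := Subgroup.subset_closure (by simp)
  let X' : Γ := s ⟨gX, hxM⟩
  let Y' : Γ := s ⟨gY, hyM⟩
  let g' : Γ := X' * Y'
  have hg' : σ g' = gS := by simp [g', X', Y', hsec, gS]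
  let K : Γ → Γ := fun a => a⁻¹ * rconj g' a
  let L : ℕ → Γ := fun a => K (F (lin invOneAddS a))
  have hA : ∀ v, σ (F v) ∈ subA hs := fun v => hF v ▸ emb_mem hs v
  have hKA : ∀ a, σ a ∈ subA hs → σ (rconj g' a) ∈ subA hs := fun a ha => by
    obtain ⟨v, hv, hv'⟩ := ha
    rw [rconj, map_mul, map_mul, map_inv, hg', ← hv', emb_conj_s hs hc v hv]
    exact emb_mem hs _
  have hσL : ∀ a < 2 ^ 11, σ (L a) = emb a := fun a ha => by
    show σ ((F (lin invOneAddS a))⁻¹ * rconj g' (F (lin invOneAddS a))) = emb a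
    rw [rconj, map_mul, map_inv, map_mul, map_mul, map_inv, hg', hF, emb_conj_s hs hc _ (inv_lt a), emb_inv hs,
      ← emb_xor hs, inv_spec a ha]
  have hKind : ∀ a b, σ a = σ b → K a = K b := by
    intro a b h
    have hzc := hcen (show b⁻¹ * a ∈ σ.ker by rw [MonoidHom.mem_ker, map_mul, map_inv, h, inv_mul_cancel])
    set z := b⁻¹ * a with hz'
    have ea : a = b * z := by rw [hz']; group
    show a⁻¹ * rconj g' a = b⁻¹ * rconj g' b
    rw [ea, rconj_mul, rconj_central hzc, mul_inv_rev]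
    calc z⁻¹ * b⁻¹ * (rconj g' b * z) = z⁻¹ * ((b⁻¹ * rconj g' b) * z) := by group
      _ = z⁻¹ * (z * (b⁻¹ * rconj g' b)) := by rw [hzc]
      _ = b⁻¹ * rconj g' b := by group
  have hLxor : ∀ u v, L (u ^^^ v) = L u * L v := by
    intro u v
    show K (F (lin invOneAddS (u ^^^ v))) = _
    rw [hKind _ (F (lin invOneAddS u) * F (lin invOneAddS v)) (by rw [hF, map_mul, hF, hF, lin_xor, emb_xor hs])]
    set p := F (lin invOneAddS u)
    set q := F (lin invOneAddS v)
    show (p * q)⁻¹ * rconj g' (p * q) = p⁻¹ * rconj g' p * (q⁻¹ * rconj g' q)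
    have hp : σ (p⁻¹ * rconj g' p) ∈ subA hs := by
      rw [map_mul, map_inv]; exact Subgroup.mul_mem _ (Subgroup.inv_mem _ (hA _)) (hKA _ (hA _))
    have hq : σ q⁻¹ ∈ subA hs := by rw [map_inv]; exact Subgroup.inv_mem _ (hA _)
    rw [rconj_mul, mul_inv_rev]
    calc q⁻¹ * p⁻¹ * (rconj g' p * rconj g' q) = q⁻¹ * (p⁻¹ * rconj g' p) * rconj g' q := by group
      _ = (p⁻¹ * rconj g' p) * q⁻¹ * rconj g' q := by rw [mul_comm_subA hs hσ hq hp]
      _ = p⁻¹ * rconj g' p * (q⁻¹ * rconj g' q) := by group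
  have hL0 : L 0 = 1 := by
    have h := hLxor 0 0
    rw [Nat.xor_self] at h
    exact mul_left_cancel (h.symm.trans (mul_one _).symm)
  have hLsq : ∀ u, L u * L u = 1 := fun u => by rw [← hLxor, Nat.xor_self, hL0]
  have hLinv : ∀ u, (L u)⁻¹ = L u := fun u => inv_eq_of_mul_eq_one_right (hLsq u)
  have hLg : ∀ a < 2 ^ 11, rconj g' (L a) = L (sStep a) := by
    intro a ha
    have h1 : rconj g' (K (F (lin invOneAddS a))) = K (rconj g' (F (lin invOneAddS a))) := by
      simp only [K, rconj]; group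
    show rconj g' (K (F (lin invOneAddS a))) = K (F (lin invOneAddS (sStep a)))
    rw [h1]
    refine hKind _ _ ?_
    rw [rconj, map_mul, map_mul, map_inv, hg', hF, hF, emb_conj_s hs hc _ (inv_lt a)]
    congr 1
    have h2 : ∀ v < 2 ^ 11, v ^^^ sStep v = 0 → v = 0 := by
      intro v hv hv0
      have e : sStep v = v := (Nat.xor_eq_zero_iff.1 hv0).symm
      refine emb_eq_one hs hv ?_ |>.trans rfl
      refine eq_one_of_fixed_by_s hs hc (emb_mem hs v) ?_
      have h := emb_conj_s hs hc v hv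
      rw [e] at h
      show gS * emb v = emb v * gS
      conv_lhs => rw [← h]
      group
    have hlt := Nat.xor_lt_two_pow (show sStep (lin invOneAddS a) < 2 ^ 11 from lin_my_lt _) (inv_lt (sStep a))
    refine Nat.xor_eq_zero_iff.1 (h2 _ hlt ?_)
    have sx : ∀ u w, sStep (u ^^^ w) = sStep u ^^^ sStep w := fun u w => by
      simp only [sStep_eq, lin_xor]
    set v := lin invOneAddS a with hv'
    set w := lin invOneAddS (sStep a) with hw'
    calc sStep v ^^^ w ^^^ sStep (sStep v ^^^ w)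
        = (w ^^^ sStep w) ^^^ sStep (v ^^^ sStep v) := by
          simp [sx, Nat.xor_assoc, Nat.xor_left_comm, Nat.xor_comm]
      _ = 0 := by
        rw [hw', hv', inv_spec _ (show sStep a < 2 ^ 11 from lin_my_lt _), inv_spec a ha, Nat.xor_self]
  -- the defects
  let P : ℕ → Γ := fun k => match k with
    | 0 => X'
    | _ => Y'
  let act : ℕ → ℕ → ℕ := fun k v => match k with
    | 0 => lin mx v
    | _ => lin my v
  have hact : ∀ k v, v < 2 ^ 11 → act k v < 2 ^ 11 ∧ σ (rconj (P k) (L v)) = emb (act k v) := by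
    intro k v hv
    match k with
    | 0 => exact ⟨lin_mx_lt v, by simp only [P, X', rconj, map_mul, map_inv, hsec, hσL v hv, act, emb_conj_x hs v hv]⟩
    | _ + 1 => exact ⟨lin_my_lt v, by simp only [P, Y', rconj, map_mul, map_inv, hsec, hσL v hv, act, emb_conj_y hs v hv]⟩
  have hactx : ∀ k u v, act k (u ^^^ v) = act k u ^^^ act k v := fun k u v => by
    match k with
    | 0 => exact lin_xor mx u v
    | _ + 1 => exact lin_xor my u v
  let δ : ℕ → ℕ → Γ := fun k a => L (act k a) * rconj (P k) (L a)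
  have hδker : ∀ k a, a < 2 ^ 11 → δ k a ∈ σ.ker := fun k a ha => by
    rw [MonoidHom.mem_ker]
    show σ (L (act k a) * rconj (P k) (L a)) = 1
    rw [map_mul, (hact k a ha).2, hσL _ (hact k a ha).1, emb_self hs]
  have hδA : ∀ k u, u < 2 ^ 11 → σ (rconj (P k) (L u)) ∈ subA hs := fun k u hu =>
    (hact k u hu).2 ▸ emb_mem hs _
  have hδxor : ∀ k u v, u < 2 ^ 11 → v < 2 ^ 11 → δ k (u ^^^ v) = δ k u * δ k v := by
    intro k u v hu hv
    show L (act k (u ^^^ v)) * rconj (P k) (L (u ^^^ v)) =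
      L (act k u) * rconj (P k) (L u) * (L (act k v) * rconj (P k) (L v))
    rw [hactx, hLxor, hLxor, rconj_mul]
    have hcm := mul_comm_subA hs hσ (a := L (act k v)) (b := rconj (P k) (L u))
      (hσL _ (hact k v hv).1 ▸ emb_mem hs _) (hδA k u hu)
    calc L (act k u) * L (act k v) * (rconj (P k) (L u) * rconj (P k) (L v))
        = L (act k u) * (L (act k v) * rconj (P k) (L u)) * rconj (P k) (L v) := by group
      _ = L (act k u) * (rconj (P k) (L u) * L (act k v)) * rconj (P k) (L v) := by rw [hcm]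
      _ = _ := by group
  have hδsq : ∀ k a, a < 2 ^ 11 → δ k a * δ k a = 1 := fun k a ha => by
    rw [← hδxor k a a ha ha, Nat.xor_self]
    show L (act k 0) * rconj (P k) (L 0) = 1
    have : act k 0 = 0 := by
      have := hactx k 0 0
      simpa using this
    rw [this, hL0, rconj, mul_one, inv_mul_cancel, one_mul]
  let d : ℕ → Γ := fun k => δ (k / 11) (2 ^ (k % 11))
  have helem : Elem d 22 := by
    refine ⟨fun i j _ _ => ?_, fun i _ => hδsq _ _ (Nat.pow_lt_pow_right (by norm_num) (Nat.mod_lt _ (by norm_num)))⟩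
    exact (hcen (hδker _ _ (Nat.pow_lt_pow_right (by norm_num) (Nat.mod_lt i (by norm_num)))) _).symm
  have hblock : ∀ k, k < 2 → ∀ v < 2 ^ 11, prodBits d (Nat.shiftLeft v (Nat.mul 11 k)) 22 = δ k v := by
    intro k hk v hv
    refine (bits_induction (P := fun v => v < 2 ^ 11 ∧ prodBits d (Nat.shiftLeft v (Nat.mul 11 k)) 22 = δ k v)
      ⟨by norm_num, ?_⟩ (fun i hi => ⟨Nat.pow_lt_pow_right (by norm_num) hi, ?_⟩)
      (fun u w hu hw => ⟨Nat.xor_lt_two_pow hu.1 hw.1, ?_⟩) v hv).2
    · rw [show Nat.shiftLeft 0 (Nat.mul 11 k) = 0 from Nat.zero_shiftLeft _, prodBits_zero]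
      show 1 = L (act k 0) * rconj (P k) (L 0)
      have h0 : act k 0 = 0 := by simpa using hactx k 0 0
      rw [h0, hL0, rconj, mul_one, inv_mul_cancel, one_mul]
    · have e : Nat.shiftLeft (2 ^ i) (Nat.mul 11 k) = 2 ^ (11 * k + i) := by
        show (2 ^ i) <<< (11 * k) = _
        rw [Nat.shiftLeft_eq, ← pow_add, Nat.add_comm]
      rw [e, prodBits_unit d (by omega)]
      show δ ((11 * k + i) / 11) (2 ^ ((11 * k + i) % 11)) = δ k (2 ^ i)
      rw [show (11 * k + i) / 11 = k by omega, show (11 * k + i) % 11 = i by omega]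
    · rw [show Nat.shiftLeft (u ^^^ w) (Nat.mul 11 k) = Nat.shiftLeft u (Nat.mul 11 k) ^^^ Nat.shiftLeft w (Nat.mul 11 k)
        from Nat.shiftLeft_xor_distrib, prodBits_xor _ _ 22 helem, hu.2, hw.2]
      exact (hδxor k u w hu.1 hw.1).symm
  have hδconj : ∀ k a, k < 2 → a < 2 ^ 11 →
      rconj (P k) (L a) = L (act k a) * prodBits d (Nat.shiftLeft a (Nat.mul 11 k)) 22 := fun k a hk ha => by
    rw [hblock k hk a ha]
    show rconj (P k) (L a) = L (act k a) * (L (act k a) * rconj (P k) (L a))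
    rw [← mul_assoc, hLsq, one_mul]
  have hdker : ∀ m, prodBits d m 22 ∈ σ.ker := fun m => prodBits_mem d _ m 22 fun i _ =>
    hδker _ _ (Nat.pow_lt_pow_right (by norm_num) (Nat.mod_lt _ (by norm_num)))
  have hword : ∀ (w : List ℕ), (∀ c ∈ w, c < 2) → ∀ a < 2 ^ 11,
      rconj ((w.map P).prod) (L a) = L (actW w a) * prodBits d (maskW w a) 22 := by
    intro w
    induction w with
    | nil => intro _ a _; simp [rconj, actW, maskW, prodBits_zero]
    | cons c l ih =>
      intro hw a ha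
      have hc2 := hw c List.mem_cons_self
      have e : rconj (((c :: l).map P).prod) (L a) = L (actW l (act c a)) * prodBits d (maskW l (act c a)) 22 *
          prodBits d (Nat.shiftLeft a (Nat.mul 11 c)) 22 := by
        rw [List.map_cons, List.prod_cons, ← rconj_rconj, hδconj c a hc2 ha, rconj_mul,
          ih (fun x hx => hw x (List.mem_cons_of_mem c hx)) _ (hact c a ha).1, rconj_central (hcen (hdker _))]
      refine e.trans ?_
      rw [mul_assoc, ← prodBits_xor _ _ 22 helem]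
      rcases (by omega : c = 0 ∨ c = 1) with h | h <;> subst h <;> (rw [Nat.xor_comm]; rfl)
  obtain ⟨hcomb, hrelw, hgw, hlen, hfixw⟩ := eq_ok
  let gv : List ℕ → subM := fun l => (l.map fun c => match c with | 0 => (⟨gX, hxM⟩ : subM) | _ => ⟨gY, hyM⟩).prod
  have hgv : ∀ l, (∀ c ∈ l, c < 2) → (gv l).1 = gval l ∧ (l.map P).prod = s (gv l) := by
    intro l
    induction l with
    | nil => intro _; exact ⟨rfl, by simp [gv]⟩
    | cons c l ih =>
      intro h
      obtain ⟨i1, i2⟩ := ih fun x hx => h x (List.mem_cons_of_mem c hx)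
      match c, h c List.mem_cons_self with
      | 0, _ =>
        refine ⟨?_, ?_⟩
        · show gX * (gv l).1 = _; rw [i1, gval_cons]; rfl
        · show X' * (l.map P).prod = s (⟨gX, hxM⟩ * gv l); rw [i2, map_mul]
      | 1, _ =>
        refine ⟨?_, ?_⟩
        · show gY * (gv l).1 = _; rw [i1, gval_cons]; rfl
        · show Y' * (l.map P).prod = s (⟨gY, hyM⟩ * gv l); rw [i2, map_mul]
  have heq : ∀ j i, j < eqWords.length → i < 11 → prodBits d (maskW (eqWords.getD j []) (2 ^ i)) 22 = 1 := by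
    intro j i hj hi
    have hi2 : (2 : ℕ) ^ i < 2 ^ 11 := Nat.pow_lt_pow_right (by norm_num) hi
    rw [hlen] at hj
    rcases Nat.lt_or_ge j 7 with hj7 | hj7
    · have hmem : eqWords.getD j [] ∈ eqWords.take 7 := by
        rw [List.getD_eq_getElem _ _ (hlen ▸ hj)]
        exact List.mem_iff_getElem.2 ⟨j, by simp [hlen]; omega, List.getElem_take⟩
      have hw := List.all_eq_true.1 hrelw _ hmem
      simp only [Bool.and_eq_true, List.all_eq_true, Nat.blt_eq] at hw
      obtain ⟨e1, e2⟩ := hgv _ hw.2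
      have hone : gv (eqWords.getD j []) = 1 := Subtype.ext (by
        rw [e1]
        exact (gval_eq hs (l' := []) (by rw [show wcode [] = Cfsg.Agent.Lib.J4Rep.one from rfl]; exact hw.1)).trans gval_nil)
      have h := hword _ hw.2 _ hi2
      rw [e2, hone, map_one, Nat.eq_of_beq_eq_true
        (List.all_eq_true.1 (List.all_eq_true.1 hfixw i (List.mem_range.2 hi)) j (List.mem_range.2 hj7))] at h
      rw [rconj, inv_one, one_mul, mul_one] at h
      exact mul_left_cancel (h.symm.trans (mul_one _).symm)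
    · obtain rfl : j = 7 := by omega
      have hmem : eqWords.getD 7 [] ∈ eqWords.drop 7 := by
        rw [List.getD_eq_getElem _ _ (hlen ▸ hj)]
        exact List.mem_iff_getElem.2 ⟨0, by simp [hlen], by simp⟩
      have hw7 : eqWords.getD 7 [] = [0, 1] := of_decide_eq_true (List.all_eq_true.1 hgw _ hmem)
      rw [hw7]
      have h := hword [0, 1] (by simp) _ hi2
      rw [show ([0, 1].map P).prod = g' by simp [P, g'], hLg _ hi2, actW_xy] at h
      exact mul_left_cancel (h.symm.trans (mul_one _).symm)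
  have hd1 : ∀ k < 22, d k = 1 := by
    intro k hk
    have h := List.all_eq_true.1 hcomb k (List.mem_range.2 hk)
    simp only [Bool.and_eq_true, List.all_eq_true, Nat.blt_eq] at h
    have key : ∀ l : List (ℕ × ℕ), (∀ p ∈ l, p.1 < eqWords.length ∧ p.2 < 11) → prodBits d (combSum l) 22 = 1 := by
      intro l
      induction l with
      | nil => intro _; exact prodBits_zero d 22
      | cons p l ih =>
        intro hl
        show prodBits d (maskW (eqWords.getD p.1 []) (2 ^ p.2) ^^^ combSum l) 22 = 1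
        rw [prodBits_xor _ _ 22 helem, heq _ _ (hl p List.mem_cons_self).1 (hl p List.mem_cons_self).2,
          ih fun q hq => hl q (List.mem_cons_of_mem p hq), one_mul]
    rw [← prodBits_unit d hk, ← Nat.eq_of_beq_eq_true h.1]
    exact key _ h.2
  have hequiv : ∀ k, k < 2 → ∀ a < 2 ^ 11, rconj (P k) (L a) = L (act k a) := fun k hk a ha => by
    rw [hδconj k a hk ha, prodBits_congr d (fun _ => 1) _ 22 hd1]
    have : ∀ n, prodBits (fun _ => (1 : Γ)) (Nat.shiftLeft a (Nat.mul 11 k)) n = 1 := fun n => by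
      induction n with
      | zero => rfl
      | succ n ih => rw [prodBits, ih, one_mul]; split <;> rfl
    rw [this, mul_one]
  -- the complement
  let AL : Subgroup Γ :=
    { carrier := {g | ∃ v, v < 2 ^ 11 ∧ L v = g}
      one_mem' := ⟨0, by norm_num, hL0⟩
      mul_mem' := fun {a b} ha hb => Exists.elim ha fun u hu => Exists.elim hb fun v hv =>
        ⟨u ^^^ v, Nat.xor_lt_two_pow hu.1 hv.1, by rw [hLxor, hu.2, hv.2]⟩
      inv_mem' := fun {a} ha => Exists.elim ha fun u hu => ⟨u, hu.1, by rw [← hu.2, hLinv]⟩ }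
  have hnorm : s.range ≤ Subgroup.normalizer (AL : Set Γ) := by
    have hgen : (⊤ : Subgroup subM) = Subgroup.closure {⟨gX, hxM⟩, ⟨gY, hyM⟩} := by
      refine (eq_top_iff.2 fun m _ => ?_).symm
      have key : ∀ (x : G) (hx : x ∈ subM),
          (⟨x, hx⟩ : subM) ∈ Subgroup.closure ({⟨gX, hxM⟩, ⟨gY, hyM⟩} : Set subM) := by
        intro x hx
        induction hx using Subgroup.closure_induction with
        | mem y hy =>
          rcases hy with rfl | rfl
          · exact Subgroup.subset_closure (Set.mem_insert _ _)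
          · exact Subgroup.subset_closure (Set.mem_insert_of_mem _ rfl)
        | one => exact Subgroup.one_mem _
        | mul a b _ _ iha ihb => exact Subgroup.mul_mem _ iha ihb
        | inv a _ iha => exact Subgroup.inv_mem _ iha
      exact key m.1 m.2
    rw [MonoidHom.range_eq_map, hgen, MonoidHom.map_closure, Set.image_pair, Subgroup.closure_le]
    have hfin : Finite AL := inferInstance
    have key : ∀ k, k < 2 → P k ∈ Subgroup.normalizer (AL : Set Γ) := by
      intro k hk
      refine inv_inv (P k) ▸ Subgroup.inv_mem _ ?_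
      have hmap : AL.map (MulAut.conj (P k)⁻¹).toMonoidHom = AL := by
        refine Subgroup.eq_of_le_of_card_ge ?_
          (le_of_eq (Subgroup.card_map_of_injective (MulAut.conj (P k)⁻¹).injective).symm)
        rintro _ ⟨_, ⟨v, hv, rfl⟩, rfl⟩
        refine ⟨act k v, (hact k v hv).1, ?_⟩
        rw [← hequiv k hk v hv]
        simp [rconj, MulAut.conj_apply]
      rw [Subgroup.mem_normalizer_iff]
      intro n
      constructor
      · intro hn
        rw [← hmap]
        exact ⟨n, hn, by simp⟩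
      · intro hn
        rw [← hmap] at hn
        obtain ⟨m, hm, he⟩ := hn
        have : m = n := by simpa [MulAut.conj_apply] using he
        exact this ▸ hm
    rintro g (rfl | rfl)
    · exact key 0 (by norm_num)
    · exact key 1 (by norm_num)
  set C : Subgroup Γ := AL ⊔ s.range
  have hCdec : ∀ c ∈ C, ∃ v, v < 2 ^ 11 ∧ ∃ m : subM, c = L v * s m := by
    intro c hcC
    have h' : c ∈ ((AL ⊔ s.range : Subgroup Γ) : Set Γ) := hcC
    rw [Subgroup.coe_mul_of_right_le_normalizer_left _ _ hnorm] at h'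
    obtain ⟨_, ⟨v, hv, rfl⟩, _, ⟨m, rfl⟩, e⟩ := h'
    exact ⟨v, hv, m, e.symm⟩
  have hCker : ∀ c ∈ C, c ∈ σ.ker → c = 1 := by
    intro c hcC hck
    obtain ⟨v, hv, m, rfl⟩ := hCdec c hcC
    rw [MonoidHom.mem_ker, map_mul, hσL v hv, hsec] at hck
    have hm : m.1 = emb v := by
      rw [← emb_inv hs v]
      exact eq_inv_of_mul_eq_one_right hck
    have hmem : m.1 ∈ subA hs ⊓ subM := ⟨hm ▸ emb_mem hs v, m.2⟩
    rw [subA_inf_subM hs, Subgroup.mem_bot] at hmem
    obtain rfl : v = 0 := emb_eq_one hs hv (hm.symm.trans hmem)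
    rw [hL0, one_mul, show m = 1 from Subtype.ext hmem, map_one]
  have hdecH : ∀ h ∈ subH.comap σ, ∃ c ∈ C, c⁻¹ * h ∈ σ.ker := by
    intro h hh
    have hh' : σ h ∈ (subH : Set G) := hh
    rw [subH_coe hs] at hh'
    obtain ⟨_, ⟨v, hv, rfl⟩, m, hm, e⟩ := hh'
    refine ⟨L v * s ⟨m, hm⟩, Subgroup.mul_mem_sup ⟨v, hv, rfl⟩ ⟨_, rfl⟩, ?_⟩
    rw [MonoidHom.mem_ker, map_mul, map_inv, map_mul, hσL v hv, hsec, ← e, inv_mul_cancel]
  haveI := finiteG hs hc
  have hidx : ¬ 2 ∣ subH.index := by rw [index_subH hs hc]; norm_num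
  have hmemc := Cfsg.Agent.Lib.Schur.Fusion.mem_commutator_comap hσ hz Nat.prime_two hz2 subH hidx
  have hle : ⁅subH.comap σ, subH.comap σ⁆ ≤ C := by
    refine Subgroup.commutator_le.2 fun a ha b hb => ?_
    obtain ⟨c, hcC, hza⟩ := hdecH a ha
    obtain ⟨c', hcC', hzb⟩ := hdecH b hb
    have hz1 := hcen hza
    have hz2' := hcen hzb
    set za := c⁻¹ * a with hza'
    set zb := c'⁻¹ * b with hzb'
    rw [show a = c * za by rw [hza']; group, show b = c' * zb by rw [hzb']; group, commutatorElement_def]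
    have : c * za * (c' * zb) * (c * za)⁻¹ * (c' * zb)⁻¹ = c * c' * c⁻¹ * c'⁻¹ := by
      calc c * za * (c' * zb) * (c * za)⁻¹ * (c' * zb)⁻¹
          = c * (za * (c' * zb)) * za⁻¹ * c⁻¹ * (c' * zb)⁻¹ := by group
        _ = c * ((c' * zb) * za) * za⁻¹ * c⁻¹ * (c' * zb)⁻¹ := by rw [hz1]
        _ = c * c' * (zb * c⁻¹) * zb⁻¹ * c'⁻¹ := by group
        _ = c * c' * (c⁻¹ * zb) * zb⁻¹ * c'⁻¹ := by rw [hz2']
        _ = c * c' * c⁻¹ * c'⁻¹ := by group
    rw [this]
    exact C.mul_mem (C.mul_mem (C.mul_mem hcC hcC') (C.inv_mem hcC)) (C.inv_mem hcC')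
  exact hCker z (hle hmemc) hz

end Cfsg.Agent.Lib.J4Cons78
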