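import Cfsg.Agent.Lib.J4Cons78.Centralizer

/-! The normaliser of the 2^11 in J4 is the subgroup 2^11:M24. -/

set_option autoImplicit false
set_option exponentiation.threshold 13000
set_option maxRecDepth 20000

open scoped Pointwise

namespace Cfsg.Agent.Lib.J4Cons78

/-- The order of 2^11:M24. -/
abbrev ordH : ℕ := 2 ^ 11 * 244823040

/-- The element xy. -/
abbrev gS : G := gX * gY

theorem sStep_one : sStep 1 ≠ 1 ∧ sStep 1 < 2 ^ 11 := by decide +kernel

variable (hs : IsSimpleGroup G) (hc : Nat.card G = ordG)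
include hs hc

theorem finiteG : Finite G := Nat.finite_of_card_ne_zero (by rw [hc]; norm_num [ordG])

theorem gS_mem : gS ∈ subH :=
  subH.mul_mem (Subgroup.subset_closure (by simp)) (Subgroup.subset_closure (by simp))

theorem emb_conj_s (v : ℕ) (hv : v < 2 ^ 11) : gS⁻¹ * emb v * gS = emb (sStep v) := by
  show _ = emb (lin my (lin mx v))
  rw [← emb_conj_y hs _ (lin_mx_lt v), ← emb_conj_x hs v hv]; group

theorem orderOf_gS : orderOf gS = 23 := by
  haveI : Fact (Nat.Prime 23) := ⟨by norm_num⟩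
  refine orderOf_eq_prime ?_ ?_
  · have h : gval (List.flatten (List.replicate 23 [0, 1])) = gval [] := gval_eq hs (by decide +kernel)
    rw [gval_nil] at h
    have e : ∀ n, gval (List.flatten (List.replicate n [0, 1])) = gS ^ n := by
      intro n
      induction n with
      | zero => rfl
      | succ n ih =>
        rw [List.replicate_succ, List.flatten_cons, gval_append, ih, pow_succ']
        simp [gval, glett, gS]
    rw [← e, h]
  · intro h
    have he := emb_conj_s hs hc 1 (by norm_num)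
    rw [show (gS : G) = 1 from h, inv_one, one_mul, mul_one] at he
    exact sStep_one.1 (emb_inj hs (by norm_num) sStep_one.2 he).symm

theorem eq_one_of_fixed_by_s {a : G} (ha : a ∈ subA hs) (hsa : Commute gS a) : a = 1 := by
  obtain ⟨v, hv, rfl⟩ := ha
  by_contra hne
  have hv0 : v ≠ 0 := fun h => hne (by rw [h, emb_zero])
  have hall := irred (P := fun w => w < 2 ^ 11 ∧ Commute gS (emb w))
    ⟨by norm_num, by rw [emb_zero]; exact Commute.one_right _⟩
    (fun u w hu hw => ⟨Nat.xor_lt_two_pow hu.1 hw.1, by rw [emb_xor hs]; exact hu.2.mul_right hw.2⟩)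
    (fun w hw hPw => ⟨lin_my_lt _, by
      show Commute gS (emb (sStep w))
      rw [← emb_conj_s hs hc w hw, mul_assoc, ← hPw.2.eq, inv_mul_cancel_left]; exact hPw.2⟩)
    hv hv0 ⟨hv, hsa⟩ 1 (by norm_num)
  have he := emb_conj_s hs hc 1 (by norm_num)
  rw [mul_assoc, ← hall.2.eq, inv_mul_cancel_left] at he
  exact sStep_one.1 (emb_inj hs (by norm_num) sStep_one.2 he).symm

/-- The number of fixed points of a subgroup on the 2^11, as a power of two. -/
theorem card_fix_pow (Q : Subgroup G) : ∃ f ≤ 11,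
    Nat.card (subA hs ⊓ Subgroup.centralizer (Q : Set G) : Subgroup G) = 2 ^ f ∧
    (f = 11 → Q ≤ Subgroup.centralizer (subA hs : Set G)) := by
  haveI := finiteG hs hc
  obtain ⟨f, hf, e⟩ := (Nat.dvd_prime_pow Nat.prime_two).1
    (card_subA hs ▸ Subgroup.card_dvd_of_le (inf_le_left : subA hs ⊓ Subgroup.centralizer (Q : Set G) ≤ subA hs))
  refine ⟨f, hf, e, fun h11 => ?_⟩
  have heq : subA hs ⊓ Subgroup.centralizer (Q : Set G) = subA hs :=
    Subgroup.eq_of_le_of_card_ge inf_le_left (by rw [card_subA hs, e, h11])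
  intro q hq
  refine Subgroup.mem_centralizer_iff.2 fun a ha => ?_
  have : a ∈ subA hs ⊓ Subgroup.centralizer (Q : Set G) := heq.symm ▸ ha
  exact (Subgroup.mem_centralizer_iff.1 this.2 q hq).symm

theorem eq_two_of_centralizes {q : ℕ} (hq : q.Prime) {g : G} (hg : orderOf g = q)
    (h : g ∈ Subgroup.centralizer (subA hs : Set G)) : q = 2 := by
  rw [centralizer_subA hs hc] at h
  obtain ⟨v, -, rfl⟩ := h
  refine (Nat.prime_dvd_prime_iff_eq hq Nat.prime_two).1 (hg ▸ orderOf_dvd_of_pow_eq_one ?_)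
  rw [pow_two, emb_self hs]

theorem no_prime {q : ℕ} (hq : q.Prime) (hq2 : q ≠ 2)
    (hf : ∀ f ≤ 11, 2 ^ 11 % q = 2 ^ f % q → f = 11) :
    ¬ q ∣ Nat.card (Subgroup.normalizer (subA hs : Set G)) := by
  intro hd
  haveI := finiteG hs hc
  haveI : Fact q.Prime := ⟨hq⟩
  obtain ⟨⟨g, hgN⟩, hgo⟩ := exists_prime_orderOf_dvd_card' q hd
  rw [Subgroup.orderOf_mk] at hgo
  have hQ : IsPGroup q (Subgroup.zpowers g) := IsPGroup.of_card (n := 1) (by rw [Nat.card_zpowers, hgo, pow_one])
  have hmod := card_fix_modEq (subA hs) _ q (Subgroup.zpowers_le.2 hgN) hQ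
  obtain ⟨f, hf11, e, hall⟩ := card_fix_pow hs hc (Subgroup.zpowers g)
  rw [card_subA hs, e] at hmod
  exact hq2 (eq_two_of_centralizes hs hc hq hgo (hall (hf f hf11 hmod) (Subgroup.mem_zpowers g)))

theorem not_eleven_sq : ¬ 11 ^ 2 ∣ Nat.card (Subgroup.normalizer (subA hs : Set G)) := by
  intro hd
  haveI := finiteG hs hc
  haveI : Fact (Nat.Prime 11) := ⟨by norm_num⟩
  set N := Subgroup.normalizer (subA hs : Set G)
  obtain ⟨Q0, hQ0⟩ := Sylow.exists_subgroup_card_pow_prime 11 hd
  set Q := Q0.map N.subtype with hQdef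
  have hQN : Q ≤ N := Subgroup.map_subtype_le _
  have hQc : Nat.card Q = 11 ^ 2 := by rw [hQdef, Subgroup.card_map_of_injective N.subtype_injective, hQ0]
  have hp : IsPGroup 11 Q := IsPGroup.of_card hQc
  have hsmall : ∀ f ≤ 11, 2 ^ 11 % 11 = 2 ^ f % 11 → f = 1 ∨ f = 11 := by decide +kernel
  have hone : ∀ g ∈ Q, g ≠ 1 →
      Nat.card (subA hs ⊓ Subgroup.centralizer ((Subgroup.zpowers g : Subgroup G) : Set G) : Subgroup G) = 2 := by
    intro g hg hne
    have hmod := card_fix_modEq (subA hs) _ 11 (Subgroup.zpowers_le.2 (hQN hg))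
      (hp.to_le (Subgroup.zpowers_le.2 hg))
    obtain ⟨f, hf11, e, hall⟩ := card_fix_pow hs hc (Subgroup.zpowers g)
    rw [card_subA hs, e] at hmod
    rcases hsmall f hf11 hmod with rfl | rfl
    · rw [e, pow_one]
    · exfalso
      have hg1 := hall rfl (Subgroup.mem_zpowers g)
      rw [centralizer_subA hs hc] at hg1
      obtain ⟨v, -, rfl⟩ := hg1
      apply hne
      have h2 : orderOf (emb v) ∣ 2 := orderOf_dvd_of_pow_eq_one (by rw [pow_two, emb_self hs])
      have h121 : orderOf (emb v) ∣ 121 := by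
        have := Subgroup.orderOf_dvd_natCard Q hg
        rwa [hQc] at this
      exact orderOf_eq_one_iff.1 (Nat.dvd_one.1 ((show Nat.gcd 2 121 = 1 by norm_num) ▸ Nat.dvd_gcd h2 h121))
  have := card_dvd_of_uniform (subA hs) Q hQN 2 (by rw [card_subA hs]; norm_num) hone
  rw [hQc, card_subA hs] at this
  norm_num at this

theorem card_cent_s {N : Subgroup G} (hN : N = Subgroup.normalizer (subA hs : Set G))
    (h89 : ¬ 89 ∣ Nat.card N) (h2 : ¬ 23 ^ 2 ∣ Nat.card N) :
    Nat.card (N ⊓ Subgroup.centralizer ((Subgroup.zpowers gS : Subgroup G) : Set G) : Subgroup G) = 23 := by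
  haveI := finiteG hs hc
  set C := (N ⊓ Subgroup.centralizer ((Subgroup.zpowers gS : Subgroup G) : Set G) : Subgroup G)
  have hcomm : ∀ g ∈ C, Commute gS g := fun g hg =>
    Subgroup.mem_centralizer_iff.1 hg.2 gS (Subgroup.mem_zpowers gS)
  have hp : ∀ {q : ℕ}, q.Prime → q ∣ Nat.card C → q = 23 := by
    intro q hq hd
    haveI : Fact q.Prime := ⟨hq⟩
    obtain ⟨⟨g, hgC⟩, hgo⟩ := exists_prime_orderOf_dvd_card' q hd
    rw [Subgroup.orderOf_mk] at hgo
    have hQ : IsPGroup q (Subgroup.zpowers g) := IsPGroup.of_card (n := 1) (by rw [Nat.card_zpowers, hgo, pow_one])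
    have hmod := card_fix_modEq (subA hs) _ q (Subgroup.zpowers_le.2 (hN ▸ hgC.1)) hQ
    have hbot : subA hs ⊓ Subgroup.centralizer ((Subgroup.zpowers g : Subgroup G) : Set G) = ⊥ := by
      rw [eq_bot_iff]
      intro a ha
      rw [Subgroup.mem_bot]
      obtain ⟨v, hv, rfl⟩ := ha.1
      by_contra hne
      have hall := irred (P := fun w => w < 2 ^ 11 ∧ Commute g (emb w))
        ⟨by norm_num, by rw [emb_zero]; exact Commute.one_right _⟩
        (fun u w hu hw => ⟨Nat.xor_lt_two_pow hu.1 hw.1, by rw [emb_xor hs]; exact hu.2.mul_right hw.2⟩)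
        (fun w hw hPw => ⟨lin_my_lt _, by
          show Commute g (emb (sStep w))
          rw [← emb_conj_s hs hc w hw]
          exact (((hcomm g hgC).symm.inv_right).mul_right hPw.2).mul_right (hcomm g hgC).symm⟩)
        hv (fun h => hne (by rw [h, emb_zero]))
        ⟨hv, Subgroup.mem_centralizer_iff.1 ha.2 g (Subgroup.mem_zpowers g)⟩
      have hgA : g ∈ subA hs := by
        rw [← centralizer_subA hs hc, Subgroup.mem_centralizer_iff]
        rintro _ ⟨w, hw, rfl⟩
        exact ((hall w hw).2.eq).symm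
      have hg1 := eq_one_of_fixed_by_s hs hc hgA (hcomm g hgC)
      rw [hg1, orderOf_one] at hgo
      exact hq.ne_one hgo.symm
    rw [hbot, card_subA hs, Subgroup.card_bot] at hmod
    have h2047 : q ∣ 23 * 89 := by
      have := (Nat.modEq_iff_dvd' (show 1 ≤ 2 ^ 11 by norm_num)).1 hmod.symm
      simpa using this
    rcases hq.dvd_mul.1 h2047 with h | h
    · exact (Nat.prime_dvd_prime_iff_eq hq (by norm_num)).1 h
    · obtain rfl := (Nat.prime_dvd_prime_iff_eq hq (by norm_num)).1 h
      exact absurd (hd.trans (Subgroup.card_dvd_of_le inf_le_left)) h89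
  have hpow := Nat.eq_prime_pow_of_unique_prime_dvd (n := Nat.card C) (p := 23) Nat.card_pos.ne' hp
  have hle : (Nat.card C).primeFactorsList.length ≤ 1 := by
    by_contra hlt
    exact h2 ((pow_dvd_pow 23 (show 2 ≤ _ by omega)).trans
      (hpow ▸ Subgroup.card_dvd_of_le (inf_le_left : C ≤ N)))
  have hSC : gS ∈ C := ⟨hN ▸ subH_le_normalizer hs (gS_mem hs hc), Subgroup.mem_centralizer_iff.2 (by
    rintro z ⟨n, rfl⟩; exact ((Commute.refl gS).zpow_left n).eq)⟩
  have h23 : 23 ∣ Nat.card C := orderOf_gS hs hc ▸ Subgroup.orderOf_dvd_natCard C hSC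
  rcases Nat.le_one_iff_eq_zero_or_eq_one.1 hle with h | h
  · rw [hpow, h] at h23; norm_num at h23
  · rw [hpow, h, pow_one]

/-- The normaliser of the 2^11 is the subgroup 2^11:M24. -/
theorem normalizer_subA : Subgroup.normalizer (subA hs : Set G) = subH := by
  haveI := finiteG hs hc
  set N := Subgroup.normalizer (subA hs : Set G) with hNdef
  have hHN := subH_le_normalizer hs
  obtain ⟨d, hd⟩ : ordH ∣ Nat.card N := by
    rw [show ordH = Nat.card subH from (card_subH hs).symm]
    exact Subgroup.card_dvd_of_le hHN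
  have hdi : d ∣ 173067389 := by
    have h : ordH * d ∣ ordH * 173067389 := by
      rw [← hd, show ordH * 173067389 = Nat.card G by rw [hc]; norm_num [ordH, ordG]]
      exact Subgroup.card_subgroup_dvd_card _
    exact Nat.dvd_of_mul_dvd_mul_left (by norm_num [ordH]) h
  have h29 : ¬ 29 ∣ Nat.card N :=
    no_prime hs hc (q := 29) (by norm_num) (by norm_num) (by decide +kernel)
  have h37 : ¬ 37 ∣ Nat.card N :=
    no_prime hs hc (q := 37) (by norm_num) (by norm_num) (by decide +kernel)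
  have h43 : ¬ 43 ∣ Nat.card N :=
    no_prime hs hc (q := 43) (by norm_num) (by norm_num) (by decide +kernel)
  have h11 : ¬ 11 ∣ d := fun h => not_eleven_sq hs hc (by
    rw [← hNdef, hd, pow_two]; exact Nat.mul_dvd_mul (by norm_num [ordH]) h)
  have h31 : d ∣ 31 := by
    have hp : ∀ {p : ℕ}, p.Prime → ¬ p ∣ d → Nat.Coprime d p := fun hp h => (hp.coprime_iff_not_dvd.2 h).symm
    have hdN : d ∣ Nat.card N := ⟨ordH, by rw [hd, Nat.mul_comm]⟩
    have e : (173067389 : ℕ) = 11 * 11 * 29 * 37 * 43 * 31 := by norm_num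
    rw [e] at hdi
    refine Nat.Coprime.dvd_of_dvd_mul_left ?_ hdi
    exact ((((hp (by norm_num) h11).mul_right (hp (by norm_num) h11)).mul_right
      (hp (by norm_num) fun h => h29 (h.trans hdN))).mul_right
      (hp (by norm_num) fun h => h37 (h.trans hdN))).mul_right (hp (by norm_num) fun h => h43 (h.trans hdN))
  rcases (Nat.dvd_prime (by norm_num)).1 h31 with rfl | rfl
  · exact (Subgroup.eq_of_le_of_card_ge hHN (by rw [hd, card_subH hs, mul_one])).symm
  exfalso
  haveI : Fact (Nat.Prime 23) := ⟨by norm_num⟩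
  set M : ℕ := 2 ^ 21 * 3 ^ 3 * 5 * 7 * 11 * 31 with hM
  have hNc : Nat.card N = 23 * M := by rw [hd, hM]; norm_num [ordH]
  have hC := card_cent_s hs hc rfl (by rw [← hNdef, hd]; norm_num [ordH])
    (by rw [← hNdef, hd]; norm_num [ordH])
  let s : N := ⟨gS, hHN (gS_mem hs hc)⟩
  have hso : orderOf s = 23 := by rw [← Subgroup.orderOf_coe]; exact orderOf_gS hs hc
  have hPc : Nat.card (Subgroup.zpowers s) = 23 ^ (Nat.card N).factorization 23 := by
    rw [Nat.card_zpowers, hso, hNc, Nat.factorization_mul (by norm_num) (by norm_num [hM]), Finsupp.add_apply,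
      Nat.factorization_eq_zero_of_not_dvd (show ¬ 23 ∣ M by norm_num [hM]),
      Nat.Prime.factorization_self (by norm_num), add_zero, pow_one]
  let P : Sylow 23 N := Sylow.ofCard (Subgroup.zpowers s) hPc
  set NP := Subgroup.normalizer (Subgroup.zpowers s : Set N) with hNP
  have hidx : NP.index % 23 = 1 := by
    have h1 := card_sylow_modEq_one 23 N
    rw [Sylow.card_eq_index_normalizer P] at h1
    exact h1
  set C := Subgroup.centralizer (Subgroup.zpowers s : Set N)
  have hCc : Nat.card C = 23 := by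
    refine (Nat.card_congr (α := C)
      (β := (N ⊓ Subgroup.centralizer ((Subgroup.zpowers gS : Subgroup G) : Set G) : Subgroup G))
      { toFun := fun g => ⟨g.1.1, g.1.2, Subgroup.mem_centralizer_iff.2 ?_⟩
        invFun := fun g => ⟨⟨g.1, g.2.1⟩, Subgroup.mem_centralizer_iff.2 ?_⟩
        left_inv := fun _ => rfl
        right_inv := fun _ => rfl }).trans hC
    · rintro z ⟨n, rfl⟩
      have h1 : Commute s g.1 := Subgroup.mem_centralizer_iff.1 g.2 s (Subgroup.mem_zpowers s)
      exact ((h1.map N.subtype).zpow_left n).eq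
    · rintro z ⟨n, rfl⟩
      have h1 : Commute gS g.1 := Subgroup.mem_centralizer_iff.1 g.2.2 gS (Subgroup.mem_zpowers gS)
      exact Subtype.ext (by simpa using (h1.zpow_left n).eq)
  have hCNP : C ≤ NP := by
    intro g hg
    rw [hNP, Subgroup.mem_normalizer_iff]
    intro n
    have hcm : ∀ n ∈ Subgroup.zpowers s, g * n * g⁻¹ = n := fun n hn => by
      rw [← Subgroup.mem_centralizer_iff.1 hg n hn, mul_inv_cancel_right]
    constructor
    · intro hn
      show g * n * g⁻¹ ∈ Subgroup.zpowers s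
      rw [hcm n hn]; exact hn
    · intro hn
      have h2 := Subgroup.mem_centralizer_iff.1 hg _ hn
      have : g * n * g⁻¹ = n := by
        calc g * n * g⁻¹ = g⁻¹ * (g * n * g⁻¹ * g) := by rw [h2]; group
          _ = n := by group
      show n ∈ Subgroup.zpowers s
      rwa [← this]
  have hk : Nat.card (NP ⧸ C.subgroupOf NP) ≤ 23 := by
    rw [← hso, ← Nat.card_zpowers]
    let f : NP ⧸ C.subgroupOf NP → Subgroup.zpowers s := Quotient.lift
      (fun g : NP => (⟨g.1 * s * g.1⁻¹, (Subgroup.mem_normalizer_iff.1 g.2 s).1 (Subgroup.mem_zpowers s)⟩ :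
        Subgroup.zpowers s)) fun a b hab => Subtype.ext (by
          have h : a⁻¹ * b ∈ C.subgroupOf NP := (QuotientGroup.leftRel_apply (s := C.subgroupOf NP)).1 hab
          have h1 : s * (a.1⁻¹ * b.1) = (a.1⁻¹ * b.1) * s :=
            Subgroup.mem_centralizer_iff.1 (Subgroup.mem_subgroupOf.1 h) s (Subgroup.mem_zpowers s)
          show a.1 * s * a.1⁻¹ = b.1 * s * b.1⁻¹
          calc a.1 * s * a.1⁻¹ = a.1 * (s * (a.1⁻¹ * b.1)) * b.1⁻¹ := by group
            _ = a.1 * ((a.1⁻¹ * b.1) * s) * b.1⁻¹ := by rw [h1]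
            _ = b.1 * s * b.1⁻¹ := by group)
    refine Nat.card_le_card_of_injective f ?_
    intro a b
    refine Quotient.inductionOn₂ a b fun a b hab => Quotient.sound (QuotientGroup.leftRel_apply.2 ?_)
    have h : a.1 * s * a.1⁻¹ = b.1 * s * b.1⁻¹ := congrArg Subtype.val hab
    refine Subgroup.mem_centralizer_iff.2 ?_
    rintro z ⟨n, rfl⟩
    refine (Commute.zpow_left (show Commute s (a.1⁻¹ * b.1) from ?_) n).eq
    show _ = _
    calc s * (a.1⁻¹ * b.1) = a.1⁻¹ * (a.1 * s * a.1⁻¹) * b.1 := by group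
      _ = a.1⁻¹ * (b.1 * s * b.1⁻¹) * b.1 := by rw [h]
      _ = a.1⁻¹ * b.1 * s := by group
  set k := Nat.card (NP ⧸ C.subgroupOf NP) with hkdef
  have hNPc : Nat.card NP = k * 23 := by
    rw [Subgroup.card_eq_card_quotient_mul_card_subgroup (C.subgroupOf NP), hkdef,
      Nat.card_congr (Subgroup.subgroupOfEquivOfLe hCNP).toEquiv, hCc]
  have hprod := NP.card_mul_index
  rw [hNPc, hNc] at hprod
  have hkM : k * NP.index = M := Nat.eq_of_mul_eq_mul_left (show 0 < 23 by norm_num) (by
    rw [← hprod]; ring)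
  have hbad : ∀ k < 24, M % 23 = k % 23 → ¬ k ∣ M := by rw [hM]; decide +kernel
  refine hbad k (by omega) ?_ ⟨_, hkM.symm⟩
  rw [← hkM, Nat.mul_mod, hidx, mul_one, Nat.mod_mod]

end Cfsg.Agent.Lib.J4Cons78
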