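import Mathlib

/-! Spans of bit strings by elimination. -/

set_option autoImplicit false

namespace Cfsg.Agent.Lib.J4Cons78

/-- Reduce `v` by the pivots below `n` and store it at its top bit. -/
def insP : ℕ → ℕ → List ℕ → List ℕ
  | 0, _, p => p
  | n + 1, v, p =>
    bif Nat.testBit v n then
      (bif Nat.beq (p.getD n 0) 0 then p.set n v else insP n (Nat.xor v (p.getD n 0)) p)
    else insP n v p

/-- The pivots of a list of bit strings of length `n`. -/
def pivots (n : ℕ) (l : List ℕ) : List ℕ := l.foldl (fun p v => insP n v p) (List.replicate n 0)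

/-- The pivots form a full triangular system. -/
def fullP (n : ℕ) (p : List ℕ) : Bool :=
  (List.range n).all fun i => Nat.testBit (p.getD i 0) i && Nat.blt (p.getD i 0) (2 ^ (i + 1))

theorem insP_closed {P : ℕ → Prop} (hx : ∀ u v, P u → P v → P (u ^^^ v)) :
    ∀ (n v : ℕ) (p : List ℕ), P v → (∀ i, P (p.getD i 0)) → ∀ i, P ((insP n v p).getD i 0)
  | 0, _, _, _, hp => hp
  | n + 1, v, p, hv, hp => by
    intro i
    simp only [insP]
    cases Nat.testBit v n
    · exact insP_closed hx n v p hv hp i
    · cases Nat.beq (p.getD n 0) 0
      · exact insP_closed hx n _ p (hx _ _ hv (hp n)) hp i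
      · show P ((p.set n v).getD i 0)
        rw [List.getD_eq_getElem?_getD, List.getElem?_set]
        split_ifs with h h'
        · simpa using hv
        · have := hp i
          rw [List.getD_eq_default _ _ (by omega)] at this
          simpa using this
        · rw [← List.getD_eq_getElem?_getD]; exact hp i

/-- A set closed under xor containing a full triangular system contains every bit string. -/
theorem all_of_full {P : ℕ → Prop} {n : ℕ} {l : List ℕ} (h : fullP n (pivots n l) = true) (h0 : P 0)
    (hx : ∀ u v, P u → P v → P (u ^^^ v)) (hl : ∀ v ∈ l, P v) : ∀ v < 2 ^ n, P v := by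
  have hp : ∀ i, P ((pivots n l).getD i 0) := by
    have key : ∀ (l : List ℕ) (p : List ℕ), (∀ v ∈ l, P v) → (∀ i, P (p.getD i 0)) →
        ∀ i, P ((l.foldl (fun p v => insP n v p) p).getD i 0) := by
      intro l
      induction l with
      | nil => intro p _ hp; exact hp
      | cons a l ih =>
        intro p hl hp
        exact ih _ (fun v hv => hl v (List.mem_cons_of_mem a hv))
          (insP_closed hx n a p (hl a List.mem_cons_self) hp)
    exact key l _ hl fun i => by
      rw [List.getD_eq_getElem?_getD, List.getElem?_replicate]
      split <;> simpa using h0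
  suffices ∀ k ≤ n, ∀ v < 2 ^ k, P v from this n le_rfl
  intro k
  induction k with
  | zero => intro _ v hv; obtain rfl : v = 0 := by simpa using hv
            exact h0
  | succ k ih =>
    intro hk v hv
    have hb := List.all_eq_true.1 h k (List.mem_range.2 hk)
    simp only [Bool.and_eq_true, Nat.blt_eq] at hb
    by_cases hvk : v < 2 ^ k
    · exact ih (by omega) v hvk
    · set q := (pivots n l).getD k 0
      have e : v = q ^^^ (v ^^^ q) := by
        rw [Nat.xor_comm v, ← Nat.xor_assoc, Nat.xor_self, Nat.zero_xor]
      rw [e]
      refine hx _ _ (hp k) (ih (by omega) _ (Nat.lt_pow_two_of_testBit _ fun j hj => ?_))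
      rcases Nat.lt_or_ge k j with h' | h'
      · rw [Nat.testBit_xor,
          Nat.testBit_lt_two_pow (lt_of_lt_of_le hv (Nat.pow_le_pow_right (by norm_num) h')),
          Nat.testBit_lt_two_pow (lt_of_lt_of_le hb.2 (Nat.pow_le_pow_right (by norm_num) h'))]
        rfl
      · obtain rfl : j = k := by omega
        rw [Nat.testBit_xor, hb.1,
          Nat.testBit_of_two_pow_le_and_two_pow_add_one_gt (by omega) hv]
        rfl

end Cfsg.Agent.Lib.J4Cons78
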