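import Cfsg.Agent.Lib.J4Cons78.Model
import Cfsg.Agent.Lib.J4Cons78.Span
import Cfsg.Agent.Lib.Golay.Simple

/-! The order of the subgroup 2^11:M24. -/

set_option autoImplicit false
set_option exponentiation.threshold 13000
set_option maxRecDepth 20000
set_option Elab.async false

open scoped Pointwise

namespace Cfsg.Agent.Lib.J4Cons78

open Cfsg Cfsg.Agent.Lib.J4Rep
open Cfsg.Agent.Lib.M24Pres (nonempty_equiv)

/-- The orbit of a bit string under xy, eleven steps. -/
def orb11 : ℕ → ℕ → List ℕ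
  | 0, _ => []
  | n + 1, v => v :: orb11 n (lin my (lin mx v))

/-- One step by xy. -/
def sStep (v : ℕ) : ℕ := lin my (lin mx v)

/-- Representatives of the cycles of xy on nonzero bit strings. -/
def reps : List ℕ := [1, 3, 6, 7, 8, 9, 10, 11, 12, 13, 14, 15, 21, 23, 24, 25, 26, 27, 28, 29, 30, 31, 37, 39, 41, 42, 43, 44, 46, 47, 52, 53, 55, 56, 57, 58, 60, 62, 63, 80, 81, 82, 83, 85, 86, 87, 88, 89, 90, 91, 93, 96, 98, 104, 106, 108, 109, 110, 113, 116, 127, 131, 134, 138, 140, 145, 146, 150, 151, 152, 153, 154, 156, 158, 161, 163, 167, 194, 199, 201, 209, 218, 223, 225, 239, 356, 357, 401, 421]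

/-- The set of the first `n` iterates as bits. -/
def cyc : ℕ → ℕ → ℕ
  | 0, _ => 0
  | n + 1, v => Nat.lor (Nat.shiftLeft 1 v) (cyc n (sStep v))

/-- The union of the cycles of a list. -/
def cycs : List ℕ → ℕ
  | [] => 0
  | r :: l => Nat.lor (cyc 23 r) (cycs l)

theorem irred_ok : (reps.all fun r => Nat.blt r 2048 && fullP 11 (pivots 11 (orb11 11 r)) &&
      Nat.beq (Nat.iterate sStep 23 r) r) = true ∧
    Nat.beq (cycs reps) (Nat.shiftLeft 1 2048 - 2) = true := by decide +kernel

theorem mem_cyc : ∀ (n v e : ℕ), (cyc n v).testBit e = true → ∃ j < n, sStep^[j] v = e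
  | 0, v, e, h => by simp [cyc] at h
  | n + 1, v, e, h => by
    have h' : (1 <<< v ||| cyc n (sStep v)).testBit e = true := h
    rw [Nat.testBit_lor, Bool.or_eq_true, Nat.one_shiftLeft, Nat.testBit_two_pow] at h'
    rcases h' with h' | h'
    · exact ⟨0, by omega, of_decide_eq_true h'⟩
    · obtain ⟨j, hj, rfl⟩ := mem_cyc n _ e h'
      exact ⟨j + 1, by omega, rfl⟩

theorem mem_cycs : ∀ (l : List ℕ) (e : ℕ), (cycs l).testBit e = true →
    ∃ r ∈ l, ∃ j < 23, sStep^[j] r = e
  | [], e, h => by simp [cycs] at h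
  | r :: l, e, h => by
    have h' : (cyc 23 r ||| cycs l).testBit e = true := h
    rw [Nat.testBit_lor, Bool.or_eq_true] at h'
    rcases h' with h' | h'
    · exact ⟨r, List.mem_cons_self, mem_cyc 23 r e h'⟩
    · obtain ⟨q, hq, hj⟩ := mem_cycs l e h'
      exact ⟨q, List.mem_cons_of_mem r hq, hj⟩

/-- A xy-stable set of bit strings closed under xor and containing a nonzero one contains all. -/
theorem irred {P : ℕ → Prop} (h0 : P 0) (hx : ∀ u v, P u → P v → P (u ^^^ v))
    (hs : ∀ v < 2 ^ 11, P v → P (lin my (lin mx v))) {e : ℕ} (he : e < 2 ^ 11) (he0 : e ≠ 0) (hPe : P e) :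
    ∀ v < 2 ^ 11, P v := by
  obtain ⟨hreps, hcyc⟩ := irred_ok
  have hb : (cycs reps).testBit e = true := by
    rw [Nat.eq_of_beq_eq_true hcyc, show Nat.shiftLeft 1 2048 = 2 ^ 2048 from Nat.one_shiftLeft 2048,
      show 2 ^ 2048 - 2 = 2 ^ 2048 - (1 + 1) from rfl,
      Nat.testBit_two_pow_sub_succ (Nat.one_lt_two_pow (by norm_num))]
    simp [show e < 2048 by omega, Nat.testBit_lt_two_pow
      (lt_of_lt_of_le (show 1 < 2 ^ 1 by norm_num) (Nat.pow_le_pow_right (by norm_num) (Nat.one_le_iff_ne_zero.2 he0)))]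
  obtain ⟨r, hr, j, hj, hje⟩ := mem_cycs reps e hb
  have hr' := List.all_eq_true.1 hreps r hr
  simp only [Bool.and_eq_true, Nat.blt_eq] at hr'
  have key : ∀ (n v : ℕ), v < 2 ^ 11 → P v → sStep^[n] v < 2 ^ 11 ∧ P (sStep^[n] v) := by
    intro n
    induction n with
    | zero => intro v hv hPv; exact ⟨hv, hPv⟩
    | succ n ih => intro v hv hPv; exact ih _ (lin_my_lt _) (hs v hv hPv)
  have hPr : P r := by
    have := (key (23 - j) e he hPe).2
    rw [← hje, ← Function.iterate_add_apply, show 23 - j + j = 23 by omega] at this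
    rwa [show sStep^[23] r = r from Nat.eq_of_beq_eq_true hr'.2] at this
  refine all_of_full hr'.1.2 h0 hx ?_
  have key : ∀ (n v : ℕ), v < 2 ^ 11 → P v → ∀ w ∈ orb11 n v, P w := by
    intro n
    induction n with
    | zero => intro v _ _ w hw; simp [orb11] at hw
    | succ n ih =>
      intro v hv hPv w hw
      rcases List.mem_cons.1 hw with rfl | hw
      · exact hPv
      · exact ih _ (lin_my_lt _) (hs v hv hPv) w hw
  exact key 11 r hr'.1.1 hPr

theorem gU_code : (List.range 112).any (fun i =>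
    !Nat.beq (lane (bCode 0) i) (Nat.shiftLeft 1 i)) = true := by decide +kernel

theorem gU_ne_one : gU ≠ 1 := by
  intro h
  obtain ⟨i, hi, hb⟩ := List.any_eq_true.1 gU_code
  have hi' : i < 112 := List.mem_range.1 hi
  have e : val (bCode 0) = 1 := by rw [← mat_bA (by norm_num : (0 : ℕ) < 11), bA_zero, h, mat_one]
  have heq : lane (bCode 0) i = Nat.shiftLeft 1 i := by
    apply Nat.eq_of_testBit_eq
    intro j
    rw [show Nat.shiftLeft 1 i = 2 ^ i from Nat.one_shiftLeft i, Nat.testBit_two_pow]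
    by_cases hj : j < 112
    · have := congrFun (congrFun e ⟨i, hi'⟩) ⟨j, hj⟩
      simp only [val, Matrix.of_apply, Matrix.one_apply, Fin.mk.injEq] at this
      by_cases hij : i = j
      · subst hij
        cases hb' : (lane (bCode 0) i).testBit i
        · simp [hb', bit] at this
        · simp
      · cases hb' : (lane (bCode 0) i).testBit j
        · simp [hij]
        · simp [hb', hij, bit] at this
    · rw [Nat.testBit_lt_two_pow (lt_of_lt_of_le (lane_lt _ _) (Nat.pow_le_pow_right (by norm_num) (by omega)))]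
      exact (decide_eq_false (by omega)).symm
  rw [heq, show Nat.beq (Nat.shiftLeft 1 i) (Nat.shiftLeft 1 i) = true from Nat.beq_refl _] at hb
  simp at hb

variable (hs : IsSimpleGroup G)
include hs

theorem emb_eq_one {v : ℕ} (hv : v < 2 ^ 11) (h : emb v = 1) : v = 0 := by
  by_contra h0
  have hall := irred (P := fun w => w < 2 ^ 11 ∧ emb w = 1) ⟨by norm_num, emb_zero⟩
    (fun u w hu hw => ⟨Nat.xor_lt_two_pow hu.1 hw.1, by rw [emb_xor hs, hu.2, hw.2, one_mul]⟩)
    (fun w hw hPw => ⟨lin_my_lt _, by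
      rw [← emb_conj_y hs _ (lin_mx_lt w), ← emb_conj_x hs w hw, hPw.2]; group⟩) hv h0 ⟨hv, h⟩ 1 (by norm_num)
  apply gU_ne_one
  rw [← bA_zero, ← prodBits_unit bA (by norm_num : 0 < 11)]
  exact hall.2

theorem emb_inj {u v : ℕ} (hu : u < 2 ^ 11) (hv : v < 2 ^ 11) (h : emb u = emb v) : u = v := by
  have : u ^^^ v = 0 := emb_eq_one hs (Nat.xor_lt_two_pow hu hv) (by rw [emb_xor hs, h, emb_self hs])
  exact Nat.xor_eq_zero_iff.1 this

theorem card_subA : Nat.card (subA hs) = 2 ^ 11 := by
  let f : Fin (2 ^ 11) → subA hs := fun v => ⟨emb v, v, v.2, rfl⟩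
  have hb : Function.Bijective f := by
    refine ⟨fun u v h => Fin.ext (emb_inj hs u.2 v.2 (congrArg Subtype.val h)), ?_⟩
    rintro ⟨_, v, hv, rfl⟩
    exact ⟨⟨v, hv⟩, rfl⟩
  rw [← Nat.card_congr (Equiv.ofBijective f hb), Nat.card_eq_fintype_card, Fintype.card_fin]

theorem equiv_subM : Nonempty (subM ≃* M24) := nonempty_equiv gX gY (rels7 hs) gX_ne_one

theorem card_subM : Nat.card subM = 244823040 := by
  obtain ⟨e⟩ := equiv_subM hs
  rw [Nat.card_congr e.toEquiv, Golay.card_M24]

theorem subM_le_normalizer : subM ≤ Subgroup.normalizer (subA hs : Set G) := by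
  have hf : Finite (subA hs) := Nat.finite_of_card_ne_zero (by rw [card_subA hs]; norm_num)
  have key : ∀ g : G, (∀ v < 2 ^ 11, g⁻¹ * emb v * g ∈ subA hs) →
      g ∈ Subgroup.normalizer (subA hs : Set G) := by
    intro g hg
    refine inv_inv g ▸ Subgroup.inv_mem _ ?_
    rw [Subgroup.mem_normalizer_iff]
    intro n
    have hmap : (subA hs).map (MulAut.conj g⁻¹).toMonoidHom = subA hs := by
      refine Subgroup.eq_of_le_of_card_ge ?_ ?_
      · rintro _ ⟨_, ⟨v, hv, rfl⟩, rfl⟩
        simpa [MulAut.conj_apply] using hg v hv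
      · exact le_of_eq (Subgroup.card_map_of_injective (MulAut.conj g⁻¹).injective).symm
    constructor
    · intro hn
      rw [← hmap]
      exact ⟨n, hn, by simp [MulAut.conj_apply]⟩
    · intro hn
      rw [← hmap] at hn
      obtain ⟨m, hm, he⟩ := hn
      have : m = n := by simpa [MulAut.conj_apply] using he
      exact this ▸ hm
  rw [subM, Subgroup.closure_le]
  rintro g (rfl | rfl)
  · exact key _ fun v hv => ⟨_, lin_mx_lt v, (emb_conj_x hs v hv).symm⟩
  · exact key _ fun v hv => ⟨_, lin_my_lt v, (emb_conj_y hs v hv).symm⟩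

theorem subA_inf_subM : subA hs ⊓ subM = ⊥ := by
  obtain ⟨e⟩ := equiv_subM hs
  haveI : IsSimpleGroup M24 := Golay.isSimple_M24
  haveI : Nontrivial subM := e.toEquiv.nontrivial
  haveI : IsSimpleGroup subM :=
    IsSimpleGroup.isSimpleGroup_of_surjective e.symm.toMonoidHom e.symm.surjective
  have hn : ((subA hs).subgroupOf subM).Normal :=
    ⟨fun n hn m => by
      rw [Subgroup.mem_subgroupOf] at hn ⊢
      exact (Subgroup.mem_normalizer_iff.1 (subM_le_normalizer hs m.2) n.1).1 hn⟩
  rcases hn.eq_bot_or_eq_top with h | h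
  · exact (Subgroup.subgroupOf_eq_bot.1 h).eq_bot
  · exfalso
    rw [Subgroup.subgroupOf_eq_top] at h
    have hf : Finite (subA hs) := Nat.finite_of_card_ne_zero (by rw [card_subA hs]; norm_num)
    have := Subgroup.card_le_of_le h
    rw [card_subM hs, card_subA hs] at this
    norm_num at this

theorem subH_coe : (subH : Set G) = (subA hs : Set G) * (subM : Set G) := by
  rw [subH_eq hs, sup_comm, Subgroup.coe_mul_of_right_le_normalizer_left _ _ (subM_le_normalizer hs)]

theorem card_subH : Nat.card subH = 2 ^ 11 * 244823040 := by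
  let f : subA hs × subM → subH := fun p => ⟨p.1.1 * p.2.1, by
    show _ ∈ (subH : Set G)
    rw [subH_coe hs]; exact Set.mul_mem_mul p.1.2 p.2.2⟩
  have hb : Function.Bijective f := by
    refine ⟨fun p q h => ?_, fun g => ?_⟩
    · have h' : p.1.1 * p.2.1 = q.1.1 * q.2.1 := congrArg Subtype.val h
      have hd : q.1.1⁻¹ * p.1.1 = q.2.1 * p.2.1⁻¹ := by
        rw [eq_mul_inv_iff_mul_eq, mul_assoc, h', inv_mul_cancel_left]
      have hm : q.1.1⁻¹ * p.1.1 ∈ subA hs ⊓ subM :=
        ⟨Subgroup.mul_mem _ (Subgroup.inv_mem _ q.1.2) p.1.2,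
          hd ▸ Subgroup.mul_mem _ q.2.2 (Subgroup.inv_mem _ p.2.2)⟩
      rw [subA_inf_subM hs, Subgroup.mem_bot] at hm
      have e1 : q.1.1 = p.1.1 := inv_mul_eq_one.1 hm
      rw [e1] at h'
      exact Prod.ext (Subtype.ext e1.symm) (Subtype.ext (mul_left_cancel h'))
    · have hg : g.1 ∈ (subH : Set G) := g.2
      rw [subH_coe hs] at hg
      obtain ⟨a, ha, m, hm, e⟩ := hg
      exact ⟨(⟨a, ha⟩, ⟨m, hm⟩), Subtype.ext e⟩
  rw [← Nat.card_congr (Equiv.ofBijective f hb), Nat.card_prod, card_subA hs, card_subM hs]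

theorem index_subH (hc : Nat.card G = 86775571046077562880) : subH.index = 173067389 := by
  have := subH.card_mul_index
  rw [card_subH hs, hc] at this
  omega

end Cfsg.Agent.Lib.J4Cons78
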