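import Cfsg.Agent.Lib.J4Cons78.SylowData

/-! Checks on the table of the Sylow 2-subgroup. -/

set_option autoImplicit false
set_option maxRecDepth 20000
set_option Elab.async false

namespace Cfsg.Agent.Lib.J4Cons78

/-- Field of eleven bits. -/
def f11 (N k : ℕ) : ℕ := Nat.mod (Nat.shiftRight N (Nat.mul 11 k)) 2048

/-- A generator on a bit string by tables. -/
def fl (s v : ℕ) : ℕ :=
  Nat.xor (f11 (sylLow.getD s 0) (Nat.mod v 64)) (f11 (sylHigh.getD s 0) (Nat.div v 64))

/-- Right multiplication by a generator. -/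
def tab (s i : ℕ) : ℕ := Nat.mod (Nat.shiftRight (sylTab.getD s 0) (Nat.mul 10 i)) 1024

/-- The packed action of an element. -/
def rowsOf (i : ℕ) : ℕ :=
  Nat.mod (Nat.shiftRight sylRows (Nat.mul 121 i)) 2658455991569831745807614120560689152

/-- The image of a unit bit string under an element. -/
def rowOf (i r : ℕ) : ℕ := f11 (rowsOf i) r

/-- Compare an element times a generator with an element. -/
def edgeOk (s : ℕ) : ℕ → ℕ → ℕ → Bool
  | 0, _, _ => true
  | n + 1, a, b => Nat.beq (fl s (Nat.mod a 2048)) (Nat.mod b 2048) && edgeOk s n (Nat.div a 2048) (Nat.div b 2048)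

/-- The check for one generator. -/
def tabOk (s : ℕ) : Bool :=
  (List.range 1024).all fun i => edgeOk s 11 (rowsOf i) (rowsOf (tab s i))

theorem tab_ok : tabOk 0 = true ∧ tabOk 1 = true ∧ tabOk 2 = true ∧ tabOk 3 = true := by decide +kernel

theorem edgeOk_spec (s : ℕ) : ∀ (n a b : ℕ), edgeOk s n a b = true → ∀ r < n, fl s (f11 a r) = f11 b r
  | 0, _, _, _, r, hr => by omega
  | n + 1, a, b, h, r, hr => by
    simp only [edgeOk, Bool.and_eq_true] at h
    cases r with
    | zero => simpa [f11] using Nat.eq_of_beq_eq_true h.1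
    | succ r =>
      have key : ∀ N, f11 N (r + 1) = f11 (N / 2048) r := by
        intro N
        show N >>> (11 * (r + 1)) % 2048 = (N / 2048) >>> (11 * r) % 2048
        rw [show (2048 : ℕ) = 2 ^ 11 by norm_num, ← Nat.shiftRight_eq_div_pow, ← Nat.shiftRight_add,
          show 11 + 11 * r = 11 * (r + 1) by ring]
      rw [key, key]
      exact edgeOk_spec s n _ _ h.2 r (by omega)

theorem tab_spec {s i : ℕ} (hs : s < 4) (hi : i < 1024) {r : ℕ} (hr : r < 11) :
    fl s (rowOf i r) = rowOf (tab s i) r := by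
  obtain ⟨h0, h1, h2, h3⟩ := tab_ok
  have key : tabOk s = true := by
    rcases (by omega : s = 0 ∨ s = 1 ∨ s = 2 ∨ s = 3) with rfl | rfl | rfl | rfl <;> assumption
  exact edgeOk_spec s 11 _ _ (List.all_eq_true.1 key i (List.mem_range.2 hi)) r hr

theorem tab_lt (s i : ℕ) : tab s i < 1024 := Nat.mod_lt _ (by norm_num)

theorem f11_lt (N k : ℕ) : f11 N k < 2 ^ 11 := Nat.mod_lt _ (by norm_num)

end Cfsg.Agent.Lib.J4Cons78
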