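import Cfsg.Agent.Lib.J4Cons78.Centralizer
import Cfsg.Agent.Lib.J4Cons78.SylowTable

/-! A Sylow 2-subgroup of M24 inside J4 as 1024 indexed elements. -/

set_option autoImplicit false
set_option exponentiation.threshold 13000
set_option maxRecDepth 20000
set_option Elab.async false

namespace Cfsg.Agent.Lib.J4Cons78

/-- Letters of a coded word. -/
def decW : ℕ → ℕ → List ℕ
  | 0, _ => []
  | n + 1, c => bif Nat.beq (Nat.mod c 8) 0 then [] else (Nat.sub (Nat.mod c 8) 1) :: decW n (Nat.div c 8)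

/-- The word of an element. -/
def wordOf (i : ℕ) : List ℕ := decW 8 (Nat.mod (Nat.shiftRight sylCodes (Nat.mul 24 i)) 16777216)

/-- The predecessor and last letter. -/
def parOf (i : ℕ) : ℕ := Nat.mod (Nat.shiftRight sylPar (Nat.mul 12 i)) 4096

/-- Walk through the table. -/
def walkW : List ℕ → ℕ → ℕ
  | [], i => i
  | s :: w, i => walkW w (tab s i)

/-- The product of two indexed elements. -/
def mi (i j : ℕ) : ℕ := walkW (wordOf j) i

/-- A generator. -/
def gen4 (s : ℕ) : G := gval (sylWords.getD s [])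

/-- The value of a word in the generators. -/
def ev4 (w : List ℕ) : G := (w.map gen4).prod

/-- An indexed element. -/
def el (i : ℕ) : G := ev4 (wordOf i)

theorem tree_ok : ((List.range 1023).all fun k =>
    Nat.blt (parOf (k + 1) / 4) (k + 1) &&
      decide (wordOf (k + 1) = wordOf (parOf (k + 1) / 4) ++ [parOf (k + 1) % 4]) &&
      Nat.beq (tab (parOf (k + 1) % 4) (parOf (k + 1) / 4)) (k + 1)) = true ∧
    wordOf 0 = [] ∧ ((List.range 11).all fun r => Nat.beq (rowOf 0 r) (Nat.shiftLeft 1 r)) = true ∧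
    ((List.range 1024).all fun i => (wordOf i).all fun s => Nat.blt s 4) = true := by decide +kernel

theorem maps_ok : sylMaps.length = 4 ∧ ((List.range 4).all fun s =>
    (sylWords.getD s []).all (fun c => Nat.blt c 3) &&
    ((List.range 11).all fun r =>
      Nat.beq (actW (sylWords.getD s []) (2 ^ r)) ((sylMaps.getD s []).getD r 0)) &&
    ((List.range 64).all fun v => Nat.beq (f11 (sylLow.getD s 0) v) (lin (sylMaps.getD s []) v)) &&
    ((List.range 32).all fun v => Nat.beq (f11 (sylHigh.getD s 0) v) (lin (sylMaps.getD s []) (v * 64))) &&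
    Nat.beq (sylMaps.getD s []).length 11) = true := by decide +kernel

theorem order_ok : ((List.range 1023).all fun k =>
    Nat.blt (rowsOf (Nat.mod (Nat.shiftRight sylOrder (Nat.mul 10 k)) 1024))
      (rowsOf (Nat.mod (Nat.shiftRight sylOrder (Nat.mul 10 (k + 1))) 1024))) = true := by decide +kernel

theorem split_xor (v : ℕ) : v = v % 64 ^^^ (v / 64) * 64 := by
  apply Nat.eq_of_testBit_eq
  intro j
  rw [Nat.testBit_xor, show (64 : ℕ) = 2 ^ 6 by norm_num, Nat.testBit_mod_two_pow, Nat.mul_comm,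
    Nat.testBit_two_pow_mul, ← Nat.shiftRight_eq_div_pow, Nat.testBit_shiftRight]
  by_cases hj : j < 6
  · simp [hj, show ¬ j ≥ 6 by omega]
  · simp [hj, show j ≥ 6 by omega, show 6 + (j - 6) = j by omega]

theorem fl_eq {s : ℕ} (hs4 : s < 4) {v : ℕ} (hv : v < 2 ^ 11) : fl s v = lin (sylMaps.getD s []) v := by
  have h := List.all_eq_true.1 maps_ok.2 s (List.mem_range.2 hs4)
  simp only [Bool.and_eq_true, List.all_eq_true, List.mem_range] at h
  have hd : v / 64 < 32 := by omega
  show f11 _ (v % 64) ^^^ f11 _ (v / 64) = _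
  rw [Nat.eq_of_beq_eq_true (h.1.1.2 _ (Nat.mod_lt v (by norm_num))),
    Nat.eq_of_beq_eq_true (h.1.2 _ hd), ← lin_xor, ← split_xor]

theorem ev4_append (a b : List ℕ) : ev4 (a ++ b) = ev4 a * ev4 b := by simp [ev4]

variable (hs : IsSimpleGroup G)
include hs

theorem gen4_conj {s : ℕ} (hs4 : s < 4) {v : ℕ} (hv : v < 2 ^ 11) :
    (gen4 s)⁻¹ * emb v * gen4 s = emb (fl s v) := by
  have h := List.all_eq_true.1 maps_ok.2 s (List.mem_range.2 hs4)
  simp only [Bool.and_eq_true, List.all_eq_true, List.mem_range, Nat.blt_eq] at h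
  rw [gen4, emb_conj_word hs _ h.1.1.1.1 v hv, fl_eq hs4 hv]
  congr 1
  refine bits_induction (P := fun v => actW (sylWords.getD s []) v = lin (sylMaps.getD s []) v) ?_ ?_ ?_ v hv
  · show actW _ 0 = _
    rw [lin_zero]
    have := actW_xor (sylWords.getD s []) 0 0
    simpa using this
  · intro r hr
    show actW _ (2 ^ r) = _
    rw [Nat.eq_of_beq_eq_true (h.1.1.1.2 r hr), lin_unit]
    rw [Nat.eq_of_beq_eq_true h.2]; exact hr
  · intro u w hu hw
    show actW _ (u ^^^ w) = _
    rw [actW_xor, lin_xor, hu, hw]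

theorem el_conj : ∀ i < 1024, ∀ r < 11, (el i)⁻¹ * emb (2 ^ r) * el i = emb (rowOf i r) := by
  intro i
  induction i using Nat.strong_induction_on with
  | _ i ih =>
    intro hi r hr
    obtain ⟨htree, h0, hid, -⟩ := tree_ok
    rcases Nat.eq_zero_or_pos i with rfl | hpos
    · rw [el, h0, Nat.eq_of_beq_eq_true (List.all_eq_true.1 hid r (List.mem_range.2 hr)),
        show Nat.shiftLeft 1 r = 2 ^ r from Nat.one_shiftLeft r]
      simp [ev4]
    · have h := List.all_eq_true.1 htree (i - 1) (List.mem_range.2 (by omega))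
      rw [show i - 1 + 1 = i by omega] at h
      simp only [Bool.and_eq_true, Nat.blt_eq, decide_eq_true_eq] at h
      set p := parOf i / 4
      set s := parOf i % 4
      have hs4 : s < 4 := Nat.mod_lt _ (by norm_num)
      have e : el i = el p * gen4 s := by rw [el, h.1.2, ev4_append]; simp [el, ev4]
      have htab : tab s p = i := Nat.eq_of_beq_eq_true h.2
      have hp := ih p h.1.1 (by omega) r hr
      have hconj := gen4_conj hs hs4 (v := rowOf p r) (f11_lt _ _)
      rw [tab_spec hs4 (by omega) hr, htab, ← hp] at hconj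
      rw [← hconj, e]; group

theorem gen4_mem (s : ℕ) : gen4 s ∈ subM := by
  rcases Nat.lt_or_ge s 4 with h | h
  · have h' := List.all_eq_true.1 maps_ok.2 s (List.mem_range.2 h)
    simp only [Bool.and_eq_true, List.all_eq_true, List.mem_range, Nat.blt_eq] at h'
    rw [gen4, gval_eq_wval _ h'.1.1.1.1]
    exact Cfsg.Agent.Lib.M24Pres.wval_mem gX gY _
  · rw [gen4, List.getD_eq_default _ _ (by
      rw [show sylWords.length = 4 by decide +kernel]; exact h), gval_nil]
    exact subM.one_mem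

theorem el_mem (i : ℕ) : el i ∈ subM := by
  rw [el, ev4]
  refine Subgroup.list_prod_mem _ fun g hg => ?_
  obtain ⟨s, -, rfl⟩ := List.mem_map.1 hg
  exact gen4_mem hs s

/-- Elements of M24 acting alike on the 2^11 are equal. -/
theorem eq_of_conj_units {a b : G} (ha : a ∈ subM) (hb : b ∈ subM)
    (h : ∀ r < 11, a⁻¹ * emb (2 ^ r) * a = b⁻¹ * emb (2 ^ r) * b) : a = b := by
  have hm : b * a⁻¹ ∈ subM := subM.mul_mem hb (subM.inv_mem ha)
  refine (mul_inv_eq_one.1 (subM_faithful hs hm (Subgroup.mem_centralizer_iff.2 ?_))).symm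
  rintro _ ⟨v, hv, rfl⟩
  refine (bits_induction (n := 11) (P := fun v => emb v * (b * a⁻¹) = b * a⁻¹ * emb v) ?_ ?_ ?_ v hv)
  · show _ = _
    rw [emb_zero, one_mul, mul_one]
  · intro r hr
    calc emb (2 ^ r) * (b * a⁻¹) = b * (b⁻¹ * emb (2 ^ r) * b) * a⁻¹ := by group
      _ = b * (a⁻¹ * emb (2 ^ r) * a) * a⁻¹ := by rw [h r hr]
      _ = b * a⁻¹ * emb (2 ^ r) := by group
  · intro u w hu hw
    show emb (u ^^^ w) * _ = _ * emb (u ^^^ w)
    rw [emb_xor hs, mul_assoc, hw, ← mul_assoc, hu, mul_assoc]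

theorem el_mul_gen {i s : ℕ} (hi : i < 1024) (hs4 : s < 4) : el i * gen4 s = el (tab s i) := by
  refine eq_of_conj_units hs (subM.mul_mem (el_mem hs i) (gen4_mem hs s)) (el_mem hs _) fun r hr => ?_
  rw [el_conj hs _ (tab_lt s i) r hr, ← tab_spec hs4 hi hr,
    ← gen4_conj hs hs4 (show rowOf i r < 2 ^ 11 from f11_lt _ _), ← el_conj hs i hi r hr]
  group

theorem el_mul_word : ∀ (w : List ℕ), (∀ s ∈ w, s < 4) → ∀ i < 1024,
    el i * ev4 w = el (walkW w i) ∧ walkW w i < 1024
  | [], _, i, hi => ⟨by simp [ev4, walkW], hi⟩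
  | s :: w, h, i, hi => by
    have ih := el_mul_word w (fun t ht => h t (List.mem_cons_of_mem s ht)) (tab s i) (tab_lt s i)
    refine ⟨?_, ih.2⟩
    rw [walkW, ← ih.1, ← el_mul_gen hs hi (h s List.mem_cons_self)]
    simp [ev4, mul_assoc]

theorem el_mul {i j : ℕ} (hi : i < 1024) (hj : j < 1024) : el i * el j = el (mi i j) ∧ mi i j < 1024 := by
  refine el_mul_word hs _ (fun s hs' => ?_) i hi
  have := List.all_eq_true.1 (List.all_eq_true.1 tree_ok.2.2.2 j (List.mem_range.2 hj)) s hs'
  exact Nat.blt_eq.mp this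

omit hs in
theorem el_zero : el 0 = 1 := by rw [el, tree_ok.2.1]; rfl

theorem el_inj {i j : ℕ} (hi : i < 1024) (hj : j < 1024) (h : el i = el j) : i = j := by
  let σ : Fin 1024 → Fin 1024 := fun k =>
    ⟨Nat.mod (Nat.shiftRight sylOrder (Nat.mul 10 k.1)) 1024, Nat.mod_lt _ (by norm_num)⟩
  have hmono : StrictMono fun k : Fin 1024 => rowsOf (σ k).1 := by
    refine Fin.strictMono_iff_lt_succ.2 fun k => ?_
    exact Nat.blt_eq.mp (List.all_eq_true.1 order_ok k.1 (List.mem_range.2 k.2))
  have hσ : Function.Surjective σ :=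
    Finite.injective_iff_surjective.1 fun a b hab => hmono.injective (show rowsOf (σ a).1 = rowsOf (σ b).1 by rw [hab])
  obtain ⟨a, ha⟩ := hσ ⟨i, hi⟩
  obtain ⟨b, hb⟩ := hσ ⟨j, hj⟩
  have hrow : ∀ r < 11, rowOf i r = rowOf j r := fun r hr =>
    emb_inj hs (f11_lt _ _) (f11_lt _ _) (by rw [← el_conj hs i hi r hr, ← el_conj hs j hj r hr, h])
  have hr : rowsOf i = rowsOf j := by
    apply Nat.eq_of_testBit_eq
    intro t
    rcases Nat.lt_or_ge t 121 with ht | ht
    · have h1 := congrArg (fun x => Nat.testBit x (t % 11)) (hrow (t / 11) (by omega))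
      have key : ∀ N, Nat.testBit (f11 N (t / 11)) (t % 11) = N.testBit t := by
        intro N
        show Nat.testBit (N >>> (11 * (t / 11)) % 2 ^ 11) _ = _
        rw [Nat.testBit_mod_two_pow, decide_eq_true (Nat.mod_lt t (by norm_num)), Bool.true_and,
          Nat.testBit_shiftRight, Nat.div_add_mod]
      simpa only [rowOf, key] using h1
    · have key : ∀ i, (rowsOf i).testBit t = false := fun i => Nat.testBit_lt_two_pow
        (lt_of_lt_of_le (show rowsOf i < 2 ^ 121 from Nat.mod_lt _ (by norm_num))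
          (Nat.pow_le_pow_right (by norm_num) ht))
      rw [key, key]
  have := hmono.injective (a₁ := a) (a₂ := b) (by simp only [ha, hb, hr])
  rw [this, hb] at ha
  exact (congrArg Fin.val ha).symm

/-- The Sylow 2-subgroup of M24. -/
def subT : Subgroup G := Subgroup.closure {g | ∃ s < 4, gen4 s = g}

theorem subT_le : subT ≤ subM := by
  rw [subT, Subgroup.closure_le]
  rintro _ ⟨s, -, rfl⟩
  exact gen4_mem hs s

theorem el_mem_subT {i : ℕ} (hi : i < 1024) : el i ∈ subT := by
  rw [el, ev4]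
  refine Subgroup.list_prod_mem _ fun g hg => ?_
  obtain ⟨s, hs', rfl⟩ := List.mem_map.1 hg
  exact Subgroup.subset_closure ⟨s, Nat.blt_eq.mp
    (List.all_eq_true.1 (List.all_eq_true.1 tree_ok.2.2.2 i (List.mem_range.2 hi)) s hs'), rfl⟩

theorem mem_subT [Finite G] {g : G} : g ∈ subT ↔ ∃ i < 1024, el i = g := by
  refine ⟨fun h => ?_, by rintro ⟨i, hi, rfl⟩; exact el_mem_subT hs hi⟩
  rw [subT, ← Subgroup.mem_toSubmonoid, Subgroup.closure_toSubmonoid_of_finite] at h
  induction h using Submonoid.closure_induction_right with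
  | one => exact ⟨0, by norm_num, el_zero⟩
  | mul_right x _ y hy ih =>
    obtain ⟨i, hi, rfl⟩ := ih
    obtain ⟨s, hs4, rfl⟩ := hy
    exact ⟨tab s i, tab_lt s i, (el_mul_gen hs hi hs4).symm⟩

theorem card_subT [Finite G] : Nat.card subT = 1024 := by
  let f : Fin 1024 → subT := fun i => ⟨el i.1, el_mem_subT hs i.2⟩
  have hb : Function.Bijective f := by
    refine ⟨fun i j h => Fin.ext (el_inj hs i.2 j.2 (congrArg Subtype.val h)), fun g => ?_⟩
    obtain ⟨i, hi, e⟩ := (mem_subT hs).1 g.2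
    exact ⟨⟨i, hi⟩, Subtype.ext e⟩
  rw [← Nat.card_congr (Equiv.ofBijective f hb), Nat.card_eq_fintype_card, Fintype.card_fin]

end Cfsg.Agent.Lib.J4Cons78
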