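import Cfsg.Agent.Lib.J4Cons78.SylowModel

/-! Checks on the normal elementary abelian subgroups of the Sylow 2-subgroup. -/

set_option autoImplicit false
set_option maxRecDepth 20000
set_option Elab.async false

namespace Cfsg.Agent.Lib.J4Cons78

/-- The trivial subgroup. -/
def rootSub : NormalSub := ⟨1, [0], [], [], [], []⟩

/-- The level of a given rank. -/
def level : ℕ → List NormalSub
  | 0 => [rootSub]
  | k + 1 => sylLevels.getD k []

/-- A set of indices as bits. -/
def bitsOf : List ℕ → ℕ
  | [] => 0
  | i :: l => Nat.lor (Nat.shiftLeft 1 i) (bitsOf l)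

/-- The bit test. -/
def inMask (m i : ℕ) : Bool := Nat.testBit m i

/-- The extension of a subgroup by an element. -/
def extMask (W : NormalSub) (j : ℕ) : ℕ := Nat.lor W.mask (bitsOf (W.els.map fun w => mi w j))

/-- One element is no extension, or leads to the next level. -/
def candOk (next : List NormalSub) (W : NormalSub) (j : ℕ) : Bool :=
  inMask W.mask j || !Nat.beq (mi j j) 0 || !(W.gens.all fun g => Nat.beq (mi j g) (mi g j)) ||
    !((List.range 4).all fun s => W.els.any fun w => Nat.beq (mi (mi (tab s 0) j) w) (tab s j)) ||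
    next.any fun V => Nat.beq V.mask (extMask W j)

/-- The consistency of one entry. -/
def entryOk (W : NormalSub) : Bool :=
  Nat.beq W.mask (bitsOf W.els) && (W.els.all fun i => Nat.blt i 1024) &&
    W.gens.all fun g => W.els.any fun i => Nat.beq i g

/-- The map of one element. -/
def elMap (g : ℕ) : List ℕ := (List.range 11).map fun r => rowOf g r

/-- The differences of the maps of several elements. -/
def phiG : List ℕ → ℕ → ℕ
  | [], _ => 0
  | g :: gs, v => Nat.xor (Nat.xor (lin (elMap g) v) v) (Nat.shiftLeft (phiG gs v) 11)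

/-- The certificate of the bound on fixed points. -/
def fixOk (k : ℕ) (W : NormalSub) : Bool :=
  Nat.blt (k + W.base.length) 11 && (W.coord.all fun c => Nat.blt c (2 ^ W.base.length)) &&
    (List.range 11).all fun r =>
      Nat.beq (Nat.xor (lin W.base (lin W.coord (2 ^ r))) (lin W.left (phiG W.gens (2 ^ r)))) (2 ^ r)

/-- All checks on one level. -/
def levelOk (k : ℕ) : Bool :=
  (level k).all fun W => entryOk W && (Nat.beq k 0 || fixOk k W) &&
    (List.range 1024).all fun j => candOk (level (k + 1)) W j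

theorem levels_ok : ((List.range 7).all levelOk) = true := by decide +kernel

theorem level_seven : level 7 = [] := rfl

theorem testBit_bitsOf : ∀ (l : List ℕ) (i : ℕ), (bitsOf l).testBit i = true ↔ i ∈ l
  | [], i => by simp [bitsOf]
  | a :: l, i => by
    show (1 <<< a ||| bitsOf l).testBit i = true ↔ _
    rw [Nat.testBit_lor, Bool.or_eq_true, testBit_bitsOf l i, Nat.one_shiftLeft, Nat.testBit_two_pow,
      decide_eq_true_eq, List.mem_cons]
    exact or_congr_left eq_comm

theorem phiG_xor : ∀ (gs : List ℕ) (u v : ℕ), phiG gs (u ^^^ v) = phiG gs u ^^^ phiG gs v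
  | [], _, _ => (Nat.zero_xor 0).symm
  | g :: gs, u, v => by
    show (lin (elMap g) (u ^^^ v) ^^^ (u ^^^ v)) ^^^ phiG gs (u ^^^ v) <<< 11 =
      ((lin (elMap g) u ^^^ u) ^^^ phiG gs u <<< 11) ^^^ ((lin (elMap g) v ^^^ v) ^^^ phiG gs v <<< 11)
    rw [lin_xor, phiG_xor gs u v, Nat.shiftLeft_xor_distrib]
    simp [Nat.xor_assoc, Nat.xor_left_comm]

theorem phiG_eq_zero : ∀ (gs : List ℕ) (v : ℕ), (∀ g ∈ gs, lin (elMap g) v = v) → phiG gs v = 0
  | [], _, _ => rfl
  | g :: gs, v, h => by
    show (lin (elMap g) v ^^^ v) ^^^ phiG gs v <<< 11 = 0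
    rw [h g List.mem_cons_self, phiG_eq_zero gs v fun x hx => h x (List.mem_cons_of_mem g hx)]
    simp

end Cfsg.Agent.Lib.J4Cons78
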